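import Groth.Agent.BigSiteLib.Along

/-!
# Cohomology of sheaves pulled back from the small etale site
-/

set_option autoImplicit false

universe u

open CategoryTheory CategoryTheory.Limits AlgebraicGeometry Opposite

namespace Groth.Agent.BigSiteLib

variable {S T : Scheme.{u}} (f : T ⟶ S)

set_option backward.isDefEq.respectTransparency.types false in
/-- Small and big direct images. -/
noncomputable def pushResIso : BigSite.pushBig Scheme.etalePrecoverage f AddCommGrpCat.{u + 1} ⋙ BigSite.resEt Scheme.etalePrecoverage S ≅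
    BigSite.resEt Scheme.etalePrecoverage T ⋙ EtCoh.push f :=
  haveI : (EtFppf.a S ⋙ Over.pullback f).IsContinuous S.smallEtaleTopology (QuotSh.J Scheme.etalePrecoverage T) :=
    Functor.isContinuous_comp _ _ _ (QuotSh.J Scheme.etalePrecoverage S) _
  haveI : (EtCoh.bc f ⋙ EtFppf.a T).IsContinuous S.smallEtaleTopology (QuotSh.J Scheme.etalePrecoverage T) :=
    Functor.isContinuous_comp _ _ _ T.smallEtaleTopology _
  Functor.sheafPushforwardContinuousComp (EtFppf.a S) (Over.pullback f) AddCommGrpCat.{u + 1}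
      S.smallEtaleTopology (QuotSh.J Scheme.etalePrecoverage S) (QuotSh.J Scheme.etalePrecoverage T) ≪≫
    Functor.sheafPushforwardContinuousIso
      (F := EtFppf.a S ⋙ Over.pullback f) (F' := EtCoh.bc f ⋙ EtFppf.a T)
      (MorphismProperty.Over.pullbackCompForgetIso (P := EtCoh.etaleMP.{u}) (Q := ⊤) f).symm AddCommGrpCat.{u + 1} _ _ ≪≫
    (Functor.sheafPushforwardContinuousComp (EtCoh.bc f) (EtFppf.a T) AddCommGrpCat.{u + 1}
      S.smallEtaleTopology T.smallEtaleTopology (QuotSh.J Scheme.etalePrecoverage T)).symm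

/-- Pullback from the small site commutes with localization. -/
noncomputable def piPullIso : EtCoh.pull f ⋙ BigSite.piEtPull Scheme.etalePrecoverage T ≅
    BigSite.piEtPull Scheme.etalePrecoverage S ⋙ BigSite.pullBig Scheme.etalePrecoverage f AddCommGrpCat.{u + 1} :=
  Adjunction.leftAdjointUniq
    (((EtCoh.pullPushAdj f).comp (BigSite.piEtAdj Scheme.etalePrecoverage T)).ofNatIsoRight (pushResIso f).symm)
    ((BigSite.piEtAdj Scheme.etalePrecoverage S).comp (BigSite.bigAdj Scheme.etalePrecoverage f AddCommGrpCat.{u + 1}))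

/-- Pullback from the small site, restricted along a morphism. -/
noncomputable def resAlongPiPullIso (F : EtCoh.Ab S) :
    (EtCoh.pull f).obj F ≅ (BigSite.resEtAlong Scheme.etalePrecoverage f).obj ((BigSite.piEtPull Scheme.etalePrecoverage S).obj F) :=
  haveI := isIso_unit T ((EtCoh.pull f).obj F)
  asIso ((BigSite.piEtAdj Scheme.etalePrecoverage T).unit.app ((EtCoh.pull f).obj F)) ≪≫
    (BigSite.resEt Scheme.etalePrecoverage T).mapIso ((piPullIso f).app F)

theorem HU_piPull_iso (n : ℕ) (F : EtCoh.Ab S) :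
    Nonempty (BigSite.HU Scheme.etalePrecoverage ((BigSite.piEtPull Scheme.etalePrecoverage S).obj F) n (Over.mk f) ≃+
      EtCoh.H T ((EtCoh.pull f).obj F) n) := by
  obtain ⟨e⟩ := H_resEt_iso T ((BigSite.pullBig Scheme.etalePrecoverage f AddCommGrpCat.{u + 1}).obj ((BigSite.piEtPull Scheme.etalePrecoverage S).obj F)) n
  exact ⟨e.symm.trans (((EtCoh.HF T n).mapIso (resAlongPiPullIso f F).symm).addCommGroupIsoToAddEquiv)⟩

end Groth.Agent.BigSiteLib
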