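import Groth.Agent.BigSiteLib.PiFpqc
import Groth.Prelude.Def_EtFppf

/-!
# Pullback from the small etale site to the big fppf site
-/

set_option autoImplicit false

universe u

open CategoryTheory CategoryTheory.Limits AlgebraicGeometry Opposite

namespace Groth.Agent.BigSiteLib

set_option backward.isDefEq.respectTransparency.types false

variable {S : Scheme.{u}} (F : EtCoh.Ab S)

theorem isSheaf_fppf_piPull :
    Presheaf.IsSheaf (EtFppf.J S) ((BigSite.piEtPull Scheme.etalePrecoverage S).obj F).obj :=
  (Presheaf.isSheaf_iff_isSheaf_forget _ _ (forget AddCommGrpCat.{u + 1})).2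
    ((isSheaf_iff_isSheaf_of_type _ _).2
      (Presieve.isSheaf_of_le _
        (show EtFppf.J S ≤ QuotSh.J Scheme.fpqcPrecoverage S from fun _ _ h => Scheme.fppfTopology_le_fpqcTopology _ h)
        (isSheaf_fpqc_of_etInduced (etInduced_piP F))))

/-- The pullback to the big etale site, as an fppf sheaf. -/
noncomputable abbrev piFppf : EtFppf.AbF S :=
  ⟨((BigSite.piEtPull Scheme.etalePrecoverage S).obj F).obj, isSheaf_fppf_piPull F⟩

variable [EtFppf.ACont S]

/-- An fppf sheaf as a big etale sheaf. -/
noncomputable abbrev toEt (G : EtFppf.AbF S) : Sheaf (QuotSh.J Scheme.etalePrecoverage S) AddCommGrpCat.{u + 1} :=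
  ⟨G.obj, fun A => Presieve.isSheaf_of_le _
    (show QuotSh.J Scheme.etalePrecoverage S ≤ EtFppf.J S from fun _ _ h =>
      Precoverage.toGrothendieck_mono BigSite.etalePrecoverage_le_fppfPrecoverage _ h) (G.property A)⟩

/-- The canonical map into the pullback to the big etale site. -/
noncomputable def aPullHom : (EtFppf.aPull S).obj F ⟶ piFppf F :=
  ((EtFppf.aAdj S).homEquiv F (piFppf F)).symm
    (ObjectProperty.homMk ((BigSite.piEtAdj Scheme.etalePrecoverage S).unit.app F).hom)

/-- The canonical map out of the pullback to the big etale site. -/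
noncomputable def aPullInv : piFppf F ⟶ (EtFppf.aPull S).obj F :=
  ObjectProperty.homMk (((BigSite.piEtAdj Scheme.etalePrecoverage S).homEquiv F (toEt ((EtFppf.aPull S).obj F))).symm
    (ObjectProperty.homMk ((EtFppf.aAdj S).unit.app F).hom)).hom

theorem res_aPullHom (V : S.Etale) :
    ((EtFppf.aAdj S).unit.app F).hom.app (op V) ≫ (aPullHom F).hom.app (op ((EtFppf.a S).obj V)) =
      ((BigSite.piEtAdj Scheme.etalePrecoverage S).unit.app F).hom.app (op V) := by
  have h := ((EtFppf.aAdj S).homEquiv F (piFppf F)).apply_symm_apply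
    (ObjectProperty.homMk ((BigSite.piEtAdj Scheme.etalePrecoverage S).unit.app F).hom)
  rw [Adjunction.homEquiv_unit] at h
  exact congr(($h).hom.app (op V))

theorem res_aPullInv (V : S.Etale) :
    ((BigSite.piEtAdj Scheme.etalePrecoverage S).unit.app F).hom.app (op V) ≫ (aPullInv F).hom.app (op ((EtFppf.a S).obj V)) =
      ((EtFppf.aAdj S).unit.app F).hom.app (op V) := by
  have h := ((BigSite.piEtAdj Scheme.etalePrecoverage S).homEquiv F (toEt ((EtFppf.aPull S).obj F))).apply_symm_apply
    (ObjectProperty.homMk ((EtFppf.aAdj S).unit.app F).hom)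
  rw [Adjunction.homEquiv_unit] at h
  exact congr(($h).hom.app (op V))

/-- The two pullbacks agree. -/
noncomputable def aPullIso : (EtFppf.aPull S).obj F ≅ piFppf F where
  hom := aPullHom F
  inv := aPullInv F
  hom_inv_id := ((EtFppf.aAdj S).homEquiv F _).injective (by
    rw [Adjunction.homEquiv_unit, Adjunction.homEquiv_unit]
    ext1; ext1; funext V
    show ((EtFppf.aAdj S).unit.app F).hom.app V ≫ (aPullHom F).hom.app _ ≫ (aPullInv F).hom.app _ =
      ((EtFppf.aAdj S).unit.app F).hom.app V ≫ 𝟙 _
    exact (Category.assoc _ _ _).symm.trans ((congrArg (· ≫ _) (res_aPullHom F V.unop)).trans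
      ((res_aPullInv F V.unop).trans (Category.comp_id _).symm)))
  inv_hom_id := by
    have h : (ObjectProperty.homMk (aPullInv F ≫ aPullHom F).hom :
        (BigSite.piEtPull Scheme.etalePrecoverage S).obj F ⟶ (BigSite.piEtPull Scheme.etalePrecoverage S).obj F) = 𝟙 _ := by
      refine ((BigSite.piEtAdj Scheme.etalePrecoverage S).homEquiv F _).injective ?_
      rw [Adjunction.homEquiv_unit, Adjunction.homEquiv_unit]
      ext1; ext1; funext V
      show ((BigSite.piEtAdj Scheme.etalePrecoverage S).unit.app F).hom.app V ≫ (aPullInv F).hom.app _ ≫ (aPullHom F).hom.app _ =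
        ((BigSite.piEtAdj Scheme.etalePrecoverage S).unit.app F).hom.app V ≫ 𝟙 _
      exact (Category.assoc _ _ _).symm.trans ((congrArg (· ≫ _) (res_aPullInv F V.unop)).trans
        ((res_aPullHom F V.unop).trans (Category.comp_id _).symm))
    ext1
    exact congr(($h).hom)

/-- Sections of the pullback to the big fppf site. -/
theorem aPull_sections {T : Scheme.{u}} (f : T ⟶ S) :
    Nonempty (((EtFppf.aPull S).obj F).obj.obj (op (Over.mk f)) ≅
      ((EtCoh.pull f).obj F).obj.obj (op (EtCoh.top T))) :=
  ⟨((sheafToPresheaf _ _).mapIso (aPullIso F)).app (op (Over.mk f)) ≪≫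
    ((BigSite.piEtPull Scheme.etalePrecoverage S).obj F).obj.mapIso
      (Over.isoMk (Iso.refl _) ((Category.id_comp _).trans (Category.id_comp _).symm) :
        (Over.map f).obj ((EtFppf.a T).obj (EtCoh.top T)) ≅ Over.mk f).op ≪≫
    (((sheafToPresheaf _ _).mapIso (resAlongPiPullIso f F)).app (op (EtCoh.top T))).symm⟩

end Groth.Agent.BigSiteLib
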