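import Groth.Prelude.Def_BigSite
import Groth.Agent.EtFound.LiftEtale
import Groth.Agent.SmoothSecLib.Basic

/-!
# Base change along closed immersions is almost cocontinuous on big sites
-/

set_option autoImplicit false

universe u

open CategoryTheory CategoryTheory.Limits AlgebraicGeometry Opposite TopologicalSpace

namespace Groth.Agent.BigSiteLib

variable {X Y : Scheme.{u}} (f : X ⟶ Y) [IsClosedImmersion f] {P : MorphismProperty Scheme.{u}}
  [P.IsStableUnderBaseChange] [P.IsMultiplicative]

theorem almostCocont (het : ∀ {A B : Scheme.{u}} (g : A ⟶ B), Etale g → P g)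
    (hsec : ∀ {A B : Scheme.{u}} (g : A ⟶ B), P g → Smooth g) :
    BigSite.IsAlmostCocontinuous (Over.pullback f) (QuotSh.J (Scheme.precoverage P) Y) (QuotSh.J (Scheme.precoverage P) X) := by
  intro U R hR
  let R' : Sieve U :=
    { arrows := fun V g => (⊥ : Sieve ((Over.pullback f).obj V)) ∈ QuotSh.J (Scheme.precoverage P) X _ ∨ R ((Over.pullback f).map g)
      downward_closed := by
        rintro V W g (hg | hg) k
        · refine Or.inl ?_
          have h := (QuotSh.J (Scheme.precoverage P) X).pullback_stable ((Over.pullback f).map k) hg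
          rwa [Sieve.pullback_bot] at h
        · refine Or.inr ?_
          rw [Functor.map_comp]
          exact R.downward_closed hg _ }
  refine ⟨R', ?_, fun V g h => h⟩
  haveI : IsClosedImmersion (pullback.fst U.hom f) := inferInstance
  have hR' : Sieve.overEquiv _ R ∈ (Scheme.precoverage P).toGrothendieck ((Over.pullback f).obj U).left := hR
  rw [Precoverage.mem_toGrothendieck_iff_of_isStableUnderComposition] at hR'
  obtain ⟨R₀, hR₀, hle⟩ := hR'
  obtain ⟨ι, Z, φ, rfl⟩ := R₀.exists_eq_ofArrows
  obtain ⟨hs, hP⟩ := (Scheme.ofArrows_mem_precoverage_iff _).1 hR₀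
  have key : ∀ y : U.left, ∃ (W : Scheme.{u}) (g : W ⟶ U.left), Etale g ∧ y ∈ Set.range g ∧
      R'.arrows (Over.homMk g : Over.mk (g ≫ U.hom) ⟶ U) := by
    intro y
    by_cases hy : y ∈ Set.range (pullback.fst U.hom f)
    · obtain ⟨z, hz⟩ := hy
      obtain ⟨j, w, hw⟩ := hs z
      haveI := hsec _ (hP j)
      obtain ⟨W', g, w', -, hg, hgw, h, hh⟩ := SmoothSecLib.exists_etale_section_scheme (φ j) w
      have hmem : (Sieve.overEquiv _ R) g := by
        rw [← hh]
        exact Sieve.downward_closed _ (hle _ _ (Presieve.ofArrows.mk j)) h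
      haveI := hg
      obtain ⟨V, m, hm, -, hrange⟩ := EtFound.exists_etale_lift (pullback.fst U.hom f) g w'
      obtain ⟨p, hp⟩ := hrange
      refine ⟨V.left, V.hom, V.prop, ⟨pullback.fst V.hom (pullback.fst U.hom f) p, ?_⟩, Or.inr ?_⟩
      · rw [← Scheme.Hom.comp_apply, pullback.condition, ← hm, Scheme.Hom.comp_apply, Scheme.Hom.comp_apply, hp]
        exact (congrArg (pullback.fst U.hom f) (hgw.trans hw)).trans hz
      · let gV : Over.mk (V.hom ≫ U.hom) ⟶ U := Over.homMk V.hom
        let l : ((Over.pullback f).obj (Over.mk (V.hom ≫ U.hom))).left ⟶ pullback V.hom (pullback.fst U.hom f) :=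
          pullback.lift (pullback.fst (V.hom ≫ U.hom) f) ((Over.pullback f).map gV).left (by
            exact (pullback.lift_fst _ _ _).symm)
        have e : (l ≫ m) ≫ g = ((Over.pullback f).map gV).left := by
          rw [Category.assoc, hm]
          exact pullback.lift_snd _ _ _
        have h2 : (Sieve.overEquiv _ R) ((Over.pullback f).map gV).left := e ▸ Sieve.downward_closed _ hmem (l ≫ m)
        have h3 := (Sieve.overEquiv_iff R _).1 h2
        let i : (Over.pullback f).obj (Over.mk (V.hom ≫ U.hom)) ⟶
            Over.mk (((Over.pullback f).map gV).left ≫ ((Over.pullback f).obj U).hom) :=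
          Over.homMk (𝟙 _) (by rw [Category.id_comp]; exact Over.w ((Over.pullback f).map gV))
        have h4 : i ≫ Over.homMk ((Over.pullback f).map gV).left = (Over.pullback f).map gV :=
          Over.OverMorphism.ext (Category.id_comp _)
        rw [← h4]
        exact R.downward_closed h3 i
    · let O : U.left.Opens := ⟨(Set.range (pullback.fst U.hom f))ᶜ, (pullback.fst U.hom f).isClosedEmbedding.isClosed_range.isOpen_compl⟩
      refine ⟨O.toScheme, O.ι, inferInstance, ⟨⟨y, hy⟩, rfl⟩, Or.inl ?_⟩
      haveI : IsEmpty ((Over.pullback f).obj (Over.mk (O.ι ≫ U.hom))).left := ⟨fun p => by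
        have h : pullback.fst (O.ι ≫ U.hom) f ≫ O.ι =
            ((Over.pullback f).map (Over.homMk O.ι : Over.mk (O.ι ≫ U.hom) ⟶ U)).left ≫ pullback.fst U.hom f :=
          (pullback.lift_fst _ _ _).symm
        exact (pullback.fst (O.ι ≫ U.hom) f p).2 ⟨_, ((congrArg (fun t => t p) h).trans (Scheme.Hom.comp_apply _ _ p)).symm.trans
          (Scheme.Hom.comp_apply _ _ p)⟩⟩
      show Sieve.overEquiv _ (⊥ : Sieve _) ∈ (Scheme.precoverage P).toGrothendieck ((Over.pullback f).obj (Over.mk (O.ι ≫ U.hom))).left
      rw [map_bot, ← Sieve.generate_bot]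
      exact Precoverage.generate_mem_toGrothendieck (Scheme.bot_mem_precoverage _ _)
  choose W g hg hy hmem using key
  show Sieve.overEquiv U R' ∈ (Scheme.precoverage P).toGrothendieck U.left
  refine GrothendieckTopology.superset_covering _ ?_ (Precoverage.generate_mem_toGrothendieck
    (J := Scheme.precoverage P) ((Scheme.ofArrows_mem_precoverage_iff _).2 ⟨fun y => ⟨y, hy y⟩, fun y => het _ (hg y)⟩))
  rw [Sieve.generate_le_iff]
  rintro _ _ ⟨y⟩
  exact (Sieve.overEquiv_iff R' (g y)).2 (hmem y)

end Groth.Agent.BigSiteLib
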