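import Mathlib.CategoryTheory.Sites.LeftExact
import Groth.Prelude.Def_BigSite
import Mathlib.CategoryTheory.Sites.Limits
import Mathlib.CategoryTheory.Sites.LocallyBijective
import Mathlib.CategoryTheory.Sites.Continuous
import Mathlib.CategoryTheory.IsConnected

/-!
# Almost cocontinuous functors
-/

set_option autoImplicit false
set_option backward.isDefEq.respectTransparency false
set_option linter.unusedVariables false
set_option linter.style.haveILetI false

universe w v u

open CategoryTheory CategoryTheory.Limits Opposite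

namespace Groth.Agent.BigSiteLib

variable {C D : Type (u + 1)} [Category.{u} C] [Category.{u} D]
  {J : GrothendieckTopology C} {K : GrothendieckTopology D} (F : C ⥤ D) [F.IsContinuous J K]
  (hF : BigSite.IsAlmostCocontinuous F J K)

/-- The sheafification comparison. -/
noncomputable def comparisonAC (G : Dᵒᵖ ⥤ Type (u + 1)) :
    (presheafToSheaf J (Type (u + 1))).obj (F.op ⋙ G) ⟶
      (F.sheafPushforwardContinuous (Type (u + 1)) J K).obj ((presheafToSheaf K (Type (u + 1))).obj G) :=
  ((sheafificationAdjunction J (Type (u + 1))).homEquiv (F.op ⋙ G)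
    ((F.sheafPushforwardContinuous (Type (u + 1)) J K).obj ((presheafToSheaf K (Type (u + 1))).obj G))).symm
      (Functor.whiskerLeft F.op (toSheafify K G))

include hF in
theorem isIso_comparisonAC (G : Dᵒᵖ ⥤ Type (u + 1))
    (hG : ∀ V : D, (⊥ : Sieve V) ∈ K V → Nonempty (Unique (G.obj (op V)))) : IsIso (comparisonAC (J := J) (K := K) F G) := by
  let m := Functor.whiskerLeft F.op (toSheafify K G)
  haveI : Presheaf.IsLocallySurjective J m := ⟨fun {U} s => by
    obtain ⟨R', hR', hR⟩ := hF U _ (Presheaf.imageSieve_mem K (toSheafify K G) (U := op (F.obj U)) s)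
    refine J.superset_covering (fun V g hg => ?_) hR'
    rcases hR g hg with h | ⟨t, ht⟩
    · obtain ⟨i⟩ := hG _ h
      refine ⟨i.default, ?_⟩
      exact (Types.isTerminalEquivUnique _ (((presheafToSheaf K (Type (u + 1))).obj G).isTerminalOfBotCover _ h)).uniq _ |>.trans
        ((Types.isTerminalEquivUnique _ (((presheafToSheaf K (Type (u + 1))).obj G).isTerminalOfBotCover _ h)).uniq _).symm
    · exact ⟨t, ht⟩⟩
  haveI : Presheaf.IsLocallyInjective J m := ⟨fun {U} x y e => by
    obtain ⟨R', hR', hR⟩ := hF U.unop _ (Presheaf.equalizerSieve_mem K (toSheafify K G) (X := op (F.obj U.unop)) x y e)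
    refine J.superset_covering (fun V g hg => ?_) hR'
    rcases hR g hg with h | h
    · obtain ⟨i⟩ := hG _ h
      exact (i.uniq _).trans (i.uniq _).symm
    · exact h⟩
  have hW : J.W m := (J.W_iff_isLocallyBijective m).2 ⟨inferInstance, inferInstance⟩
  haveI := (J.W_iff m).1 hW
  show IsIso (((sheafificationAdjunction J (Type (u + 1))).homEquiv (F.op ⋙ G)
    ((F.sheafPushforwardContinuous (Type (u + 1)) J K).obj ((presheafToSheaf K (Type (u + 1))).obj G))).symm m)
  rw [Adjunction.homEquiv_counit]
  infer_instance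

include hF in
theorem preservesColimitsOfShape_pushforward (I : Type) [SmallCategory I] [IsConnected I] :
    PreservesColimitsOfShape I (F.sheafPushforwardContinuous (Type (u + 1)) J K) := ⟨fun {Φ} => by
  let v := F.sheafPushforwardContinuous (Type (u + 1)) J K
  let E := colimit.cocone (Φ ⋙ sheafToPresheaf K (Type (u + 1)))
  have hE : IsColimit E := colimit.isColimit _
  have hone : ∀ V : D, (⊥ : Sieve V) ∈ K V → Nonempty (Unique (E.pt.obj (op V))) := fun V hV => by
    have hcol := isColimitOfPreserves ((evaluation Dᵒᵖ (Type (u + 1))).obj (op V)) hE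
    let a : ∀ i, (Φ.obj i).obj.obj (op V) := fun i =>
      (Types.isTerminalEquivUnique _ ((Φ.obj i).isTerminalOfBotCover V hV)).default
    have ha : ∀ i (z : (Φ.obj i).obj.obj (op V)), z = a i := fun i z =>
      (Types.isTerminalEquivUnique _ ((Φ.obj i).isTerminalOfBotCover V hV)).uniq z
    let e : I → E.pt.obj (op V) := fun i => (E.ι.app i).app (op V) (a i)
    obtain ⟨c, hc⟩ := constant_of_preserves_morphisms' e fun i j f => by
      refine ((congrArg (fun r => r.app (op V) (a i)) (E.w f)).symm).trans ?_
      exact congrArg ((E.ι.app j).app (op V)) (ha j _)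
    refine ⟨⟨⟨c⟩, fun z => ?_⟩⟩
    obtain ⟨i, w, rfl⟩ := Types.jointly_surjective_of_isColimit hcol z
    exact (congrArg ((E.ι.app i).app (op V)) (ha i w)).trans (hc i)
  haveI := isIso_comparisonAC F hF E.pt hone
  refine preservesColimit_of_preserves_colimit_cocone (Sheaf.isColimitSheafifyCocone E hE) ?_
  let E' : Cocone ((Φ ⋙ v) ⋙ sheafToPresheaf J (Type (u + 1))) :=
    { pt := F.op ⋙ E.pt
      ι := { app := fun i => Functor.whiskerLeft F.op (E.ι.app i)
             naturality := fun i j f => (congrArg (Functor.whiskerLeft F.op) (E.w f)).trans (Category.comp_id _).symm } }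
  have hE' : IsColimit E' :=
    IsColimit.ofIsoColimit (isColimitOfPreserves ((Functor.whiskeringLeft _ _ (Type (u + 1))).obj F.op) hE)
      (Cocone.ext (Iso.refl _) fun i => Category.comp_id _)
  refine IsColimit.ofIsoColimit (Sheaf.isColimitSheafifyCocone E' hE')
    (Cocone.ext (asIso (comparisonAC (J := J) (K := K) F E.pt)) fun i => ?_)
  apply CategoryTheory.Sheaf.hom_ext
  have h₁ : toSheafify J (F.op ⋙ E.pt) ≫ (comparisonAC (J := J) (K := K) F E.pt).hom =
      Functor.whiskerLeft F.op (toSheafify K E.pt) := by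
    have := Equiv.apply_symm_apply ((sheafificationAdjunction J (Type (u + 1))).homEquiv (F.op ⋙ E.pt)
      ((F.sheafPushforwardContinuous (Type (u + 1)) J K).obj ((presheafToSheaf K (Type (u + 1))).obj E.pt)))
      (Functor.whiskerLeft F.op (toSheafify K E.pt))
    rw [Adjunction.homEquiv_unit] at this
    exact this
  show ((Sheaf.sheafifyCocone E').ι.app i).hom ≫ (comparisonAC (J := J) (K := K) F E.pt).hom =
    Functor.whiskerLeft F.op ((Sheaf.sheafifyCocone E).ι.app i).hom
  rw [Sheaf.sheafifyCocone_ι_app_val, Sheaf.sheafifyCocone_ι_app_val, Category.assoc, h₁]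
  rfl⟩

end Groth.Agent.BigSiteLib
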