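import Groth.Prelude.Def_BigSite
import Mathlib.AlgebraicGeometry.Pullbacks

/-!
# Base change between big sites
-/

set_option autoImplicit false

universe v' u' u

open CategoryTheory CategoryTheory.Limits AlgebraicGeometry Opposite

namespace Groth.Agent.BigSiteLib

variable {S T S' T' : Scheme.{u}} {f : T ⟶ S} {g : S' ⟶ S} {g' : T' ⟶ T} {f' : T' ⟶ S'}

/-- Pulling back commutes with base change. -/
noncomputable def bcIso (hsq : IsPullback g' f' f g) : Over.pullback f' ⋙ Over.map g' ≅ Over.map g ⋙ Over.pullback f :=
  NatIso.ofComponents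
    (fun U => Over.isoMk ((IsPullback.of_hasPullback U.hom f').paste_vert hsq.flip).isoPullback
      ((((IsPullback.of_hasPullback U.hom f').paste_vert hsq.flip).isoPullback_hom_snd)))
    (fun {U V} h => by
      refine Over.OverMorphism.ext (pullback.hom_ext ?_ ?_)
      · simp only [Functor.comp_map, Over.comp_left, Category.assoc, Over.map_map_left, Over.pullback_map_left,
          Over.isoMk_hom_left]
        erw [IsPullback.isoPullback_hom_fst, pullback.lift_fst, pullback.lift_fst, IsPullback.isoPullback_hom_fst_assoc]
      · simp only [Functor.comp_map, Over.comp_left, Category.assoc, Over.map_map_left, Over.pullback_map_left,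
          Over.isoMk_hom_left]
        erw [IsPullback.isoPullback_hom_snd, pullback.lift_snd, pullback.lift_snd_assoc, IsPullback.isoPullback_hom_snd])

/-- Base change of big direct images. -/
noncomputable def pushPullIso (hsq : IsPullback g' f' f g) (K : Precoverage Scheme.{u}) (A : Type u') [Category.{v'} A] :
    BigSite.pushBig K f A ⋙ BigSite.pullBig K g A ≅ BigSite.pullBig K g' A ⋙ BigSite.pushBig K f' A :=
  haveI : (Over.map g ⋙ Over.pullback f).IsContinuous (QuotSh.J K S') (QuotSh.J K T) :=
    Functor.isContinuous_comp _ _ _ (QuotSh.J K S) _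
  haveI : (Over.pullback f' ⋙ Over.map g').IsContinuous (QuotSh.J K S') (QuotSh.J K T) :=
    Functor.isContinuous_comp _ _ _ (QuotSh.J K T') _
  Functor.sheafPushforwardContinuousComp (Over.map g) (Over.pullback f) A (QuotSh.J K S') (QuotSh.J K S) (QuotSh.J K T) ≪≫
    (Functor.sheafPushforwardContinuousIso (bcIso hsq).symm A (QuotSh.J K S') (QuotSh.J K T)) ≪≫
    (Functor.sheafPushforwardContinuousComp (Over.pullback f') (Over.map g') A (QuotSh.J K S') (QuotSh.J K T') (QuotSh.J K T)).symm

end Groth.Agent.BigSiteLib
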