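import Groth.Agent.BigSiteLib.LanFlat
import Groth.Prelude.Def_BigSite
import Mathlib.Algebra.Category.Grp.AB

/-!
# Exactness of extension by zero between big sites
-/

set_option autoImplicit false

universe u

open CategoryTheory CategoryTheory.Limits AlgebraicGeometry Opposite

namespace Groth.Agent.BigSiteLib

variable {X Y : Scheme.{u}} (f : X ⟶ Y)

/-- Lifts of an object over the target. -/
abbrev Fib (W : Over Y) : Type (u + 1) := ULift.{u + 1} {g : W.left ⟶ X // g ≫ f = W.hom}

/-- The final discrete family of costructured arrows. -/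
noncomputable def fibArrow (W : (Over Y)ᵒᵖ) : Discrete (Fib f W.unop) ⥤ CostructuredArrow (Over.map f).op W :=
  Discrete.functor fun g => CostructuredArrow.mk (Y := op (Over.mk g.down.1))
    (Over.homMk (𝟙 _) ((Category.id_comp _).trans g.down.2) : W.unop ⟶ (Over.map f).obj (Over.mk g.down.1)).op

theorem final_fibArrow (W : (Over Y)ᵒᵖ) : (fibArrow f W).Final := ⟨fun T => by
  let w : W.unop.left ⟶ T.left.unop.left := T.hom.unop.left
  let g : Fib f W.unop := ⟨⟨w ≫ T.left.unop.hom, (Category.assoc _ _ _).trans (Over.w T.hom.unop)⟩⟩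
  let k : T ⟶ (fibArrow f W).obj ⟨g⟩ := CostructuredArrow.homMk (Over.homMk w rfl : Over.mk g.down.1 ⟶ T.left.unop).op
    (Quiver.Hom.unop_inj (Over.OverMorphism.ext (Category.id_comp _)))
  haveI : Nonempty (StructuredArrow T (fibArrow f W)) := ⟨StructuredArrow.mk k⟩
  have huniq : ∀ o : StructuredArrow T (fibArrow f W), o = StructuredArrow.mk k := by
    rintro ⟨⟨⟨⟩⟩, ⟨⟨g'⟩⟩, m⟩
    have h1 : m.left.unop.left = w := by
      have h := congrArg (fun t => CommaMorphism.left (Quiver.Hom.unop t)) (CostructuredArrow.w m)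
      exact (Category.id_comp _).symm.trans h
    have h2 : g' = g.down := Subtype.ext ((Over.w m.left.unop).symm.trans (by rw [h1]; rfl))
    subst h2
    have h3 : m = k := CostructuredArrow.hom_ext _ _ (Quiver.Hom.unop_inj (Over.OverMorphism.ext h1))
    subst h3
    rfl
  exact zigzag_isConnected fun a b => by rw [huniq a, huniq b]⟩

theorem lan_map_preservesFiniteLimits :
    PreservesFiniteLimits ((Over.map f).op.lan : ((Over X)ᵒᵖ ⥤ AddCommGrpCat.{u + 1}) ⥤ (Over Y)ᵒᵖ ⥤ AddCommGrpCat.{u + 1}) := by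
  refine ⟨fun J _ _ => ?_⟩
  apply preservesLimitsOfShape_of_evaluation ((Over.map f).op.lan : ((Over X)ᵒᵖ ⥤ AddCommGrpCat.{u + 1}) ⥤ _) J
  intro W
  haveI := final_fibArrow f W
  haveI : AB4.{u + 1} AddCommGrpCat.{u + 1} := AB4.of_AB5 _
  haveI : HasExactColimitsOfShape (Discrete (Fib f W.unop)) AddCommGrpCat.{u + 1} := inferInstance
  haveI : PreservesLimitsOfShape J ((Functor.whiskeringLeft _ _ AddCommGrpCat.{u + 1}).obj (CostructuredArrow.proj (Over.map f).op W) ⋙
      (Functor.whiskeringLeft _ _ AddCommGrpCat.{u + 1}).obj (fibArrow f W) ⋙ colim) := inferInstance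
  exact preservesLimitsOfShape_of_natIso
    (lanEvalIso (Over.map f).op W ≪≫ Functor.isoWhiskerLeft _ (Functor.Final.colimIso (fibArrow f W)).symm).symm

theorem shriekAb_preservesFiniteLimits (K : Precoverage Scheme.{u}) : PreservesFiniteLimits (BigSite.shriekAb K f) := by
  haveI := lan_map_preservesFiniteLimits f
  refine preservesFiniteLimits_of_natIso (F := sheafToPresheaf _ _ ⋙ ((Over.map f).op.lan ⋙ presheafToSheaf (QuotSh.J K Y) AddCommGrpCat.{u + 1})) ?_
  exact (Functor.sheafPullbackConstruction.sheafPullbackIso (Over.map f) AddCommGrpCat.{u + 1} (QuotSh.J K X) (QuotSh.J K Y)).symm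

end Groth.Agent.BigSiteLib
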