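import Groth.Agent.BigSiteLib.EtRes
import Groth.Agent.BigSiteLib.Shriek
import Groth.Agent.BigSiteLib.BC
import Groth.Agent.SiteBase.KInjAdj
import Groth.Agent.SiteBase.DerivedPrecomp

/-!
# Restriction along morphisms to small etale sites
-/

set_option autoImplicit false

universe v' u' u

open CategoryTheory CategoryTheory.Limits AlgebraicGeometry Opposite

namespace Groth.Agent.BigSiteLib

variable {S T : Scheme.{u}} (f : T ⟶ S) (K : Precoverage Scheme.{u})

instance pullBig_preservesFiniteLimits : PreservesFiniteLimits (BigSite.pullBig K f AddCommGrpCat.{u + 1}) := by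
  haveI : (BigSite.pullBig K f AddCommGrpCat.{u + 1}).IsRightAdjoint := (BigSite.shriekAbAdj K f).isRightAdjoint
  infer_instance

instance pullBig_preservesFiniteColimits : PreservesFiniteColimits (BigSite.pullBig K f AddCommGrpCat.{u + 1}) := by
  haveI : (BigSite.pullBig K f AddCommGrpCat.{u + 1}).IsLeftAdjoint := (BigSite.bigAdj K f AddCommGrpCat.{u + 1}).isLeftAdjoint
  infer_instance

instance pullBig_preservesInjective : (BigSite.pullBig K f AddCommGrpCat.{u + 1}).PreservesInjectiveObjects where
  injective_obj {I} hI := by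
    haveI := shriekAb_preservesFiniteLimits f K
    haveI : (BigSite.shriekAb K f).PreservesMonomorphisms := inferInstance
    exact Injective.injective_of_adjoint (BigSite.shriekAbAdj K f) I

instance resEt_preservesInjective (S : Scheme.{u}) : (BigSite.resEt Scheme.etalePrecoverage S).PreservesInjectiveObjects where
  injective_obj {I} hI := injective_resEt S _ I

instance resEtAlong_preservesInjective : (BigSite.resEtAlong Scheme.etalePrecoverage f).PreservesInjectiveObjects where
  injective_obj {I} hI := by
    haveI : Injective ((BigSite.pullBig Scheme.etalePrecoverage f AddCommGrpCat.{u + 1}).obj I) :=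
      Functor.PreservesInjectiveObjects.injective_obj hI
    exact injective_resEt T _ _

theorem isKInjective_resEt (S : Scheme.{u}) (I : CochainComplex (BigSite.Ab Scheme.etalePrecoverage S) ℤ) [I.IsKInjective] :
    CochainComplex.IsKInjective (((BigSite.resEt Scheme.etalePrecoverage S).mapHomologicalComplex (ComplexShape.up ℤ)).obj I) := by
  haveI := piEtPull_exact S Scheme.etalePrecoverage
  haveI : (BigSite.piEtPull Scheme.etalePrecoverage S).Additive := (BigSite.piEtAdj Scheme.etalePrecoverage S).left_adjoint_additive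
  haveI : (BigSite.piEtPull Scheme.etalePrecoverage S).IsLeftAdjoint := (BigSite.piEtAdj Scheme.etalePrecoverage S).isLeftAdjoint
  exact SiteBase.isKInjective_map (BigSite.piEtAdj Scheme.etalePrecoverage S) I

theorem isKInjective_resEtAlong (I : CochainComplex (BigSite.Ab Scheme.etalePrecoverage S) ℤ) [I.IsKInjective] :
    CochainComplex.IsKInjective (((BigSite.resEtAlong Scheme.etalePrecoverage f).mapHomologicalComplex (ComplexShape.up ℤ)).obj I) := by
  haveI := shriekAb_preservesFiniteLimits f Scheme.etalePrecoverage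
  haveI : (BigSite.shriekAb Scheme.etalePrecoverage f).Additive := (BigSite.shriekAbAdj Scheme.etalePrecoverage f).left_adjoint_additive
  haveI : (BigSite.shriekAb Scheme.etalePrecoverage f).IsLeftAdjoint := (BigSite.shriekAbAdj Scheme.etalePrecoverage f).isLeftAdjoint
  haveI := SiteBase.isKInjective_map (BigSite.shriekAbAdj Scheme.etalePrecoverage f) I
  exact isKInjective_resEt T (((BigSite.pullBig Scheme.etalePrecoverage f AddCommGrpCat.{u + 1}).mapHomologicalComplex (ComplexShape.up ℤ)).obj I)

variable {S' T' : Scheme.{u}} {g : S' ⟶ S} {g' : T' ⟶ T} {f' : T' ⟶ S'}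

set_option backward.isDefEq.respectTransparency.types false in
/-- Base change on objects of the small etale sites. -/
noncomputable def bcSmallIso (hsq : IsPullback g' f' f g) :
    EtCoh.bc f' ⋙ EtFppf.a T' ⋙ Over.map g' ≅ (EtFppf.a S' ⋙ Over.map g) ⋙ Over.pullback f :=
  (Functor.associator _ _ _).symm ≪≫
    Functor.isoWhiskerRight (MorphismProperty.Over.pullbackCompForgetIso (P := EtCoh.etaleMP.{u}) (Q := ⊤) f') (Over.map g') ≪≫
      Functor.associator _ _ _ ≪≫ Functor.isoWhiskerLeft (EtFppf.a S') (bcIso hsq) ≪≫ (Functor.associator _ _ _).symm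

/-- Base change of big direct images, restricted to small sites. -/
noncomputable def resAlongPushIso (hsq : IsPullback g' f' f g) :
    BigSite.pushBig Scheme.etalePrecoverage f AddCommGrpCat.{u + 1} ⋙ BigSite.resEtAlong Scheme.etalePrecoverage g ≅
      BigSite.resEtAlong Scheme.etalePrecoverage g' ⋙ EtCoh.push f' :=
  haveI : (EtFppf.a S' ⋙ Over.map g).IsContinuous S'.smallEtaleTopology (QuotSh.J Scheme.etalePrecoverage S) :=
    Functor.isContinuous_comp _ _ _ (QuotSh.J Scheme.etalePrecoverage S') _
  haveI : (EtFppf.a T' ⋙ Over.map g').IsContinuous T'.smallEtaleTopology (QuotSh.J Scheme.etalePrecoverage T) :=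
    Functor.isContinuous_comp _ _ _ (QuotSh.J Scheme.etalePrecoverage T') _
  haveI : ((EtFppf.a S' ⋙ Over.map g) ⋙ Over.pullback f).IsContinuous S'.smallEtaleTopology (QuotSh.J Scheme.etalePrecoverage T) :=
    Functor.isContinuous_comp _ _ _ (QuotSh.J Scheme.etalePrecoverage S) _
  haveI : (EtCoh.bc f' ⋙ EtFppf.a T' ⋙ Over.map g').IsContinuous S'.smallEtaleTopology (QuotSh.J Scheme.etalePrecoverage T) :=
    Functor.isContinuous_comp _ _ _ T'.smallEtaleTopology _
  Functor.sheafPushforwardContinuousComp (EtFppf.a S' ⋙ Over.map g) (Over.pullback f) AddCommGrpCat.{u + 1}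
      S'.smallEtaleTopology (QuotSh.J Scheme.etalePrecoverage S) (QuotSh.J Scheme.etalePrecoverage T) ≪≫
    Functor.sheafPushforwardContinuousIso (bcSmallIso f hsq).symm AddCommGrpCat.{u + 1} _ _ ≪≫
    (Functor.sheafPushforwardContinuousComp (EtCoh.bc f') (EtFppf.a T' ⋙ Over.map g') AddCommGrpCat.{u + 1}
      S'.smallEtaleTopology T'.smallEtaleTopology (QuotSh.J Scheme.etalePrecoverage T)).symm

/-- Right derived functors of isomorphic functors. -/
noncomputable def rightDerivedIso {A : Type u'} [Category.{v'} A] [Abelian A] [HasInjectiveResolutions A] {B : Type*} [Category B]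
    [Abelian B] {F G : A ⥤ B} [F.Additive] [G.Additive] (e : F ≅ G) (n : ℕ) : F.rightDerived n ≅ G.rightDerived n where
  hom := NatTrans.rightDerived e.hom n
  inv := NatTrans.rightDerived e.inv n
  hom_inv_id := by rw [← NatTrans.rightDerived_comp, e.hom_inv_id, NatTrans.rightDerived_id]
  inv_hom_id := by rw [← NatTrans.rightDerived_comp, e.inv_hom_id, NatTrans.rightDerived_id]

/-- Big higher direct images commute with localization. -/
noncomputable def pullRpushIso (hsq : IsPullback g' f' f g) (q : ℕ) :
    BigSite.RpushBig K f q ⋙ BigSite.pullBig K g AddCommGrpCat.{u + 1} ≅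
      BigSite.pullBig K g' AddCommGrpCat.{u + 1} ⋙ BigSite.RpushBig K f' q :=
  (SiteBase.rightDerivedCompIso (BigSite.pushBig K f AddCommGrpCat.{u + 1}) (BigSite.pullBig K g AddCommGrpCat.{u + 1}) q).symm ≪≫
    rightDerivedIso (pushPullIso hsq K AddCommGrpCat.{u + 1}) q ≪≫
    SiteBase.rightDerivedPrecompIso (BigSite.pullBig K g' AddCommGrpCat.{u + 1}) (BigSite.pushBig K f' AddCommGrpCat.{u + 1}) q

instance resEtAlong_preservesFiniteLimits : PreservesFiniteLimits (BigSite.resEtAlong Scheme.etalePrecoverage f) :=
  comp_preservesFiniteLimits _ _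

instance resEtAlong_preservesFiniteColimits : PreservesFiniteColimits (BigSite.resEtAlong Scheme.etalePrecoverage f) :=
  comp_preservesFiniteColimits _ _

/-- Big higher direct images restricted to small etale sites. -/
noncomputable def resAlongRpushIso (hsq : IsPullback g' f' f g) (q : ℕ) :
    BigSite.RpushBig Scheme.etalePrecoverage f q ⋙ BigSite.resEtAlong Scheme.etalePrecoverage g ≅
      BigSite.resEtAlong Scheme.etalePrecoverage g' ⋙ EtCoh.Rpush f' q :=
  (SiteBase.rightDerivedCompIso (BigSite.pushBig Scheme.etalePrecoverage f AddCommGrpCat.{u + 1}) (BigSite.resEtAlong Scheme.etalePrecoverage g) q).symm ≪≫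
    rightDerivedIso (resAlongPushIso f hsq) q ≪≫
    SiteBase.rightDerivedPrecompIso (BigSite.resEtAlong Scheme.etalePrecoverage g') (EtCoh.push f') q

end Groth.Agent.BigSiteLib
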