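import Groth.Agent.BigSiteLib.ClassSheaf

/-!
# Coverings of the topology generated by a class of quasi-compact morphisms
-/

set_option autoImplicit false

universe u

open CategoryTheory CategoryTheory.Limits AlgebraicGeometry Opposite TopologicalSpace

namespace Groth.Agent.BigSiteLib.ClassTop

variable {S : Scheme.{u}} (C : MorphismProperty Scheme.{u}) [C.IsStableUnderComposition] [C.IsStableUnderBaseChange]

theorem cov_of_zar (haff : Aff C) (hcoprod : Coprod C) {X : Over S} {R : Sieve X}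
    (hR : R ∈ (Scheme.zariskiTopology.over S) X) : Cov C R := by
  have hR' : Sieve.overEquiv X R ∈ Scheme.zariskiPrecoverage.toGrothendieck X.left := hR
  rw [Precoverage.mem_toGrothendieck_iff_of_isStableUnderComposition] at hR'
  obtain ⟨R₀, hR₀, hle⟩ := hR'
  obtain ⟨ι, Z, m, rfl⟩ := R₀.exists_eq_ofArrows
  obtain ⟨hs, ho⟩ := (Scheme.ofArrows_mem_precoverage_iff _).1 hR₀
  refine cov_of_good C fun W _ g => ?_
  have hx : ∀ x : W, ∃ (i : ι) (O : W.Opens), IsAffineOpen O ∧ x ∈ O ∧ O ≤ g ⁻¹ᵁ (haveI := ho i; (m i).opensRange) := fun x => by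
    obtain ⟨i, z, hz⟩ := hs (g x)
    haveI := ho i
    obtain ⟨O, hO, hxO, hle'⟩ := Opens.isBasis_iff_nbhd.1 W.isBasis_affineOpens (show x ∈ g ⁻¹ᵁ (m i).opensRange from ⟨z, hz⟩)
    exact ⟨i, O, hO, hxO, hle'⟩
  choose i O hO hxO hle' using hx
  obtain ⟨t, ht⟩ := (CompactSpace.isCompact_univ (X := W)).elim_finite_subcover (fun x => (O x : Set W))
    (fun x => (O x).isOpen) fun x _ => Set.mem_iUnion.2 ⟨x, hxO x⟩
  refine good_local C haff hcoprod g (κ := t) (fun x => O x.1) (fun x => hO x.1) (top_unique fun x _ => ?_) fun x => ?_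
  · obtain ⟨y, hy, hxy⟩ := Set.mem_iUnion₂.1 (ht (Set.mem_univ x))
    exact Opens.mem_iSup.2 ⟨⟨y, hy⟩, hxy⟩
  · haveI := ho (i x.1)
    haveI : IsAffine (O x.1 : W.Opens).toScheme := hO x.1
    let l : (O x.1 : W.Opens).toScheme ⟶ Z (i x.1) := IsOpenImmersion.lift (m (i x.1)) ((O x.1).ι ≫ g) (by
      rintro _ ⟨z, rfl⟩
      exact hle' x.1 z.2)
    have hl : l ≫ m (i x.1) = (O x.1).ι ≫ g := IsOpenImmersion.lift_fac _ _ _
    refine ⟨PUnit.{u + 1}, inferInstance, fun _ => Over.mk (((O x.1).ι ≫ g) ≫ X.hom),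
      fun _ => Over.homMk ((O x.1).ι ≫ g) rfl, fun _ => 𝟙 _, fun _ => hO x.1, fun _ => ?_, fun _ => Category.id_comp _, id_mem C haff⟩
    have hmem := (Sieve.overEquiv_iff R (m (i x.1))).1 (hle _ _ (Presieve.ofArrows.mk (i x.1)))
    let l' : Over.mk (((O x.1).ι ≫ g) ≫ X.hom) ⟶ Over.mk (m (i x.1) ≫ X.hom) := Over.homMk l (by
      show l ≫ m (i x.1) ≫ X.hom = ((O x.1).ι ≫ g) ≫ X.hom
      rw [← Category.assoc, hl])
    convert R.downward_closed hmem l' using 1
    exact Over.OverMorphism.ext hl.symm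

/-- Refinement of the affine open coverings of the source of a morphism in the class. -/
def Res : Prop := ∀ (W X' : Scheme.{u}) [IsAffine W] (f : X' ⟶ W), C f →
  ∀ (κ : Type u) [Finite κ] (A : κ → X'.Opens), (∀ l, IsAffineOpen (A l)) → ⨆ l, A l = ⊤ →
    C (Limits.Sigma.desc fun l => (A l).ι ≫ f)

theorem cov_singleton (hqc : ∀ {A B : Scheme.{u}} (f : A ⟶ B), C f → QuasiCompact f) (hres : Res C) {X X' : Over S}
    (f : X' ⟶ X) (hf : C f.left) : Cov C (Sieve.generate (Presieve.singleton f)) := by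
  refine cov_of_good C fun W _ g => ?_
  have hP : C (pullback.snd f.left g) := MorphismProperty.pullback_snd _ _ hf
  haveI := hqc _ hP
  haveI : CompactSpace (pullback f.left g : Scheme.{u}) := QuasiCompact.compactSpace_of_compactSpace (pullback.snd f.left g)
  have hx : ∀ x : (pullback f.left g : Scheme.{u}), ∃ O : (pullback f.left g).Opens, IsAffineOpen O ∧ x ∈ O := fun x => by
    obtain ⟨O, hO, hxO, -⟩ := Opens.isBasis_iff_nbhd.1 (Scheme.isBasis_affineOpens (pullback f.left g)) (show x ∈ (⊤ : (pullback f.left g).Opens) from trivial)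
    exact ⟨O, hO, hxO⟩
  choose O hO hxO using hx
  obtain ⟨t, ht⟩ := (CompactSpace.isCompact_univ (X := (pullback f.left g : Scheme.{u}))).elim_finite_subcover (fun x => (O x : Set (pullback f.left g : Scheme.{u})))
    (fun x => (O x).isOpen) fun x _ => Set.mem_iUnion.2 ⟨x, hxO x⟩
  have htop : ⨆ x : t, O x.1 = ⊤ := top_unique fun x _ => by
    obtain ⟨y, hy, hxy⟩ := Set.mem_iUnion₂.1 (ht (Set.mem_univ x))
    exact Opens.mem_iSup.2 ⟨⟨y, hy⟩, hxy⟩
  refine ⟨t, inferInstance, fun x => Over.mk ((O x.1).ι ≫ pullback.fst f.left g ≫ X'.hom),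
    fun x => (Over.homMk ((O x.1).ι ≫ pullback.fst f.left g) (Category.assoc _ _ _) :
      Over.mk ((O x.1).ι ≫ pullback.fst f.left g ≫ X'.hom) ⟶ X') ≫ f,
    fun x => (O x.1).ι ≫ pullback.snd f.left g, fun x => hO x.1, fun x => ⟨X', _, f, Presieve.singleton.mk, rfl⟩, fun x => ?_,
    hres W _ _ hP t _ (fun x => hO x.1) htop⟩
  show ((O x.1).ι ≫ pullback.snd f.left g) ≫ g = ((O x.1).ι ≫ pullback.fst f.left g) ≫ f.left
  rw [Category.assoc, Category.assoc, pullback.condition]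

theorem isSheaf_iff (hqc : ∀ {A B : Scheme.{u}} (f : A ⟶ B), C f → QuasiCompact f) (haff : Aff C) (hcoprod : Coprod C)
    (hres : Res C) (J : GrothendieckTopology (Over S)) (hJ : ∀ (X : Over S) (R : Sieve X), R ∈ J X ↔ Cov C R)
    {F : (Over S)ᵒᵖ ⥤ Type*} :
    Presieve.IsSheaf J F ↔ (Presieve.IsSheaf (Scheme.zariskiTopology.over S) F ∧
      ∀ (X X' : Over S) (f : X' ⟶ X), C f.left → Presieve.IsSheafFor F (Presieve.singleton f)) :=
  ⟨fun h => ⟨fun {X} R hR => h R ((hJ X R).2 (cov_of_zar C haff hcoprod hR)),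
    fun X X' f hf => (Presieve.isSheafFor_iff_generate _).2 (h _ ((hJ _ _).2 (cov_singleton C hqc hres f hf)))⟩,
   fun ⟨hz, hC⟩ {X} R hR => isSheafFor_cov hz C hC haff hcoprod ((hJ X R).1 hR)⟩

end Groth.Agent.BigSiteLib.ClassTop
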