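import Groth.Agent.BigSiteLib.ClassTop

/-!
# Sheaves for the topology generated by a class of quasi-compact morphisms
-/

set_option autoImplicit false

universe v u w

open CategoryTheory CategoryTheory.Limits AlgebraicGeometry Opposite TopologicalSpace

namespace Groth.Agent.BigSiteLib.ClassTop

variable {S : Scheme.{u}}

theorem ofArrows_mem_zar {Y : Over S} {I : Type w} (Z : I → Over S) (m : ∀ i, Z i ⟶ Y)
    (ho : ∀ i, IsOpenImmersion (m i).left) (hs : ∀ x : Y.left, ∃ i, x ∈ Set.range (m i).left) :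
    Sieve.ofArrows Z m ∈ (Scheme.zariskiTopology.over S) Y := by
  show Sieve.overEquiv Y (Sieve.ofArrows Z m) ∈ Scheme.zariskiTopology Y.left
  rw [Sieve.overEquiv_ofArrows]
  exact Precoverage.generate_mem_toGrothendieck (J := Scheme.precoverage @IsOpenImmersion)
    ((Scheme.ofArrows_mem_precoverage_iff _).2 ⟨hs, ho⟩)

/-- An open subscheme as an object over the base. -/
noncomputable abbrev zObj (Z : Over S) (O : Z.left.Opens) : Over S := Over.mk (O.ι ≫ Z.hom)

/-- The inclusion of an open subscheme. -/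
noncomputable abbrev zι (Z : Over S) (O : Z.left.Opens) : zObj Z O ⟶ Z := Over.homMk O.ι rfl

variable {F : (Over S)ᵒᵖ ⥤ Type v} (hz : Presieve.IsSheaf (Scheme.zariskiTopology.over S) F)
include hz

theorem isSheafFor_zar {Y : Over S} {I : Type w} (Z : I → Over S) (m : ∀ i, Z i ⟶ Y)
    (ho : ∀ i, IsOpenImmersion (m i).left) (hs : ∀ x : Y.left, ∃ i, x ∈ Set.range (m i).left) :
    Presieve.IsSheafFor F (Presieve.ofArrows Z m) :=
  (Presieve.isSheafFor_iff_generate _).2 (hz _ (ofArrows_mem_zar Z m ho hs))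

theorem ext_zar {Y : Over S} {I : Type w} (Z : I → Over S) (m : ∀ i, Z i ⟶ Y)
    (ho : ∀ i, IsOpenImmersion (m i).left) (hs : ∀ x : Y.left, ∃ i, x ∈ Set.range (m i).left)
    {a b : F.obj (op Y)} (h : ∀ i, F.map (m i).op a = F.map (m i).op b) : a = b :=
  (isSheafFor_zar hz Z m ho hs).isSeparatedFor.ext fun W w hw => by
    obtain ⟨i⟩ := hw
    exact h i

theorem ext_opens {Y : Over S} {I : Type w} (O : I → Y.left.Opens) (hs : ∀ x : Y.left, ∃ i, x ∈ O i)
    {a b : F.obj (op Y)} (h : ∀ i, F.map (zι Y (O i)).op a = F.map (zι Y (O i)).op b) : a = b :=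
  ext_zar hz (fun i => zObj Y (O i)) (fun i => zι Y (O i)) (fun i => inferInstanceAs (IsOpenImmersion (O i).ι))
    (fun x => by obtain ⟨i, hi⟩ := hs x; exact ⟨i, ⟨x, hi⟩, rfl⟩) h

omit hz

theorem map_map' {A B D : Over S} (f : A ⟶ B) (g : B ⟶ D) (x : F.obj (op D)) :
    F.map f.op (F.map g.op x) = F.map (f ≫ g).op x := by
  rw [op_comp, Functor.map_comp]; rfl

variable (F) in
/-- A section is compatible with a family on a sieve. -/
def Sat {X : Over S} {R : Sieve X} (y : Presieve.FamilyOfElements F R.arrows) {W : Over S} (g : W ⟶ X)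
    (x : F.obj (op W)) : Prop :=
  ∀ (Z : Over S) (h : Z ⟶ W) (hm : R.arrows (h ≫ g)), F.map h.op x = y (h ≫ g) hm

theorem y_congr {X : Over S} {R : Sieve X} {y : Presieve.FamilyOfElements F R.arrows} {Z : Over S} {k k' : Z ⟶ X}
    (e : k = k') (hk : R.arrows k) (hk' : R.arrows k') : y k hk = y k' hk' := by subst e; rfl

theorem map_y {X : Over S} {R : Sieve X} {y : Presieve.FamilyOfElements F R.arrows} (hy : y.Compatible)
    {Z Z' : Over S} (m : Z' ⟶ Z) (k : Z ⟶ X) (hk : R.arrows k) :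
    F.map m.op (y k hk) = y (m ≫ k) (R.downward_closed hk m) := by
  have h := hy m (𝟙 Z') hk (R.downward_closed hk m) (Category.id_comp _).symm
  rw [h, op_id, CategoryTheory.Functor.map_id]
  rfl

theorem sat_comp {X : Over S} {R : Sieve X} {y : Presieve.FamilyOfElements F R.arrows} {W W' : Over S} {g : W ⟶ X}
    {x : F.obj (op W)} (hx : Sat F y g x) (m : W' ⟶ W) : Sat F y (m ≫ g) (F.map m.op x) := fun Z h hm => by
  rw [map_map', hx Z (h ≫ m) (by rw [Category.assoc]; exact hm)]
  exact y_congr (Category.assoc _ _ _) _ _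

variable (C : MorphismProperty Scheme.{u}) [C.IsStableUnderComposition] [C.IsStableUnderBaseChange]
  (hC : ∀ (X X' : Over S) (f : X' ⟶ X), C f.left → Presieve.IsSheafFor F (Presieve.singleton f))

include hz hC

theorem existsUnique_sat {X : Over S} {R : Sieve X} {y : Presieve.FamilyOfElements F R.arrows} (hy : y.Compatible)
    {W : Over S} (g : W ⟶ X) (hg : Good C R g.left) : ∃! x, Sat F y g x := by
  obtain ⟨κ, _, V, φ, ψ, -, hR, he, hCψ⟩ := hg
  let T : Over S := Over.mk (Limits.Sigma.desc fun j => (V j).hom)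
  let ιT : ∀ j, V j ⟶ T := fun j => Over.homMk (Sigma.ι (fun j => (V j).left) j) (Sigma.ι_desc _ _)
  have hψ : ∀ j, ψ j ≫ W.hom = (V j).hom := fun j => by
    rw [← Over.w g, ← Category.assoc, he, Over.w]
  let p : T ⟶ W := Over.homMk (Limits.Sigma.desc ψ) (Sigma.hom_ext _ _ fun j => by simp [T, hψ])
  have hp : ∀ j, ιT j ≫ p ≫ g = φ j := fun j => Over.OverMorphism.ext (by
    show Sigma.ι _ j ≫ Limits.Sigma.desc ψ ≫ g.left = _
    rw [Sigma.ι_desc_assoc, he])
  have ho : ∀ j, IsOpenImmersion (ιT j).left := fun j => inferInstanceAs (IsOpenImmersion (Sigma.ι (fun j => (V j).left) j))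
  have hs : ∀ z : T.left, ∃ j, z ∈ Set.range (ιT j).left := fun z => by
    obtain ⟨j, w, hw⟩ := (sigmaOpenCover fun j => (V j).left).exists_eq z
    exact ⟨j, w, hw⟩
  obtain ⟨t, ht, -⟩ := (Presieve.isSheafFor_arrows_iff _ _).1 (isSheafFor_zar hz V ιT ho hs) (fun j => y (φ j) (hR j))
    fun i j W' a b hab => by
      rw [map_y hy, map_y hy]
      refine y_congr ?_ _ _
      rw [← hp i, ← hp j, ← Category.assoc, hab, Category.assoc]
  have hK : ∀ (Z : Over S) (a : Z ⟶ T) (hm : R.arrows (a ≫ p ≫ g)), F.map a.op t = y (a ≫ p ≫ g) hm := fun Z a hm => by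
    refine ext_opens hz (fun j => a.left ⁻¹ᵁ (Sigma.ι (fun j => (V j).left) j).opensRange) (fun z => ?_) fun j => ?_
    · obtain ⟨j, w, hw⟩ := hs (a.left z)
      exact ⟨j, w, hw⟩
    · haveI := ho j
      let O := a.left ⁻¹ᵁ (Sigma.ι (fun j => (V j).left) j).opensRange
      have hrange : Set.range (O.ι ≫ a.left) ⊆ Set.range (ιT j).left := by
        rintro _ ⟨z, rfl⟩
        exact z.2
      let l : zObj Z O ⟶ V j := Over.homMk (IsOpenImmersion.lift (ιT j).left (O.ι ≫ a.left) hrange) (by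
        show _ = O.ι ≫ Z.hom
        rw [← Over.w (ιT j), IsOpenImmersion.lift_fac_assoc, Category.assoc, Over.w])
      have hl : l ≫ ιT j = zι Z O ≫ a := Over.OverMorphism.ext (IsOpenImmersion.lift_fac _ _ _)
      rw [map_map', map_y hy, ← hl, ← map_map', ht j, map_y hy]
      refine y_congr ?_ _ _
      rw [← hp j, ← Category.assoc, hl, Category.assoc]
  have hsing := hC W T p hCψ
  obtain ⟨x, hx, -⟩ := (Presieve.isSheafFor_singleton).1 hsing t fun {Z} a b hab => by
    refine ext_opens hz (fun j => a.left ⁻¹ᵁ (Sigma.ι (fun j => (V j).left) j).opensRange) (fun z => ?_) fun j => ?_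
    · obtain ⟨j, w, hw⟩ := hs (a.left z)
      exact ⟨j, w, hw⟩
    · haveI := ho j
      let O := a.left ⁻¹ᵁ (Sigma.ι (fun j => (V j).left) j).opensRange
      have hrange : Set.range (O.ι ≫ a.left) ⊆ Set.range (ιT j).left := by
        rintro _ ⟨z, rfl⟩
        exact z.2
      let l : zObj Z O ⟶ V j := Over.homMk (IsOpenImmersion.lift (ιT j).left (O.ι ≫ a.left) hrange) (by
        show _ = O.ι ≫ Z.hom
        rw [← Over.w (ιT j), IsOpenImmersion.lift_fac_assoc, Category.assoc, Over.w])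
      have hl : l ≫ ιT j = zι Z O ≫ a := Over.OverMorphism.ext (IsOpenImmersion.lift_fac _ _ _)
      have hm : R.arrows ((zι Z O ≫ a) ≫ p ≫ g) := by
        rw [← hl, Category.assoc, hp]
        exact R.downward_closed (hR j) l
      have e : (zι Z O ≫ b) ≫ p ≫ g = (zι Z O ≫ a) ≫ p ≫ g := by
        rw [Category.assoc, Category.assoc, ← Category.assoc b, ← hab, Category.assoc]
      rw [map_map', map_map', hK _ _ hm, hK _ _ (e ▸ hm)]
      exact y_congr e.symm _ _
  have hxt : F.map p.op x = t := hx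
  refine ⟨x, fun Z h hm => ?_, fun x' hx' => ?_⟩
  · let Z' : Over S := Over.mk (pullback.snd p.left h.left ≫ Z.hom)
    let q : Z' ⟶ Z := Over.homMk (pullback.snd p.left h.left) rfl
    let r : Z' ⟶ T := Over.homMk (pullback.fst p.left h.left) (by
      show _ = pullback.snd p.left h.left ≫ Z.hom
      rw [← Over.w p, ← Category.assoc, pullback.condition, Category.assoc, Over.w])
    have hqr : r ≫ p = q ≫ h := Over.OverMorphism.ext pullback.condition
    have e : q ≫ h ≫ g = r ≫ p ≫ g := by rw [← Category.assoc, ← hqr, Category.assoc]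
    refine (hC Z Z' q (MorphismProperty.pullback_snd _ _ hCψ)).isSeparatedFor.ext fun W' w hw => ?_
    cases hw
    rw [map_map', ← hqr, ← map_map', hxt, map_y hy, hK _ r (e ▸ R.downward_closed hm q)]
    exact y_congr e.symm _ _
  · refine hsing.isSeparatedFor.ext fun W' w hw => ?_
    cases hw
    rw [hxt]
    refine ext_zar hz V ιT ho hs fun j => ?_
    rw [map_map', ht j, hx' _ _ (by rw [Category.assoc, hp]; exact hR j)]
    exact y_congr (by rw [Category.assoc, hp]) _ _

theorem isSheafFor_cov (haff : Aff C) (hcoprod : Coprod C) {X : Over S} {R : Sieve X} (hR : Cov C R) :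
    Presieve.IsSheafFor F R.arrows := by
  intro y hy
  have hu : ∀ {W : Over S} [IsAffine W.left] (g : W ⟶ X), ∃! x, Sat F y g x := fun {W} _ g =>
    existsUnique_sat hz C hC hy g (good_of_cov C haff hcoprod hR g.left)
  have hUX : ∀ U : X.left.affineOpens, IsAffine (zObj X U.1).left := fun U => U.2
  choose xU hxU hxU' using fun U : X.left.affineOpens => @hu (zObj X U.1) (hUX U) (zι X U.1)
  have hs : ∀ z : X.left, ∃ U : X.left.affineOpens, z ∈ Set.range (zι X U.1).left := fun z => by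
    obtain ⟨O, hO, hz, -⟩ := Opens.isBasis_iff_nbhd.1 X.left.isBasis_affineOpens (show z ∈ (⊤ : X.left.Opens) from trivial)
    exact ⟨⟨O, hO⟩, ⟨z, hz⟩, rfl⟩
  have ho : ∀ U : X.left.affineOpens, IsOpenImmersion (zι X U.1).left := fun U => inferInstanceAs (IsOpenImmersion U.1.ι)
  have hsW : ∀ (W : Over S) (z : W.left), ∃ O : W.left.affineOpens, z ∈ O.1 := fun W z => by
    obtain ⟨O, hO, hz, -⟩ := Opens.isBasis_iff_nbhd.1 W.left.isBasis_affineOpens (show z ∈ (⊤ : W.left.Opens) from trivial)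
    exact ⟨⟨O, hO⟩, hz⟩
  obtain ⟨x, hx, -⟩ := (Presieve.isSheafFor_arrows_iff _ _).1 (isSheafFor_zar hz _ (fun U : X.left.affineOpens => zι X U.1) ho hs) xU
    fun U U' W a b hab => by
      refine ext_opens hz (fun O : W.left.affineOpens => O.1) (hsW W) fun O => ?_
      haveI : IsAffine (zObj W O.1).left := O.2
      have h1 := sat_comp (hxU U) (zι W O.1 ≫ a)
      have h2 := sat_comp (hxU U') (zι W O.1 ≫ b)
      rw [Category.assoc] at h1 h2
      rw [hab] at h1
      rw [map_map', map_map']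
      exact (hu (zι W O.1 ≫ b ≫ zι X U'.1)).unique h1 h2
  refine ⟨x, fun Z h hm => ?_, fun x' hx' => ?_⟩
  · refine ext_opens hz (fun U : X.left.affineOpens => h.left ⁻¹ᵁ U.1) (fun z => ?_) fun U => ?_
    · obtain ⟨U, ⟨w, hwU⟩, hw⟩ := hs (h.left z)
      exact ⟨U, show h.left z ∈ U.1 from hw ▸ hwU⟩
    · let O := h.left ⁻¹ᵁ U.1
      let l : zObj Z O ⟶ zObj X U.1 := Over.homMk (h.left.resLE U.1 O le_rfl) (by
        show _ ≫ U.1.ι ≫ X.hom = O.ι ≫ Z.hom
        rw [Scheme.Hom.resLE_comp_ι_assoc, Over.w])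
      have hl : l ≫ zι X U.1 = zι Z O ≫ h := Over.OverMorphism.ext (Scheme.Hom.resLE_comp_ι _ _)
      rw [map_map', map_y hy]
      refine (congrArg (fun k => F.map k.op x) hl.symm).trans ?_
      rw [← map_map', hx U, hxU U _ l (hl ▸ R.downward_closed hm _)]
      exact y_congr hl _ _
  · refine ext_zar hz _ (fun U : X.left.affineOpens => zι X U.1) ho hs fun U => ?_
    rw [hx U]
    refine hxU' U _ fun Z k hk => ?_
    rw [map_map']
    exact hx' _ hk

end Groth.Agent.BigSiteLib.ClassTop
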