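import Groth.Prelude.Def_BigSite
import Mathlib.AlgebraicGeometry.Limits
import Mathlib.AlgebraicGeometry.Pullbacks
import Mathlib.CategoryTheory.Extensive

/-!
# Topologies generated by a class of quasi-compact morphisms
-/

set_option autoImplicit false

universe u

open CategoryTheory CategoryTheory.Limits AlgebraicGeometry Opposite TopologicalSpace

namespace Groth.Agent.BigSiteLib.ClassTop

variable {S : Scheme.{u}} (C : MorphismProperty Scheme.{u})

/-- Finite covering data over a scheme mapping to an object. -/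
def Good {X : Over S} (R : Sieve X) {W : Scheme.{u}} (g : W ⟶ X.left) : Prop :=
  ∃ (κ : Type u) (_ : Finite κ) (V : κ → Over S) (φ : ∀ j, V j ⟶ X) (ψ : ∀ j, (V j).left ⟶ W),
    (∀ j, IsAffine (V j).left) ∧ (∀ j, R.arrows (φ j)) ∧ (∀ j, ψ j ≫ g = (φ j).left) ∧ C (Limits.Sigma.desc ψ)

/-- The covering condition. -/
def Cov {X : Over S} (R : Sieve X) : Prop :=
  ∃ (ι : Type u) (U : ι → X.left.Opens), (∀ i, IsAffineOpen (U i)) ∧ ⨆ i, U i = ⊤ ∧ ∀ i, Good C R (U i).ι

/-- The class contains the finite affine coverings of affine schemes. -/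
def Aff : Prop := ∀ (U : Scheme.{u}) [IsAffine U] (κ : Type u) [Finite κ] (V : κ → U.Opens),
  (∀ j, IsAffineOpen (V j)) → ⨆ j, V j = ⊤ → C (Limits.Sigma.desc fun j => (V j).ι)

/-- The class is closed under finite coproducts. -/
def Coprod : Prop := ∀ (κ : Type u) [Finite κ] (A B : κ → Scheme.{u}) (f : ∀ j, A j ⟶ B j),
  (∀ j, C (f j)) → C (Limits.Sigma.map f)

variable [C.IsStableUnderComposition] [C.IsStableUnderBaseChange]

theorem good_pullback {X : Over S} {R : Sieve X} {W W' : Scheme.{u}} [IsAffine W] [IsAffine W'] (h : W' ⟶ W)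
    (g : W ⟶ X.left) (hg : Good C R g) : Good C R (h ≫ g) := by
  obtain ⟨κ, _, V, φ, ψ, hV, hR, he, hC⟩ := hg
  haveI := hV
  let g' : PUnit.{u + 1} → (W' ⟶ W) := fun _ => h
  refine ⟨κ × PUnit.{u + 1}, inferInstance, fun p => Over.mk (pullback.fst (ψ p.1) (g' p.2) ≫ (V p.1).hom),
    fun p => (Over.homMk (pullback.fst (ψ p.1) (g' p.2)) rfl : Over.mk (pullback.fst (ψ p.1) (g' p.2) ≫ (V p.1).hom) ⟶ V p.1) ≫ φ p.1,
    fun p => pullback.snd (ψ p.1) (g' p.2), fun p => ?_, fun p => R.downward_closed (hR p.1) _, fun p => ?_, ?_⟩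
  · show IsAffine (pullback (ψ p.1) (g' p.2))
    infer_instance
  · show pullback.snd (ψ p.1) h ≫ h ≫ g = pullback.fst (ψ p.1) h ≫ (φ p.1).left
    rw [← he, ← Category.assoc, ← pullback.condition, Category.assoc]
  · have H := C.of_isPullback (FinitaryPreExtensive.isPullback_sigmaDesc ψ g') hC
    let d : (∐ fun _ : PUnit.{u + 1} => W') ⟶ W' := Limits.Sigma.desc fun _ => 𝟙 W'
    haveI : IsIso d := ⟨Sigma.ι (fun _ : PUnit.{u + 1} => W') PUnit.unit, Sigma.hom_ext _ _ fun _ => by simp [d], by simp [d]⟩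
    have h2 := (MorphismProperty.cancel_right_of_respectsIso C _ d).2 H
    have hd : Limits.Sigma.desc (fun p : κ × PUnit.{u + 1} => pullback.snd (ψ p.1) (g' p.2) ≫ Sigma.ι (fun _ : PUnit.{u + 1} => W') p.2) ≫ d =
        Limits.Sigma.desc fun p : κ × PUnit.{u + 1} => pullback.snd (ψ p.1) (g' p.2) :=
      Sigma.hom_ext _ _ fun p => by simp [d]
    exact hd ▸ h2

theorem good_local (haff : Aff C) (hcoprod : Coprod C) {X : Over S} {R : Sieve X} {W : Scheme.{u}} [IsAffine W]
    (g : W ⟶ X.left) {κ : Type u} [Finite κ] (O : κ → W.Opens) (hO : ∀ k, IsAffineOpen (O k)) (htop : ⨆ k, O k = ⊤)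
    (hg : ∀ k, Good C R ((O k).ι ≫ g)) : Good C R g := by
  choose κ' hfin V φ ψ hV hR he hC using hg
  refine ⟨Σ k, κ' k, inferInstance, fun p => V p.1 p.2, fun p => φ p.1 p.2, fun p => ψ p.1 p.2 ≫ (O p.1).ι,
    fun p => hV p.1 p.2, fun p => hR p.1 p.2, fun p => ?_, ?_⟩
  · rw [Category.assoc]; exact he p.1 p.2
  · have h := C.comp_mem _ _ (hcoprod κ _ _ (fun k => Limits.Sigma.desc (ψ k)) hC) (haff W κ O hO htop)
    rw [← MorphismProperty.cancel_left_of_respectsIso C (sigmaSigmaIso (fun k => κ' k) fun k j => (V k j).left).hom]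
    convert h using 1
    refine Sigma.hom_ext _ _ fun k => Sigma.hom_ext _ _ fun j => ?_
    simp

theorem good_of_cov (haff : Aff C) (hcoprod : Coprod C) {X : Over S} {R : Sieve X} (hR : Cov C R) {W : Scheme.{u}}
    [IsAffine W] (g : W ⟶ X.left) : Good C R g := by
  obtain ⟨ι, U, hU, hUtop, hgood⟩ := hR
  have hx : ∀ x : W, ∃ (i : ι) (O : W.Opens), IsAffineOpen O ∧ x ∈ O ∧ O ≤ g ⁻¹ᵁ U i := fun x => by
    obtain ⟨i, hi⟩ := Opens.mem_iSup.1 (show g.base x ∈ ⨆ i, U i by rw [hUtop]; trivial)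
    obtain ⟨O, hO, hxO, hle⟩ := Opens.isBasis_iff_nbhd.1 W.isBasis_affineOpens (show x ∈ g ⁻¹ᵁ U i from hi)
    exact ⟨i, O, hO, hxO, hle⟩
  choose i O hO hxO hle using hx
  obtain ⟨t, ht⟩ := (CompactSpace.isCompact_univ (X := W)).elim_finite_subcover (fun x => (O x : Set W))
    (fun x => (O x).isOpen) fun x _ => Set.mem_iUnion.2 ⟨x, hxO x⟩
  refine good_local C haff hcoprod g (κ := t) (fun x => O x.1) (fun x => hO x.1) (top_unique fun x _ => ?_) fun x => ?_
  · obtain ⟨y, hy, hxy⟩ := Set.mem_iUnion₂.1 (ht (Set.mem_univ x))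
    exact Opens.mem_iSup.2 ⟨⟨y, hy⟩, hxy⟩
  · haveI : IsAffine (O x.1 : W.Opens).toScheme := hO x.1
    haveI : IsAffine (U (i x.1)).toScheme := hU _
    rw [← Scheme.Hom.resLE_comp_ι g (hle x.1)]
    exact good_pullback C _ _ (hgood _)

theorem cov_of_good {X : Over S} {R : Sieve X} (h : ∀ (W : Scheme.{u}) [IsAffine W] (g : W ⟶ X.left), Good C R g) :
    Cov C R :=
  ⟨X.left.affineOpens, fun U => U.1, fun U => U.2, iSup_affineOpens_eq_top X.left, fun U => by
    haveI : IsAffine U.1.toScheme := U.2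
    exact h _ _⟩

omit [C.IsStableUnderComposition] in
theorem id_mem (haff : Aff C) {U : Scheme.{u}} [IsAffine U] : C (Limits.Sigma.desc fun _ : PUnit.{u + 1} => 𝟙 U) := by
  have h := haff U PUnit.{u + 1} (fun _ => ⊤) (fun _ => isAffineOpen_top U) (by simp)
  let t : (∐ fun _ : PUnit.{u + 1} => U) ⟶ ∐ fun _ : PUnit.{u + 1} => (⊤ : U.Opens).toScheme :=
    Limits.Sigma.map fun _ => U.topIso.inv
  haveI : IsIso t := (Sigma.mapIso fun _ : PUnit.{u + 1} => U.topIso.symm).isIso_hom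
  rw [← MorphismProperty.cancel_left_of_respectsIso C t] at h
  convert h using 1
  exact Sigma.hom_ext _ _ fun _ => by simp [t]

/-- The topology of the covering condition. -/
def top (haff : Aff C) (hcoprod : Coprod C) : GrothendieckTopology (Over S) where
  sieves X := setOf fun R : Sieve X => Cov C R
  top_mem' X := cov_of_good C fun W _ g => ⟨PUnit.{u + 1}, inferInstance, fun _ => Over.mk (g ≫ X.hom),
    fun _ => Over.homMk g rfl, fun _ => 𝟙 W, fun _ => ‹IsAffine W›, fun _ => trivial, fun _ => Category.id_comp _, id_mem C haff⟩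
  pullback_stable' X Y R h hR := cov_of_good C fun W _ g => by
    obtain ⟨κ, _, V, φ, ψ, hV, hRφ, he, hC⟩ := good_of_cov C haff hcoprod hR (g ≫ h.left)
    let χ : ∀ j, V j ⟶ Y := fun j => Over.homMk (ψ j ≫ g) (by
      refine Eq.trans ?_ (Over.w (φ j))
      rw [← he j, ← Over.w h, Category.assoc, Category.assoc, Category.assoc])
    refine ⟨κ, inferInstance, V, χ, ψ, hV, fun j => ?_, fun j => rfl, hC⟩
    show R.arrows (χ j ≫ h)
    have : χ j ≫ h = φ j := Over.OverMorphism.ext ((Category.assoc _ _ _).trans (he j))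
    rw [this]
    exact hRφ j
  transitive' X R hR R' h := cov_of_good C fun W _ g => by
    obtain ⟨κ, _, V, φ, ψ, hV, hRφ, he, hC⟩ := good_of_cov C haff hcoprod hR g
    have hg : ∀ j, Good C (R'.pullback (φ j)) (𝟙 (V j).left) := fun j => by
      haveI := hV j
      exact good_of_cov C haff hcoprod (h (hRφ j)) _
    choose κ' hfin V' φ' ψ' hV' hR' he' hC' using hg
    refine ⟨Σ j, κ' j, inferInstance, fun p => V' p.1 p.2, fun p => φ' p.1 p.2 ≫ φ p.1, fun p => ψ' p.1 p.2 ≫ ψ p.1,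
      fun p => hV' p.1 p.2, fun p => hR' p.1 p.2, fun p => ?_, ?_⟩
    · rw [Category.assoc, he, Over.comp_left, ← he' p.1 p.2, Category.comp_id]
    · have h' := C.comp_mem _ _ (hcoprod κ _ _ (fun k => Limits.Sigma.desc (ψ' k)) hC') hC
      rw [← MorphismProperty.cancel_left_of_respectsIso C (sigmaSigmaIso (fun k => κ' k) fun k j => (V' k j).left).hom]
      convert h' using 1
      refine Sigma.hom_ext _ _ fun k => Sigma.hom_ext _ _ fun j => ?_
      simp

end Groth.Agent.BigSiteLib.ClassTop
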