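import Groth.Agent.BigSiteLib.ConnFib
import Groth.Prelude.Def_EtCore

/-!
# Sections descend along universally submersive morphisms with connected geometric fibres
-/

set_option autoImplicit false

universe u

open CategoryTheory CategoryTheory.Limits AlgebraicGeometry Opposite TopologicalSpace

namespace Groth.Agent.BigSiteLib

set_option backward.isDefEq.respectTransparency.types false

theorem exists_geometric_point {S : Scheme.{u}} (s : S) :
    ∃ (Ω : Type u) (_ : Field Ω) (_ : IsAlgClosed Ω) (ξ : Spec (CommRingCat.of Ω) ⟶ S), s ∈ Set.range ξ := by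
  refine ⟨AlgebraicClosure (S.residueField s), inferInstance, inferInstance,
    Spec.map (CommRingCat.ofHom (algebraMap (S.residueField s) (AlgebraicClosure (S.residueField s)))) ≫ S.fromSpecResidueField s,
    IsLocalRing.closedPoint _, ?_⟩
  have h : ∀ y, S.fromSpecResidueField s y = s := fun y => by
    have : S.fromSpecResidueField s y ∈ Set.range (S.fromSpecResidueField s) := ⟨y, rfl⟩
    rwa [Scheme.range_fromSpecResidueField] at this
  exact (Scheme.Hom.comp_apply _ _ _).trans (h _)

variable {X S : Scheme.{u}} (f : X ⟶ S) (F : EtCoh.Ab S)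

theorem agree_of_connected (hc : ∀ (Ω : Type u) [Field Ω] [IsAlgClosed Ω] (s : Spec (CommRingCat.of Ω) ⟶ S), ConnectedSpace ↥(pullback f s))
    (t : (piP F).obj (op (Over.mk f))) {W : Over S} (p q : W ⟶ Over.mk f) :
    (piP F).map p.op t = (piP F).map q.op t := by
  have hP := etInduced_piP F
  have hloc : ∀ w : W.left, ∃ (V : Over S) (k : V ⟶ W), Etale k.left ∧ w ∈ Set.range k.left ∧
      (piP F).map k.op ((piP F).map p.op t) = (piP F).map k.op ((piP F).map q.op t) := fun w => by
    obtain ⟨Ω, _, _, ξ, z₀, hz₀⟩ := exists_geometric_point (W.hom w)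
    haveI := hc Ω ξ
    let F' := (EtCoh.pull ξ).obj F
    let A : Over (Spec (CommRingCat.of Ω)) := Over.mk (pullback.snd f ξ)
    let B : Over (Spec (CommRingCat.of Ω)) := Over.mk (pullback.snd W.hom ξ)
    let a : (Over.map ξ).obj A ⟶ Over.mk f := Over.homMk (pullback.fst f ξ) pullback.condition
    let b : (Over.map ξ).obj B ⟶ W := Over.homMk (pullback.fst W.hom ξ) pullback.condition
    haveI : ConnectedSpace A.left := inferInstanceAs (ConnectedSpace ↥(pullback f ξ))
    obtain ⟨c, hc'⟩ := exists_const (etInduced_piP F') (toBase F ξ A ((piP F).map a.op t))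
    have key : ∀ r : W ⟶ Over.mk f, toBase F ξ B ((piP F).map b.op ((piP F).map r.op t)) =
        (piP F').map (toPt B).op c := fun r => by
      let r' : B ⟶ A := Over.homMk (pullback.map W.hom ξ f ξ r.left (𝟙 _) (𝟙 _)
        (by rw [Category.comp_id]; exact (Over.w r).symm) (by rw [Category.comp_id, Category.id_comp]))
        ((pullback.lift_snd _ _ _).trans (Category.comp_id _))
      have hr : (Over.map ξ).map r' ≫ a = b ≫ r := Over.OverMorphism.ext (pullback.lift_fst _ _ _)
      rw [EtInd.mapP, ← hr, ← EtInd.mapP, toBase_map, ← hc', EtInd.mapP]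
      exact congrArg (fun k => (piP F').map (Quiver.Hom.op k) c) (Over.OverMorphism.ext (Over.w r'))
    have e := toBase_injective F ξ B ((key p).trans (key q).symm)
    obtain ⟨z, hz, -⟩ := Scheme.Pullback.exists_preimage_pullback (f := W.hom) (g := ξ) w z₀ hz₀.symm
    obtain ⟨V, k, hk, hwk, hek⟩ := hP.locEq b _ _ e z
    exact ⟨V, k, hk, hz ▸ hwk, hek⟩
  choose V k hk hw he using hloc
  exact EtInd.ext_et hP V k hk (fun w => ⟨w, hw w⟩) he

theorem piP_map_bijective
    (hsub : ∀ (S' : Scheme.{u}) (g : S' ⟶ S), Topology.IsQuotientMap (pullback.snd f g).base)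
    (hc : ∀ (Ω : Type u) [Field Ω] [IsAlgClosed Ω] (s : Spec (CommRingCat.of Ω) ⟶ S), ConnectedSpace ↥(pullback f s))
    {Y : Over S} [IsIso Y.hom] (e : Over.mk f ⟶ Y) :
    Function.Bijective ((piP F).map e.op) := by
  have hP := etInduced_piP F
  have hsurj : ∀ y : Y.left, ∃ _ : PUnit.{1}, y ∈ Set.range e.left := fun y => by
    obtain ⟨z, hz⟩ := (hsub S (𝟙 S)).surjective (Y.hom y)
    refine ⟨PUnit.unit, pullback.fst f (𝟙 S) z, Y.hom.homeomorph.injective ?_⟩
    show Y.hom (e.left (pullback.fst f (𝟙 S) z)) = Y.hom y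
    rw [← Scheme.Hom.comp_apply, Over.w e]
    show f (pullback.fst f (𝟙 S) z) = _
    rw [← Scheme.Hom.comp_apply, pullback.condition, Category.comp_id]
    exact hz
  refine ⟨fun a b h => EtInd.ext_fam hP (I := PUnit.{1}) (fun _ => e) hsurj fun _ => h, fun t => ?_⟩
  have hopen : ∀ (V : Over S) (k : V ⟶ Y), Etale k.left → ∀ E : Set V.left,
      (∀ i : PUnit.{1}, IsOpen ((EtInd.π₁ (fun _ : PUnit.{1} => e) k i).left ⁻¹' E)) → IsOpen E := fun V k _ E hE => by
    have h2 : IsPullback (pullback.snd k.left e.left) (pullback.fst k.left e.left) (e.left ≫ Y.hom) (k.left ≫ Y.hom) :=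
      (IsPullback.of_hasPullback k.left e.left).flip.of_iso (Iso.refl _) (Iso.refl _) (Iso.refl _) (asIso Y.hom)
        (by simp) (by simp) (by simp) (by simp)
    have hsq : IsPullback (pullback.snd k.left e.left) (pullback.fst k.left e.left) f V.hom := by
      rw [Over.w e, Over.w k] at h2
      exact h2
    refine (hsub V.left V.hom).isOpen_preimage.1 ?_
    rw [← hsq.isoPullback_inv_snd]
    exact (hE PUnit.unit).preimage hsq.isoPullback.inv.continuous
  obtain ⟨x, hx⟩ := EtInd.exists_glue hP (I := PUnit.{1}) (fun _ => e) hsurj hopen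
    (s := fun _ => t) (fun _ _ W p q _ => agree_of_connected f F hc t p q)
  exact ⟨x, hx PUnit.unit⟩

theorem unit_sections_bijective
    (hsub : ∀ (S' : Scheme.{u}) (g : S' ⟶ S), Topology.IsQuotientMap (pullback.snd f g).base)
    (hc : ∀ (Ω : Type u) [Field Ω] [IsAlgClosed Ω] (s : Spec (CommRingCat.of Ω) ⟶ S), ConnectedSpace ↥(pullback f s)) :
    Function.Bijective (((EtCoh.pullPushAdj f).unit.app F).hom.app (op (EtCoh.top S))) := by
  let B := (Over.map f).obj ((EtFppf.a X).obj ((EtCoh.bc f).obj (EtCoh.top S)))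
  have hi : IsIso (pullback.snd (𝟙 S) f) :=
    MorphismProperty.pullback_snd (P := MorphismProperty.isomorphisms Scheme.{u}) (𝟙 S) f (MorphismProperty.isomorphisms.infer_property _)
  let i : Over.mk f ≅ B := (Over.isoMk (@asIso _ _ _ _ (pullback.snd (𝟙 S) f) hi) rfl : B ≅ Over.mk f).symm
  haveI : IsIso ((EtFppf.a S).obj (EtCoh.top S)).hom := inferInstanceAs (IsIso (𝟙 S))
  have hb := piP_map_bijective f F hsub hc (i.hom ≫ bcProj f (EtCoh.top S))
  have hη : Function.Bijective (etaApp F (EtCoh.top S)) := by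
    refine ⟨?_, etaApp_surjective F _⟩
    haveI := isIso_unit S F
    exact ((ConcreteCategory.isIso_iff_bijective _).1
      (inferInstanceAs (IsIso (((sheafToPresheaf _ _).map ((BigSite.piEtAdj Scheme.etalePrecoverage S).unit.app F)).app (op (EtCoh.top S)))))).1
  have hb' : Function.Bijective ((piP F).map (bcProj f (EtCoh.top S)).op) := by
    have hi : Function.Bijective ((piP F).map i.hom.op) := ((piP F).mapIso i.op).toEquiv.bijective
    have h : (piP F).map (i.hom ≫ bcProj f (EtCoh.top S)).op =
        (piP F).map i.hom.op ∘ (piP F).map (bcProj f (EtCoh.top S)).op := funext fun x => (EtInd.mapP _ _ x).symm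
    rw [h] at hb
    exact (Function.Bijective.of_comp_iff' hi _).1 hb
  have h : (resAlongPiPullIso f F).hom.hom.app (op ((EtCoh.bc f).obj (EtCoh.top S))) ∘
      ((EtCoh.pullPushAdj f).unit.app F).hom.app (op (EtCoh.top S)) =
      (piP F).map (bcProj f (EtCoh.top S)).op ∘ etaApp F (EtCoh.top S) :=
    funext fun a => resAlong_unit F f (EtCoh.top S) a
  refine (Function.Bijective.of_comp_iff' ⟨resAlong_injective F f _, resAlong_surjective F f _⟩ _).1 ?_
  exact h ▸ hb'.comp hη

end Groth.Agent.BigSiteLib
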