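import Groth.Agent.BigSiteLib.PiFpqc
import Groth.Agent.AlgSpLib.EtLocalInst
import Mathlib.AlgebraicGeometry.AlgClosed.Basic
import Mathlib.AlgebraicGeometry.Morphisms.Etale
import Mathlib.AlgebraicGeometry.Morphisms.QuasiFinite
import Mathlib.AlgebraicGeometry.Morphisms.FlatMono

/-!
# Sections along universally submersive morphisms with connected geometric fibres
-/

set_option autoImplicit false

universe u

open CategoryTheory CategoryTheory.Limits AlgebraicGeometry Opposite TopologicalSpace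

namespace Groth.Agent.BigSiteLib

set_option backward.isDefEq.respectTransparency.types false

variable {Ω : Type u} [Field Ω] [IsAlgClosed Ω]

/-- The point of the base. -/
noncomputable abbrev ptBase (Ω : Type u) [Field Ω] : Over (Spec (CommRingCat.of Ω)) := Over.mk (𝟙 (Spec (CommRingCat.of Ω)))

/-- The structure morphism, over the base. -/
noncomputable abbrev toPt (T : Over (Spec (CommRingCat.of Ω))) : T ⟶ ptBase Ω := Over.homMk T.hom (Category.comp_id _)

theorem exists_factor_near {V W : Over (Spec (CommRingCat.of Ω))} [Etale V.hom] (q : W ⟶ V) (w : W.left) :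
    ∃ (E : W.left.Opens) (σ : ptBase Ω ⟶ V), w ∈ E ∧ E.ι ≫ q.left = E.ι ≫ W.hom ≫ σ.left := by
  let f := V.hom
  haveI : LocallyQuasiFinite f := Groth.Agent.AlgSpLib.locallyQuasiFinite_of_formallyUnramified f
  have hd : DiscreteTopology ↥V.left := by
    have h1 := f.isDiscrete_preimage_singleton (IsLocalRing.closedPoint Ω)
    exact isDiscrete_univ_iff.1 (h1.mono fun x _ => Subsingleton.elim (α := PrimeSpectrum Ω) _ _)
  let v := q.left w
  have hv : IsClosed ({v} : Set ↥V.left) := isClosed_discrete _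
  let s₀ := pointOfClosedPoint f v hv
  have e : s₀ ≫ f = 𝟙 _ := pointOfClosedPoint_comp f v hv
  haveI : Etale (s₀ ≫ f) := by rw [e]; infer_instance
  haveI : Etale s₀ := MorphismProperty.of_postcomp @Etale (W' := @Etale) s₀ f (inferInstanceAs (Etale V.hom)) ‹Etale (s₀ ≫ f)›
  haveI : Mono (s₀ ≫ f) := by rw [e]; infer_instance
  haveI : Mono s₀ := mono_of_mono s₀ f
  haveI : IsOpenImmersion s₀ := IsOpenImmersion.of_flat_of_mono s₀
  let E : W.left.Opens := ⟨q.left ⁻¹' {v}, (isOpen_discrete _).preimage q.left.continuous⟩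
  have hr : Set.range (E.ι ≫ q.left) ⊆ Set.range s₀ := by
    rintro _ ⟨x, rfl⟩
    rw [Scheme.Hom.comp_apply]
    exact ⟨IsLocalRing.closedPoint Ω, (pointOfClosedPoint_apply f v hv _).trans x.2.symm⟩
  refine ⟨E, Over.homMk s₀ e, rfl, ?_⟩
  let l := IsOpenImmersion.lift s₀ (E.ι ≫ q.left) hr
  have hl : l ≫ s₀ = E.ι ≫ q.left := IsOpenImmersion.lift_fac _ _ _
  have hl' : l = E.ι ≫ W.hom := by
    refine Eq.trans ?_ ((congrArg (E.ι ≫ ·) (Over.w q)))
    refine (Category.comp_id l).symm.trans ((congrArg (l ≫ ·) e.symm).trans ?_)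
    exact (Category.assoc _ _ _).symm.trans ((congrArg (· ≫ f) hl).trans (Category.assoc _ _ _))
  show E.ι ≫ q.left = E.ι ≫ W.hom ≫ s₀
  rw [← hl, hl', Category.assoc]

variable {P : (Over (Spec (CommRingCat.of Ω)))ᵒᵖ ⥤ Type (u + 1)} (hP : EtInd.EtInduced P)
include hP

theorem eq_of_map_eq_map {T : Over (Spec (CommRingCat.of Ω))} [Nonempty T.left] {a b : P.obj (op (ptBase Ω))}
    (h : P.map (toPt T).op a = P.map (toPt T).op b) : a = b := by
  obtain ⟨z⟩ := ‹Nonempty T.left›
  refine EtInd.ext_fam hP (I := PUnit.{1}) (fun _ => toPt T) (fun y => ⟨PUnit.unit, z, ?_⟩) fun _ => h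
  exact Subsingleton.elim (α := PrimeSpectrum Ω) _ _

theorem exists_const {T : Over (Spec (CommRingCat.of Ω))} [ConnectedSpace T.left] (s : P.obj (op T)) :
    ∃ a : P.obj (op (ptBase Ω)), P.map (toPt T).op a = s := by
  let Z : P.obj (op (ptBase Ω)) → Set T.left := fun a => {z | ∃ (W : Over (Spec (CommRingCat.of Ω))) (p : W ⟶ T),
    Etale p.left ∧ z ∈ Set.range p.left ∧ P.map p.op s = P.map (toPt W).op a}
  have hopen : ∀ a, IsOpen (Z a) := fun a => isOpen_iff_forall_mem_open.2 fun z ⟨W, p, hp, hz, e⟩ =>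
    ⟨Set.range p.left, fun z' hz' => ⟨W, p, hp, hz', e⟩, by haveI := hp; exact (Scheme.Hom.isOpenMap p.left).isOpen_range, hz⟩
  have hcov : ∀ z, ∃ a, z ∈ Z a := fun z => by
    obtain ⟨V, W, p, q, a, hV, hp, ⟨w, hw⟩, e⟩ := hP.loc T s z
    haveI := hV
    obtain ⟨E, σ, hwE, hE⟩ := exists_factor_near q w
    let ι : Over.mk (E.ι ≫ W.hom) ⟶ W := Over.homMk E.ι rfl
    refine ⟨P.map σ.op a, _, ι ≫ p, ?_, ⟨⟨w, hwE⟩, ?_⟩, ?_⟩
    · haveI := hp
      exact inferInstanceAs (Etale (E.ι ≫ p.left))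
    · show (E.ι ≫ p.left) ⟨w, hwE⟩ = z
      rw [Scheme.Hom.comp_apply]; exact hw
    · rw [← EtInd.mapP, e, EtInd.mapP, EtInd.mapP]
      exact congrArg (fun k => P.map (Quiver.Hom.op k) a) (Over.OverMorphism.ext (hE.trans (Category.assoc _ _ _).symm))
  have hdisj : ∀ a b z, z ∈ Z a → z ∈ Z b → a = b := by
    rintro a b z ⟨W, p, hp, ⟨w, hw⟩, e⟩ ⟨W', p', hp', ⟨w', hw'⟩, e'⟩
    obtain ⟨x, -, -⟩ := Scheme.Pullback.exists_preimage_pullback (f := p.left) (g := p'.left) w w' (hw.trans hw'.symm)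
    let Q : Over (Spec (CommRingCat.of Ω)) := Over.mk (pullback.fst p.left p'.left ≫ W.hom)
    let c : Q ⟶ W := Over.homMk (pullback.fst _ _) rfl
    let c' : Q ⟶ W' := Over.homMk (pullback.snd p.left p'.left) (by
      show pullback.snd p.left p'.left ≫ W'.hom = pullback.fst p.left p'.left ≫ W.hom
      rw [← Over.w p, ← Over.w p', pullback.condition_assoc])
    have hc : c ≫ p = c' ≫ p' := Over.OverMorphism.ext pullback.condition
    haveI : Nonempty Q.left := ⟨x⟩
    refine eq_of_map_eq_map hP (T := Q) ?_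
    have h1 := congrArg (P.map c.op) e
    have h2 := congrArg (P.map c'.op) e'
    rw [EtInd.mapP, EtInd.mapP] at h1 h2
    rw [hc, h2] at h1
    have e1 : c ≫ toPt W = toPt Q := Over.OverMorphism.ext (Over.w c)
    have e2 : c' ≫ toPt W' = toPt Q := Over.OverMorphism.ext (Over.w c')
    rw [e1, e2] at h1
    exact h1.symm
  obtain ⟨z₀⟩ := (inferInstance : Nonempty T.left)
  obtain ⟨a, ha⟩ := hcov z₀
  have hall : Z a = Set.univ := by
    refine IsClopen.eq_univ ⟨?_, hopen a⟩ ⟨z₀, ha⟩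
    refine isOpen_compl_iff.1 (isOpen_iff_forall_mem_open.2 fun z hz => ?_)
    obtain ⟨b, hb⟩ := hcov z
    exact ⟨Z b, fun y hy hya => hz (hdisj a b y hya hy ▸ hb), hopen b, hb⟩
  choose W p hp hz he using fun z => (show z ∈ Z a by rw [hall]; trivial)
  refine ⟨a, EtInd.ext_et hP W p hp (fun z => ⟨z, hz z⟩) fun z => ?_⟩
  rw [he z, EtInd.mapP]
  exact congrArg (fun k => P.map (Quiver.Hom.op k) a) (Over.OverMorphism.ext (Over.w (p z)))

end Groth.Agent.BigSiteLib
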