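import Groth.Prelude.Def_BigSite

/-!
# Restriction of direct images along monomorphisms
-/

set_option autoImplicit false

universe v' u' u

open CategoryTheory CategoryTheory.Limits AlgebraicGeometry Opposite

namespace Groth.Agent.BigSiteLib

theorem isIso_unit_of_mono {X Y : Scheme.{u}} (f : X ⟶ Y) [Mono f] (Z : Over X) :
    IsIso ((Over.mapPullbackAdj f).unit.app Z) := by
  haveI : (Over.map f).Faithful := ⟨fun {A B a b} h => Over.OverMorphism.ext (congrArg (fun k => CommaMorphism.left k) h :)⟩
  haveI : (Over.map f).Full := ⟨fun {A B} h => ⟨Over.homMk h.left ((cancel_mono f).1 (by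
    rw [Category.assoc]; exact Over.w h)), Over.OverMorphism.ext rfl⟩⟩
  infer_instance

theorem isIso_counit_of_mono {X Y : Scheme.{u}} (f : X ⟶ Y) [Mono f] (K : Precoverage Scheme.{u})
    (A : Type u') [Category.{v'} A] (F : Sheaf (QuotSh.J K X) A) : IsIso ((BigSite.bigAdj K f A).counit.app F) := by
  haveI : ∀ U, IsIso (((BigSite.bigAdj K f A).counit.app F).hom.app U) := fun U => by
    haveI := isIso_unit_of_mono f U.unop
    show IsIso ((((Over.mapPullbackAdj f).op.whiskerLeft A).counit.app F.obj).app U)
    simp only [Adjunction.whiskerLeft]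
    dsimp
    haveI : IsIso (F.obj.map ((Over.mapPullbackAdj f).op.counit.app U)) := by
      haveI : IsIso ((Over.mapPullbackAdj f).op.counit.app U) :=
        inferInstanceAs (IsIso ((Over.mapPullbackAdj f).unit.app U.unop).op)
      infer_instance
    infer_instance
  haveI h : IsIso ((BigSite.bigAdj K f A).counit.app F).hom := NatIso.isIso_of_isIso_app _
  haveI : IsIso ((sheafToPresheaf _ _).map ((BigSite.bigAdj K f A).counit.app F)) := h
  exact isIso_of_reflects_iso _ (sheafToPresheaf _ _)

end Groth.Agent.BigSiteLib
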