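import Groth.Prelude.Def_BigSite
import Mathlib.AlgebraicGeometry.Morphisms.Etale
import Mathlib.AlgebraicGeometry.PullbackCarrier

/-!
# Descent of sections of presheaves induced from small etale sites

A presheaf on schemes over `X` is etale-induced when it is an etale sheaf whose sections come,
etale locally on the source, from etale `X`-schemes and whose sections agree near every point of
the image of a morphism after which they agree.  Such presheaves satisfy descent for jointly
surjective families whose base changes detect open subsets.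
-/

set_option autoImplicit false

universe v w u

open CategoryTheory CategoryTheory.Limits AlgebraicGeometry Opposite TopologicalSpace

namespace Groth.Agent.BigSiteLib.EtInd

variable {X : Scheme.{u}}

theorem ofArrows_mem_et {Y : Over X} {I : Type w} (Z : I → Over X) (m : ∀ i, Z i ⟶ Y)
    (he : ∀ i, Etale (m i).left) (hs : ∀ x : Y.left, ∃ i, x ∈ Set.range (m i).left) :
    Sieve.ofArrows Z m ∈ QuotSh.J Scheme.etalePrecoverage X Y := by
  show Sieve.overEquiv Y (Sieve.ofArrows Z m) ∈ Scheme.etalePrecoverage.toGrothendieck Y.left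
  rw [Sieve.overEquiv_ofArrows]
  exact Precoverage.generate_mem_toGrothendieck (J := Scheme.precoverage @Etale)
    ((Scheme.ofArrows_mem_precoverage_iff _).2 ⟨hs, he⟩)

/-- An etale-induced presheaf. -/
structure EtInduced (P : (Over X)ᵒᵖ ⥤ Type v) : Prop where
  sheaf : Presieve.IsSheaf (QuotSh.J Scheme.etalePrecoverage X) P
  loc : ∀ (T : Over X) (s : P.obj (op T)) (z : T.left), ∃ (V W : Over X) (p : W ⟶ T) (q : W ⟶ V)
    (a : P.obj (op V)), Etale V.hom ∧ Etale p.left ∧ z ∈ Set.range p.left ∧ P.map p.op s = P.map q.op a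
  locEq : ∀ {V T : Over X} (h : T ⟶ V) (a b : P.obj (op V)), P.map h.op a = P.map h.op b →
    ∀ z : T.left, ∃ (V' : Over X) (k : V' ⟶ V),
      Etale k.left ∧ h.left z ∈ Set.range k.left ∧ P.map k.op a = P.map k.op b

variable {P : (Over X)ᵒᵖ ⥤ Type v}

theorem mapP {A B D : Over X} (f : A ⟶ B) (g : B ⟶ D) (x : P.obj (op D)) :
    P.map f.op (P.map g.op x) = P.map (f ≫ g).op x := by
  rw [op_comp, Functor.map_comp]; rfl

variable (hP : EtInduced P)
include hP

theorem isSheafFor_et {Y : Over X} {I : Type w} (Z : I → Over X) (m : ∀ i, Z i ⟶ Y)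
    (he : ∀ i, Etale (m i).left) (hs : ∀ x : Y.left, ∃ i, x ∈ Set.range (m i).left) :
    Presieve.IsSheafFor P (Presieve.ofArrows Z m) :=
  (Presieve.isSheafFor_iff_generate _).2 (hP.sheaf _ (ofArrows_mem_et Z m he hs))

theorem ext_et {Y : Over X} {I : Type w} (Z : I → Over X) (m : ∀ i, Z i ⟶ Y)
    (he : ∀ i, Etale (m i).left) (hs : ∀ x : Y.left, ∃ i, x ∈ Set.range (m i).left)
    {a b : P.obj (op Y)} (h : ∀ i, P.map (m i).op a = P.map (m i).op b) : a = b :=
  (isSheafFor_et hP Z m he hs).isSeparatedFor.ext fun W w hw => by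
    obtain ⟨i⟩ := hw
    exact h i

theorem loc' {Y T : Over X} (f : T ⟶ Y) (s : P.obj (op T)) (z : T.left) :
    ∃ (V W : Over X) (k : V ⟶ Y) (p : W ⟶ T) (q : W ⟶ V) (a : P.obj (op V)), Etale k.left ∧ Etale p.left ∧
      z ∈ Set.range p.left ∧ q ≫ k = p ≫ f ∧ P.map p.op s = P.map q.op a := by
  obtain ⟨V₀, W, p, q, a, hV, hp, hz, hs⟩ := hP.loc T s z
  let V : Over X := Over.mk (pullback.snd Y.hom V₀.hom ≫ V₀.hom)
  let k : V ⟶ Y := Over.homMk (pullback.fst Y.hom V₀.hom) pullback.condition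
  let c : V ⟶ V₀ := Over.homMk (pullback.snd Y.hom V₀.hom) rfl
  let q' : W ⟶ V := Over.homMk (pullback.lift (p.left ≫ f.left) q.left
      (by rw [Category.assoc, Over.w, Over.w, Over.w])) (by
    show _ ≫ pullback.snd Y.hom V₀.hom ≫ V₀.hom = _
    rw [pullback.lift_snd_assoc, Over.w])
  have hk : Etale (pullback.fst Y.hom V₀.hom) := inferInstance
  have e1 : q' ≫ k = p ≫ f := Over.OverMorphism.ext (pullback.lift_fst _ _ _)
  have e2 : q' ≫ c = q := Over.OverMorphism.ext (pullback.lift_snd _ _ _)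
  exact ⟨V, W, k, p, q', P.map c.op a, hk, hp, hz, e1, by rw [mapP, e2, hs]⟩

omit hP

variable {Y : Over X} {I : Type w} {T : I → Over X} (f : ∀ i, T i ⟶ Y)

/-- The base change of a member of a family. -/
noncomputable abbrev bb {V : Over X} (k : V ⟶ Y) (i : I) : Over X :=
  Over.mk (pullback.fst k.left (f i).left ≫ V.hom)

/-- The first projection. -/
noncomputable abbrev π₁ {V : Over X} (k : V ⟶ Y) (i : I) : bb f k i ⟶ V := Over.homMk (pullback.fst _ _) rfl

/-- The second projection. -/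
noncomputable abbrev π₂ {V : Over X} (k : V ⟶ Y) (i : I) : bb f k i ⟶ T i :=
  Over.homMk (pullback.snd k.left (f i).left) (by
    show _ = pullback.fst k.left (f i).left ≫ V.hom
    rw [← Over.w k, ← Over.w (f i), pullback.condition_assoc])

theorem π_comp {V : Over X} (k : V ⟶ Y) (i : I) : π₁ f k i ≫ k = π₂ f k i ≫ f i :=
  Over.OverMorphism.ext pullback.condition

/-- The points near which a section agrees with the given one. -/
def agree (s : ∀ i, P.obj (op (T i))) {V : Over X} (k : V ⟶ Y) (a : P.obj (op V)) (i : I) :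
    Set (bb f k i).left :=
  {z | ∃ (W : Over X) (r : W ⟶ bb f k i), Etale r.left ∧ z ∈ Set.range r.left ∧
    P.map (r ≫ π₁ f k i).op a = P.map (r ≫ π₂ f k i).op (s i)}

theorem isOpen_agree (s : ∀ i, P.obj (op (T i))) {V : Over X} (k : V ⟶ Y) (a : P.obj (op V)) (i : I) :
    IsOpen (agree f s k a i) :=
  isOpen_iff_forall_mem_open.2 fun z ⟨W, r, hr, hz, e⟩ => ⟨Set.range r.left,
    fun z' hz' => ⟨W, r, hr, hz', e⟩, by haveI := hr; exact (Scheme.Hom.isOpenMap r.left).isOpen_range, hz⟩

/-- The points of the base all of whose preimages are points of agreement. -/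
def good (s : ∀ i, P.obj (op (T i))) {V : Over X} (k : V ⟶ Y) (a : P.obj (op V)) : Set V.left :=
  {y | ∀ (i : I) (z : (bb f k i).left), (π₁ f k i).left z = y → z ∈ agree f s k a i}

/-- The family is compatible. -/
def Compat (s : ∀ i, P.obj (op (T i))) : Prop :=
  ∀ (i j : I) (W : Over X) (p : W ⟶ T i) (q : W ⟶ T j), p ≫ f i = q ≫ f j → P.map p.op (s i) = P.map q.op (s j)

include hP

theorem agree_transfer {s : ∀ i, P.obj (op (T i))} (hs : Compat f s) {V : Over X} (k : V ⟶ Y) (a : P.obj (op V))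
    {i j : I} (z : (bb f k i).left) (z' : (bb f k j).left) (hzz' : (π₁ f k i).left z = (π₁ f k j).left z')
    (hz : z ∈ agree f s k a i) : z' ∈ agree f s k a j := by
  obtain ⟨W, r, -, ⟨w, hw⟩, e⟩ := hz
  obtain ⟨q, hq1, hq2⟩ := Scheme.Pullback.exists_preimage_pullback (f := r.left ≫ (π₁ f k i).left)
    (g := (π₁ f k j).left) w z' ((Scheme.Hom.comp_apply _ _ w).trans ((congrArg (π₁ f k i).left hw).trans hzz'))
  let Q : Over X := Over.mk (pullback.snd (r.left ≫ (π₁ f k i).left) (π₁ f k j).left ≫ (bb f k j).hom)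
  let h : Q ⟶ bb f k j := Over.homMk (pullback.snd _ _) rfl
  let g : Q ⟶ W := Over.homMk (pullback.fst (r.left ≫ (π₁ f k i).left) (π₁ f k j).left) (by
    show _ = pullback.snd (r.left ≫ (π₁ f k i).left) (π₁ f k j).left ≫ (bb f k j).hom
    rw [← Over.w r, ← Over.w (π₁ f k i), ← Over.w (π₁ f k j), ← pullback.condition_assoc, Category.assoc])
  have hgh : g ≫ r ≫ π₁ f k i = h ≫ π₁ f k j := Over.OverMorphism.ext pullback.condition
  have hs' := hs i j Q (g ≫ r ≫ π₂ f k i) (h ≫ π₂ f k j) (by
    rw [Category.assoc, Category.assoc, Category.assoc, ← π_comp, ← π_comp, ← Category.assoc h, ← hgh,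
      Category.assoc, Category.assoc])
  have heq : P.map h.op (P.map (π₁ f k j).op a) = P.map h.op (P.map (π₂ f k j).op (s j)) := by
    rw [mapP, mapP, ← hgh, ← mapP, e, mapP, hs']
  obtain ⟨V', k', hk', hz', e'⟩ := hP.locEq h _ _ heq q
  exact ⟨V', k', hk', hq2 ▸ hz', by rw [← mapP, ← mapP]; exact e'⟩

theorem isOpen_good {s : ∀ i, P.obj (op (T i))} (hs : Compat f s)
    (hopen : ∀ (V : Over X) (k : V ⟶ Y), Etale k.left → ∀ E : Set V.left,
      (∀ i, IsOpen ((π₁ f k i).left ⁻¹' E)) → IsOpen E)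
    {V : Over X} (k : V ⟶ Y) (hk : Etale k.left) (a : P.obj (op V)) : IsOpen (good f s k a) := by
  refine hopen V k hk _ fun i => ?_
  have e : (π₁ f k i).left ⁻¹' good f s k a = agree f s k a i := Set.ext fun z =>
    ⟨fun h => h i z rfl, fun h j z' hz' => agree_transfer hP f hs k a z z' hz'.symm h⟩
  rw [e]
  exact isOpen_agree f s k a i

theorem map_good {s : ∀ i, P.obj (op (T i))} {V W : Over X} (k : V ⟶ Y) (a : P.obj (op V))
    (m : W ⟶ V) (hm : ∀ w : W.left, m.left w ∈ good f s k a) (i : I) :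
    P.map (π₁ f (m ≫ k) i).op (P.map m.op a) = P.map (π₂ f (m ≫ k) i).op (s i) := by
  let m' : bb f (m ≫ k) i ⟶ bb f k i := Over.homMk
    (pullback.lift (pullback.fst (m ≫ k).left (f i).left ≫ m.left) (pullback.snd _ _)
      ((Category.assoc _ _ _).trans pullback.condition)) (by
    show _ ≫ pullback.fst k.left (f i).left ≫ V.hom = pullback.fst (m ≫ k).left (f i).left ≫ W.hom
    rw [pullback.lift_fst_assoc, Category.assoc, Over.w])
  have h1 : m' ≫ π₁ f k i = π₁ f (m ≫ k) i ≫ m := Over.OverMorphism.ext (pullback.lift_fst _ _ _)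
  have h2 : m' ≫ π₂ f k i = π₂ f (m ≫ k) i := Over.OverMorphism.ext (pullback.lift_snd _ _ _)
  have hb : ∀ b : (bb f (m ≫ k) i).left, m'.left b ∈ agree f s k a i := fun b =>
    hm ((π₁ f (m ≫ k) i).left b) i _ (congrArg (fun t : bb f (m ≫ k) i ⟶ V => t.left b) h1)
  choose Z r hr hz he using hb
  refine ext_et hP (fun b => Over.mk (pullback.fst m'.left (r b).left ≫ (bb f (m ≫ k) i).hom))
    (fun b => Over.homMk (pullback.fst m'.left (r b).left) rfl) (fun b => ?_) (fun b => ?_) fun b => ?_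
  · haveI := hr b
    exact inferInstanceAs (Etale (pullback.fst m'.left (r b).left))
  · obtain ⟨w, hw⟩ := hz b
    obtain ⟨z, hz1, -⟩ := Scheme.Pullback.exists_preimage_pullback (f := m'.left) (g := (r b).left) b w hw.symm
    exact ⟨b, z, hz1⟩
  · let g : Over.mk (pullback.fst m'.left (r b).left ≫ (bb f (m ≫ k) i).hom) ⟶ Z b :=
      Over.homMk (pullback.snd m'.left (r b).left) (by
        show _ = pullback.fst m'.left (r b).left ≫ _
        rw [← Over.w m', ← Over.w (r b), pullback.condition_assoc])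
    have hg : g ≫ r b = Over.homMk (pullback.fst m'.left (r b).left) rfl ≫ m' :=
      Over.OverMorphism.ext pullback.condition.symm
    have hh := congrArg (P.map g.op) (he b)
    rw [mapP, mapP, ← Category.assoc, ← Category.assoc, hg, Category.assoc, Category.assoc, h1, h2] at hh
    rw [mapP, mapP, mapP]
    exact hh

theorem ext_fam (hs : ∀ y : Y.left, ∃ i, y ∈ Set.range (f i).left) {a b : P.obj (op Y)}
    (h : ∀ i, P.map (f i).op a = P.map (f i).op b) : a = b := by
  choose i z hz using hs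
  choose V k hk hy e using fun y => hP.locEq (f (i y)) a b (h _) (z y)
  exact ext_et hP V k hk (fun y => ⟨y, (congrArg (· ∈ Set.range (k y).left) (hz y)).mp (hy y)⟩) e

omit hP

theorem surj_bb (hsurj : ∀ y : Y.left, ∃ i, y ∈ Set.range (f i).left) {V : Over X} (k : V ⟶ Y) (v : V.left) :
    ∃ i, v ∈ Set.range (π₁ f k i).left := by
  obtain ⟨i, t, ht⟩ := hsurj (k.left v)
  obtain ⟨z, hz, -⟩ := Scheme.Pullback.exists_preimage_pullback (f := k.left) (g := (f i).left) v t ht.symm
  exact ⟨i, z, hz⟩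

include hP

theorem ext_base_change (hsurj : ∀ y : Y.left, ∃ i, y ∈ Set.range (f i).left) {V : Over X} (k : V ⟶ Y)
    {a b : P.obj (op V)} (h : ∀ i, P.map (π₁ f k i).op a = P.map (π₁ f k i).op b) : a = b :=
  ext_fam hP (fun i => π₁ f k i) (surj_bb f hsurj k) h

theorem exists_glue (hsurj : ∀ y : Y.left, ∃ i, y ∈ Set.range (f i).left)
    (hopen : ∀ (V : Over X) (k : V ⟶ Y), Etale k.left → ∀ E : Set V.left,
      (∀ i, IsOpen ((π₁ f k i).left ⁻¹' E)) → IsOpen E)
    {s : ∀ i, P.obj (op (T i))} (hs : Compat f s) : ∃ x, ∀ i, P.map (f i).op x = s i := by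
  have hloc : ∀ y : Y.left, ∃ (V : Over X) (k : V ⟶ Y) (a : P.obj (op V)) (v : V.left),
      Etale k.left ∧ k.left v = y ∧ v ∈ good f s k a := fun y => by
    obtain ⟨i, t, ht⟩ := hsurj y
    obtain ⟨V, W, k, p, q, a, hk, hp, ⟨w, hw⟩, hqk, he⟩ := loc' hP (f i) (s i) t
    let l : W ⟶ bb f k i := Over.homMk (pullback.lift q.left p.left (congrArg CommaMorphism.left hqk)) (by
      show _ ≫ pullback.fst k.left (f i).left ≫ V.hom = _
      rw [pullback.lift_fst_assoc, Over.w])
    have hl1 : l ≫ π₁ f k i = q := Over.OverMorphism.ext (pullback.lift_fst _ _ _)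
    have hl2 : l ≫ π₂ f k i = p := Over.OverMorphism.ext (pullback.lift_snd _ _ _)
    haveI : Etale l.left := by
      haveI : Etale (pullback.snd k.left (f i).left) := by haveI := hk; infer_instance
      haveI : Etale (l.left ≫ pullback.snd k.left (f i).left) := by
        rw [show l.left ≫ pullback.snd k.left (f i).left = p.left from pullback.lift_snd _ _ _]; exact hp
      exact MorphismProperty.of_postcomp @Etale l.left (pullback.snd k.left (f i).left) ‹_› ‹_›
    refine ⟨V, k, a, q.left w, hk, ?_, fun j z' hz' => ?_⟩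
    · rw [← Scheme.Hom.comp_apply, show q.left ≫ k.left = p.left ≫ (f i).left from congrArg CommaMorphism.left hqk,
        Scheme.Hom.comp_apply, hw, ht]
    · refine agree_transfer hP f hs k a (l.left w) z' ?_ ⟨W, l, inferInstance, ⟨w, rfl⟩, ?_⟩
      · rw [hz', ← Scheme.Hom.comp_apply, show l.left ≫ (π₁ f k i).left = q.left from congrArg CommaMorphism.left hl1]
      · rw [hl1, hl2, he]
  choose V k a v hk hv hgood using hloc
  let E : ∀ y, (V y).left.Opens := fun y => ⟨good f s (k y) (a y), isOpen_good hP f hs hopen (k y) (hk y) (a y)⟩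
  let Z : Y.left → Over X := fun y => Over.mk ((E y).ι ≫ (V y).hom)
  let e : ∀ y, Z y ⟶ V y := fun y => Over.homMk (E y).ι rfl
  have hem : ∀ y (w : (Z y).left), (e y).left w ∈ good f s (k y) (a y) := fun y w => w.2
  have het : ∀ y, Etale (e y ≫ k y).left := fun y => by
    haveI := hk y
    exact inferInstanceAs (Etale ((E y).ι ≫ (k y).left))
  have hcov : ∀ y : Y.left, ∃ y', y ∈ Set.range (e y' ≫ k y').left := fun y =>
    ⟨y, ⟨v y, hgood y⟩, by show ((E y).ι ≫ (k y).left) _ = y; rw [Scheme.Hom.comp_apply]; exact hv y⟩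
  obtain ⟨x, hx, -⟩ := (Presieve.isSheafFor_arrows_iff _ _).1 (isSheafFor_et hP Z (fun y => e y ≫ k y) het hcov)
    (fun y => P.map (e y).op (a y)) fun y y' W p q hpq => by
      refine ext_base_change hP f hsurj (p ≫ e y ≫ k y) fun i => ?_
      have h1 := map_good hP f (k y) (a y) (p ≫ e y) (fun w => hem y (p.left w)) i
      have h2 := map_good hP f (k y') (a y') (q ≫ e y') (fun w => hem y' (q.left w)) i
      rw [Category.assoc] at h1 h2
      rw [← hpq] at h2
      rw [mapP (f := p), mapP (f := q)]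
      exact h1.trans h2.symm
  refine ⟨x, fun i => ?_⟩
  refine ext_et hP (fun y => bb f (e y ≫ k y) i) (fun y => π₂ f (e y ≫ k y) i) (fun y => ?_) (fun t => ?_) fun y => ?_
  · haveI := het y
    exact inferInstanceAs (Etale (pullback.snd (e y ≫ k y).left (f i).left))
  · obtain ⟨y, w, hw⟩ := hcov ((f i).left t)
    obtain ⟨z, -, hz⟩ := Scheme.Pullback.exists_preimage_pullback (f := (e y ≫ k y).left) (g := (f i).left) w t hw
    exact ⟨y, z, hz⟩
  · rw [mapP, ← π_comp, ← mapP, hx y]
    exact map_good hP f (k y) (a y) (e y) (hem y) i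

theorem isSheafFor_fam (hsurj : ∀ y : Y.left, ∃ i, y ∈ Set.range (f i).left)
    (hopen : ∀ (V : Over X) (k : V ⟶ Y), Etale k.left → ∀ E : Set V.left,
      (∀ i, IsOpen ((π₁ f k i).left ⁻¹' E)) → IsOpen E)
    (R : Sieve Y) (hR : ∀ i, R (f i)) : Presieve.IsSheafFor P R.arrows := by
  intro y hy
  obtain ⟨x, hx⟩ := exists_glue hP f hsurj hopen (s := fun i => y (f i) (hR i))
    fun i j W p q e => hy p q (hR i) (hR j) e
  refine ⟨x, fun Z g hg => ext_base_change hP f hsurj g fun i => ?_, fun x' hx' => ext_fam hP f hsurj fun i => ?_⟩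
  · rw [mapP, π_comp, ← mapP, hx i]
    exact (hy (π₁ f g i) (π₂ f g i) hg (hR i) (π_comp f g i)).symm
  · rw [hx i]
    exact hx' _ (hR i)

end Groth.Agent.BigSiteLib.EtInd
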