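import Mathlib.CategoryTheory.Functor.Flat
import Mathlib.CategoryTheory.Sites.Pullback
import Mathlib.CategoryTheory.Limits.FilteredColimitCommutesFiniteLimit
import Mathlib.CategoryTheory.Limits.Preserves.Filtered
import Mathlib.Algebra.Category.Grp.Limits
import Mathlib.Algebra.Category.Grp.Colimits
import Mathlib.Algebra.Category.Grp.FilteredColimits
import Mathlib.Algebra.Category.Grp.Abelian

/-!
# Left Kan extensions along flat functors of large categories
-/

set_option autoImplicit false

universe u

open CategoryTheory CategoryTheory.Limits Opposite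

namespace Groth.Agent.BigSiteLib

variable {C : Type (u + 1)} [Category.{u} C] {D : Type (u + 1)} [Category.{u} D]

set_option backward.defeqAttrib.useBackward true in
set_option backward.isDefEq.respectTransparency false in
/-- The evaluation of a left Kan extension is a colimit over the costructured arrows. -/
noncomputable def lanEvalIso (F : C ⥤ D) (X : D) :
    F.lan ⋙ (evaluation D AddCommGrpCat.{u + 1}).obj X ≅
      (Functor.whiskeringLeft _ _ AddCommGrpCat.{u + 1}).obj (CostructuredArrow.proj F X) ⋙ colim :=
  NatIso.ofComponents (fun G =>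
    IsColimit.coconePointUniqueUpToIso
    (Functor.isPointwiseLeftKanExtensionLeftKanExtensionUnit F G X)
    (colimit.isColimit _)) (fun {G₁ G₂} φ => by
      apply (Functor.isPointwiseLeftKanExtensionLeftKanExtensionUnit F G₁ X).hom_ext
      intro T
      have h₁ := fun (G : C ⥤ AddCommGrpCat.{u + 1}) => IsColimit.comp_coconePointUniqueUpToIso_hom
        (Functor.isPointwiseLeftKanExtensionLeftKanExtensionUnit F G X) (colimit.isColimit _) T
      have h₂ := congr_app (F.lanUnit.naturality φ) T.left
      dsimp at h₁ h₂ ⊢
      simp only [Category.assoc] at h₁ ⊢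
      simp only [Functor.lan, Functor.lanUnit] at h₂ ⊢
      rw [reassoc_of% h₁, NatTrans.naturality_assoc, ← reassoc_of% h₂, h₁,
        ι_colimMap, Functor.whiskerLeft_app]
      rfl)

theorem lan_preservesFiniteLimits (F : C ⥤ D) [RepresentablyFlat F] :
    PreservesFiniteLimits (F.op.lan : _ ⥤ Dᵒᵖ ⥤ AddCommGrpCat.{u + 1}) := by
  refine ⟨fun J _ _ => ?_⟩
  apply preservesLimitsOfShape_of_evaluation (F.op.lan : (Cᵒᵖ ⥤ AddCommGrpCat.{u + 1}) ⥤ Dᵒᵖ ⥤ _) J
  intro K
  have : IsFiltered (CostructuredArrow F.op K) :=
    IsFiltered.of_equivalence (structuredArrowOpEquivalence F (unop K))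
  have : PreservesFilteredColimitsOfSize.{u, u + 1} (forget AddCommGrpCat.{u + 1}) :=
    preservesFilteredColimitsOfSize_of_univLE.{u + 1, u + 1, u, u + 1} _
  have : PreservesColimitsOfShape (CostructuredArrow F.op K) (forget AddCommGrpCat.{u + 1}) :=
    PreservesFilteredColimitsOfSize.preserves_filtered_colimits _
  exact preservesLimitsOfShape_of_natIso (lanEvalIso _ _).symm

theorem sheafPullback_preservesFiniteLimits (F : C ⥤ D) [RepresentablyFlat F] (J : GrothendieckTopology C)
    (K : GrothendieckTopology D) [F.IsContinuous J K] [HasSheafify J AddCommGrpCat.{u + 1}]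
    [HasSheafify K AddCommGrpCat.{u + 1}] :
    PreservesFiniteLimits (F.sheafPullback AddCommGrpCat.{u + 1} J K) := by
  haveI := lan_preservesFiniteLimits F
  exact Functor.sheafPullbackConstruction.preservesFiniteLimits F _ J K

end Groth.Agent.BigSiteLib
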