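import Groth.Agent.BigSiteLib.ExactRes
import Groth.Agent.BigSiteLib.LanFlat
import Groth.Agent.SiteBase.LerayTop
import Groth.Prelude.Def_BigSite
import Groth.Prelude.Def_EtCore
import Groth.Prelude.Def_SGA4b
import Mathlib.CategoryTheory.Adjunction.Triple

/-!
# The big and the small etale site
-/

set_option autoImplicit false

universe u

open CategoryTheory CategoryTheory.Limits AlgebraicGeometry Opposite

namespace Groth.Agent.BigSiteLib

variable (S : Scheme.{u})

set_option backward.isDefEq.respectTransparency.types false in
theorem representablyFlat_a : RepresentablyFlat (EtFppf.a S) := by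
  haveI : PreservesFiniteLimits (EtFppf.a S) := inferInstanceAs (PreservesFiniteLimits (Scheme.Etale.forget S))
  exact flat_of_preservesFiniteLimits _

theorem a_full : (EtFppf.a S).Full := inferInstanceAs (Scheme.Etale.forget S).Full

theorem a_faithful : (EtFppf.a S).Faithful := inferInstanceAs (Scheme.Etale.forget S).Faithful

theorem piEtPull_exact (K : Precoverage Scheme.{u}) [BigSite.AEtCont K S] :
    PreservesFiniteLimits (BigSite.piEtPull K S) := by
  haveI := representablyFlat_a S
  exact sheafPullback_preservesFiniteLimits (EtFppf.a S) _ _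

instance resEt_preservesFiniteColimits : PreservesFiniteColimits (BigSite.resEt Scheme.etalePrecoverage S) := by
  haveI : (BigSite.resEt Scheme.etalePrecoverage S).IsLeftAdjoint := (BigSite.iEtAdj Scheme.etalePrecoverage S).isLeftAdjoint
  infer_instance

instance resEt_preservesFiniteLimits (K : Precoverage Scheme.{u}) [BigSite.AEtCont K S] :
    PreservesFiniteLimits (BigSite.resEt K S) := by
  haveI : (BigSite.resEt K S).IsRightAdjoint := (BigSite.piEtAdj K S).isRightAdjoint
  infer_instance

theorem isZero_RresEt (F : BigSite.Ab Scheme.etalePrecoverage S) (q : ℕ) (hq : 0 < q) :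
    IsZero ((BigSite.RresEt Scheme.etalePrecoverage S q).obj F) := by
  obtain ⟨n, rfl⟩ : ∃ n, q = n + 1 := ⟨q - 1, by omega⟩
  exact LerayDegen.isZero_rightDerived_of_exact (BigSite.resEt Scheme.etalePrecoverage S) F n

theorem injective_resEt (K : Precoverage Scheme.{u}) [BigSite.AEtCont K S] (I : BigSite.Ab K S) [Injective I] :
    Injective ((BigSite.resEt K S).obj I) := by
  haveI := piEtPull_exact S K
  haveI : (BigSite.piEtPull K S).PreservesMonomorphisms := inferInstance
  exact Injective.injective_of_adjoint (BigSite.piEtAdj K S) I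

theorem H_resEt_iso (F : BigSite.Ab Scheme.etalePrecoverage S) (p : ℕ) :
    Nonempty (EtCoh.H S ((BigSite.resEt Scheme.etalePrecoverage S).obj F) p ≃+
      BigSite.H Scheme.etalePrecoverage S F p) :=
  H_iso_of_exact (EtFppf.a S) (T := EtCoh.top S) (EtCore.topIsTerminal S) Over.mkIdTerminal
    (Over.isoMk (Iso.refl _) rfl) (fun I _ n => by
      haveI := injective_resEt S Scheme.etalePrecoverage I
      infer_instance) p F


theorem isIso_unit (G : EtCoh.Ab S) : IsIso ((BigSite.piEtAdj Scheme.etalePrecoverage S).unit.app G) := by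
  haveI := a_full S
  haveI := a_faithful S
  let adj := BigSite.iEtAdj Scheme.etalePrecoverage S
  haveI : ∀ F, IsIso (adj.counit.app F) := fun F => by
    haveI : IsIso ((sheafToPresheaf _ _).map (adj.counit.app F)) := by
      show IsIso (adj.counit.app F).hom
      rw [Functor.sheafAdjunctionCocontinuous_counit_app_hom, Functor.ranAdjunction_counit]
      haveI : (EtFppf.a S).op.Full := inferInstance
      haveI : (EtFppf.a S).op.Faithful := inferInstance
      haveI : (EtFppf.a S).op.HasPointwiseRightKanExtension F.obj := inferInstance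
      haveI : ∀ X, IsIso (((EtFppf.a S).op.ranCounit.app F.obj).app X) := fun X =>
        ((EtFppf.a S).op.isPointwiseRightKanExtensionRanCounit F.obj ((EtFppf.a S).op.obj X)).isIso_hom_app
      exact @NatIso.isIso_of_isIso_app _ _ _ _ _ _ _ this
    exact isIso_of_reflects_iso _ (sheafToPresheaf _ _)
  haveI : IsIso adj.counit := NatIso.isIso_of_isIso_app _
  let t : Adjunction.Triple (BigSite.piEtPull Scheme.etalePrecoverage S) (BigSite.resEt Scheme.etalePrecoverage S)
      (BigSite.iEtPush Scheme.etalePrecoverage S) := ⟨BigSite.piEtAdj Scheme.etalePrecoverage S, adj⟩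
  haveI : IsIso (BigSite.piEtAdj Scheme.etalePrecoverage S).unit := (Adjunction.Triple.isIso_unit_iff_isIso_counit t).2 inferInstance
  infer_instance

theorem isIso_unit_types (G : EtDesc.Sh S) :
    IsIso (((EtFppf.a S).sheafAdjunctionContinuous (Type (u + 1)) S.smallEtaleTopology
      (QuotSh.J Scheme.etalePrecoverage S)).unit.app G) := by
  haveI := a_full S
  haveI := a_faithful S
  let adj := (EtFppf.a S).sheafAdjunctionCocontinuous (Type (u + 1)) S.smallEtaleTopology (QuotSh.J Scheme.etalePrecoverage S)
  let adj₁ := (EtFppf.a S).sheafAdjunctionContinuous (Type (u + 1)) S.smallEtaleTopology (QuotSh.J Scheme.etalePrecoverage S)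
  haveI : ∀ F, IsIso (adj.counit.app F) := fun F => by
    haveI : IsIso ((sheafToPresheaf _ _).map (adj.counit.app F)) := by
      show IsIso (adj.counit.app F).hom
      rw [Functor.sheafAdjunctionCocontinuous_counit_app_hom, Functor.ranAdjunction_counit]
      haveI : (EtFppf.a S).op.Full := inferInstance
      haveI : (EtFppf.a S).op.Faithful := inferInstance
      haveI : (EtFppf.a S).op.HasPointwiseRightKanExtension F.obj := inferInstance
      haveI : ∀ X, IsIso (((EtFppf.a S).op.ranCounit.app F.obj).app X) := fun X =>
        ((EtFppf.a S).op.isPointwiseRightKanExtensionRanCounit F.obj ((EtFppf.a S).op.obj X)).isIso_hom_app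
      exact @NatIso.isIso_of_isIso_app _ _ _ _ _ _ _ this
    exact isIso_of_reflects_iso _ (sheafToPresheaf _ _)
  haveI : IsIso adj.counit := NatIso.isIso_of_isIso_app _
  haveI : IsIso adj₁.unit := (Adjunction.Triple.isIso_unit_iff_isIso_counit ⟨adj₁, adj⟩).2 inferInstance
  infer_instance

end Groth.Agent.BigSiteLib
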