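import Groth.Agent.BigSiteLib.ExactRes
import Groth.Agent.Adeq2Lib.AffineVanish
import Groth.Agent.Adeq2Lib.ZarFlasque
import Groth.Agent.Hensel.StrictSchemes
import Groth.Agent.MorLib.SpreadFP
import Groth.Agent.EtFound.Basic
import Groth.Prelude.Def_EtZar
import Groth.Prelude.Def_EtCore

/-!
# Etale and Zariski cohomology for strictly henselian local rings
-/

set_option autoImplicit false

universe u

open CategoryTheory CategoryTheory.Limits AlgebraicGeometry Opposite TopologicalSpace

namespace Groth.Agent.BigSiteLib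

set_option backward.isDefEq.respectTransparency.types false

open Adeq2Lib

variable {S : Scheme.{u}}

theorem exists_open_section (hS : ∀ s : S, EtCoh.IsStrictlyHenselianLocalRing (S.presheaf.stalk s))
    {V : Scheme.{u}} (g : V ⟶ S) [Etale g] (v : V) :
    ∃ (W : S.Opens) (σ : W.toScheme ⟶ V), g v ∈ W ∧ σ ≫ g = W.ι := by
  let A := S.presheaf.stalk (g v)
  obtain ⟨x, hx, hx'⟩ := Scheme.Pullback.exists_preimage_pullback (f := g) (g := S.fromSpecStalk (g v)) v
    (IsLocalRing.closedPoint A) S.fromSpecStalk_closedPoint.symm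
  obtain ⟨w, hw, -⟩ := (Hensel.strictlyHenselian_iff_exists_section A).1
    (by obtain ⟨h1, h2⟩ := hS (g v); exact ⟨h1, h2⟩) _ (pullback.snd g (S.fromSpecStalk (g v))) inferInstance x hx'
  obtain ⟨W, hW, σ, -, hσ⟩ := MorLib.SFP.spread_out (𝟙 S) g (w ≫ pullback.fst g (S.fromSpecStalk (g v))) (by
    rw [Category.assoc, pullback.condition, ← Category.assoc, hw, Category.comp_id]
    exact Category.id_comp _)
  exact ⟨W, σ, hW, hσ.trans (Category.comp_id _)⟩

theorem cocont_zarToEt (hS : ∀ s : S, EtCoh.IsStrictlyHenselianLocalRing (S.presheaf.stalk s)) :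
    (EtZar.zarToEt S).IsCocontinuous (Opens.grothendieckTopology S) S.smallEtaleTopology where
  cover_lift {U R} hR := fun x hx => by
    obtain ⟨V, k, hk, hV⟩ : ∃ (V : S.Etale) (k : V ⟶ (EtZar.zarToEt S).obj U), R k ∧ x ∈ Set.range V.hom := by
      obtain ⟨V, k, v, hk, hv⟩ := (EtFound.mem_topology_iff R).1 hR (⟨x, hx⟩ : U.toScheme)
      refine ⟨V, k, hk, v, ?_⟩
      rw [← MorphismProperty.Over.w k]
      exact (Scheme.Hom.comp_apply _ _ v).trans (congrArg U.ι hv)
    obtain ⟨v, rfl⟩ := hV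
    haveI : Etale V.hom := V.prop
    obtain ⟨W, σ, hW, hσ⟩ := exists_open_section hS V.hom v
    refine ⟨W ⊓ U, homOfLE inf_le_right, ?_, ⟨hW, hx⟩⟩
    show R ((EtZar.zarToEt S).map (homOfLE inf_le_right))
    let l : (EtZar.zarToEt S).obj (W ⊓ U) ⟶ V := MorphismProperty.Over.homMk (S.homOfLE inf_le_left ≫ σ) (by
      show (S.homOfLE inf_le_left ≫ σ) ≫ V.hom = (W ⊓ U).ι
      exact (Category.assoc _ _ _).trans ((congrArg (S.homOfLE inf_le_left ≫ ·) hσ).trans (Scheme.homOfLE_ι _ _)))
    have h : l ≫ k = (EtZar.zarToEt S).map (homOfLE inf_le_right) := MorphismProperty.Over.Hom.ext (by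
      show (l.left ≫ k.left) = S.homOfLE inf_le_right
      haveI : Mono U.ι := inferInstance
      exact (cancel_mono U.ι).1 ((Category.assoc l.left k.left U.ι).trans (((congrArg (l.left ≫ ·) (MorphismProperty.Over.w k)).trans
        (MorphismProperty.Over.w l)).trans (Scheme.homOfLE_ι S inf_le_right).symm)))
    rw [← h]
    exact R.downward_closed hk l

theorem flq_resEtZar [EtZar.ZarCont S] (I : EtCoh.Ab S) [Injective I] :
    ZarFl.Flq ((EtZar.resZar S).obj I) := fun V U h => by
  classical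
  let m := (EtZar.zarToEt S).map (homOfLE h)
  haveI : Mono m := (MorphismProperty.Over.forget EtCoh.etaleMP.{u} ⊤ S ⋙ Over.forget S).mono_of_mono_map
    (inferInstanceAs (Mono (S.homOfLE h)))
  haveI : Injective I.obj := Injective.injective_of_adjoint (sheafificationAdjunction _ _) I
  haveI : Mono (AffVan.toCofree I.obj) := by
    have : ∀ W, Mono ((AffVan.toCofree I.obj).app W) := fun W => (AddCommGrpCat.mono_iff_injective _).2
      fun s s' hs => by
        have h : (I.obj.map (𝟙 W.unop).op).hom s = (I.obj.map (𝟙 W.unop).op).hom s' := congrFun (congrFun hs W.unop) (𝟙 _)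
        rwa [op_id, CategoryTheory.Functor.map_id] at h
    exact NatTrans.mono_of_mono_app _
  let ρ := Injective.factorThru (𝟙 I.obj) (AffVan.toCofree I.obj)
  intro x
  let y : (AffVan.cofree I.obj).obj (op ((EtZar.zarToEt S).obj U)) := fun W k =>
    if hk : ∃ l : W ⟶ (EtZar.zarToEt S).obj V, l ≫ m = k then (I.obj.map hk.choose.op).hom x else 0
  refine ⟨(ρ.app (op ((EtZar.zarToEt S).obj U))).hom y, ?_⟩
  refine (ConcreteCategory.congr_hom (ρ.naturality m.op) y).symm.trans ?_
  have hy : ((AffVan.cofree I.obj).map m.op).hom y = ((AffVan.toCofree I.obj).app (op ((EtZar.zarToEt S).obj V))).hom x :=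
    funext₂ fun W k => by
      have hk : ∃ l : W ⟶ (EtZar.zarToEt S).obj V, l ≫ m = k ≫ m := ⟨k, rfl⟩
      show (if hk : ∃ l : W ⟶ (EtZar.zarToEt S).obj V, l ≫ m = k ≫ m then (I.obj.map hk.choose.op).hom x else 0) =
        (I.obj.map k.op).hom x
      rw [dif_pos hk, (cancel_mono m).1 hk.choose_spec]
  refine (congrArg (ρ.app _).hom hy).trans ?_
  exact ConcreteCategory.congr_hom (congrArg (fun α => NatTrans.app α _) (Injective.comp_factorThru (𝟙 I.obj) (AffVan.toCofree I.obj))) x

theorem H_etale_iso_H_zar (hS : ∀ s : S, EtCoh.IsStrictlyHenselianLocalRing (S.presheaf.stalk s)) [EtZar.ZarCont S]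
    (F : EtCoh.Ab S) (i : ℕ) :
    Nonempty (EtCoh.H S F i ≃+ EtZar.H ((EtZar.resZar S).obj F) i) := by
  haveI := cocont_zarToEt hS
  haveI : (EtZar.resZar S).IsLeftAdjoint :=
    ((EtZar.zarToEt S).sheafAdjunctionCocontinuous AddCommGrpCat.{u + 1} _ _).isLeftAdjoint
  haveI : (EtZar.resZar S).IsRightAdjoint :=
    ((EtZar.zarToEt S).sheafAdjunctionContinuous AddCommGrpCat.{u + 1} (Opens.grothendieckTopology S) S.smallEtaleTopology).isRightAdjoint
  obtain ⟨e⟩ := H_iso_of_exact (EtZar.zarToEt S) (T := (⊤ : S.Opens)) (IsTerminal.ofUnique _) (EtCore.topIsTerminal S)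
    (MorphismProperty.Over.isoMk S.topIso (Category.comp_id _)) (fun I _ n => ZarFl.subsingleton_H_of_flq n _ (flq_resEtZar I)) i F
  exact ⟨e.symm⟩

end Groth.Agent.BigSiteLib
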