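import Groth.Agent.Adeq2Lib.ZarCompare

/-!
# Cohomology and exact restrictions of sites
-/

set_option autoImplicit false

universe w' w v u v₂ u₂

open CategoryTheory Limits Opposite Abelian

namespace Groth.Agent.BigSiteLib

variable {C : Type u} [Category.{v} C] {J : GrothendieckTopology C} [HasSheafify J AddCommGrpCat.{w}]
  [HasExt.{w'} (Sheaf J AddCommGrpCat.{w})]
  {D : Type u₂} [Category.{v₂} D] {K : GrothendieckTopology D} [HasSheafify K AddCommGrpCat.{w}]
  [HasExt.{w'} (Sheaf K AddCommGrpCat.{w})] [EnoughInjectives (Sheaf K AddCommGrpCat.{w})]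
  (G : C ⥤ D) [G.IsContinuous J K]

/-- An exact restriction functor sending injectives to acyclic sheaves preserves cohomology. -/
theorem H_iso_of_exact {T : C} (hT : IsTerminal T) {T' : D} (hT' : IsTerminal T') (e : G.obj T ≅ T')
    [PreservesFiniteColimits (G.sheafPushforwardContinuous AddCommGrpCat.{w} J K)]
    [PreservesFiniteLimits (G.sheafPushforwardContinuous AddCommGrpCat.{w} J K)]
    (hacy : ∀ (I : Sheaf K AddCommGrpCat.{w}) [Injective I] (n : ℕ),
      Subsingleton (Sheaf.H ((G.sheafPushforwardContinuous AddCommGrpCat.{w} J K).obj I) (n + 1)))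
    (n : ℕ) : ∀ F : Sheaf K AddCommGrpCat.{w},
      Nonempty (Sheaf.H ((G.sheafPushforwardContinuous AddCommGrpCat.{w} J K).obj F) n ≃+ Sheaf.H F n) := by
  let R := G.sheafPushforwardContinuous AddCommGrpCat.{w} J K
  haveI : R.Additive := ⟨fun {_ _ _ _} => rfl⟩
  let ε : ∀ F : Sheaf K AddCommGrpCat.{w}, (R.obj F).obj.obj (op T) ≃+ F.obj.obj (op T') := fun F =>
    (F.obj.mapIso e.symm.op).addCommGroupIsoToAddEquiv
  have hnat : ∀ {F F' : Sheaf K AddCommGrpCat.{w}} (f : F ⟶ F') (x : (R.obj F).obj.obj (op T)),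
      (f.hom.app (op T')).hom (ε F x) = ε F' (((R.map f).hom.app (op T)).hom x) := fun {F F'} f x =>
    ConcreteCategory.congr_hom (f.hom.naturality e.symm.op.hom) x
  induction n with
  | zero =>
    exact fun F => ⟨(Sheaf.H.equiv₀ (R.obj F) hT).trans ((ε F).trans (Sheaf.H.equiv₀ F hT').symm)⟩
  | succ m ih =>
    intro F
    let P := Classical.arbitrary (InjectivePresentation F)
    have hE := P.shortExact_shortComplex
    haveI : Injective P.shortComplex.X₂ := P.injective
    have hE' := hE.map_of_exact R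
    haveI : ∀ k, Subsingleton (Sheaf.H (P.shortComplex.map R).X₂ (k + 1)) := hacy P.shortComplex.X₂
    haveI : ∀ k, Subsingleton (Sheaf.H P.shortComplex.X₂ (k + 1)) := fun k =>
      subsingleton_of_forall_eq 0 fun x => Ext.eq_zero_of_injective x
    cases m with
    | zero =>
      obtain ⟨φ, hφ, hk⟩ := Adeq2Lib.ZarCmp.h1_pres hT _ hE'
      obtain ⟨φ', hφ', hk'⟩ := Adeq2Lib.ZarCmp.h1_pres hT' _ hE
      refine Adeq2Lib.ZarCmp.quot_congr φ hφ φ' hφ' (ε P.shortComplex.X₃) fun y => (hk y).trans (Iff.trans ⟨?_, ?_⟩ (hk' _).symm)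
      · rintro ⟨x, rfl⟩
        exact ⟨ε P.shortComplex.X₂ x, hnat _ _⟩
      · rintro ⟨x, hx⟩
        refine ⟨(ε P.shortComplex.X₂).symm x, (ε P.shortComplex.X₃).injective ?_⟩
        refine (hnat _ _).symm.trans ?_
        rw [AddEquiv.apply_symm_apply]
        exact hx
    | succ k =>
      obtain ⟨e₁⟩ := Adeq2Lib.ZarCmp.shift _ hE' k
      obtain ⟨e₂⟩ := Adeq2Lib.ZarCmp.shift _ hE k
      obtain ⟨e₃⟩ := ih P.shortComplex.X₃
      exact ⟨(e₁.symm.trans e₃).trans e₂⟩

end Groth.Agent.BigSiteLib
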