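import Groth.Agent.BigSiteLib.PiUnit
import Groth.Agent.EtFound.FiniteBaseChange

/-!
# Direct images of sheaves pulled back from the small etale sites
-/

set_option autoImplicit false

universe u

open CategoryTheory CategoryTheory.Limits AlgebraicGeometry Opposite

namespace Groth.Agent.BigSiteLib

variable {X Y : Scheme.{u}} (f : X ⟶ Y) (F : EtCoh.Ab X)

/-- The pullback of the sheaf to the big site. -/
noncomputable abbrev piX : BigSite.Ab Scheme.etalePrecoverage X := (BigSite.piEtPull Scheme.etalePrecoverage X).obj F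

/-- Small direct image into the restriction of the big one. -/
noncomputable def pushToRes : (EtCoh.push f).obj F ⟶
    (BigSite.resEt Scheme.etalePrecoverage Y).obj ((BigSite.pushBig Scheme.etalePrecoverage f AddCommGrpCat.{u + 1}).obj (piX F)) :=
  (EtCoh.push f).map ((BigSite.piEtAdj Scheme.etalePrecoverage X).unit.app F) ≫ (pushResIso f).inv.app (piX F)

/-- The comparison of the small and big direct images. -/
noncomputable def theta : (BigSite.piEtPull Scheme.etalePrecoverage Y).obj ((EtCoh.push f).obj F) ⟶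
    (BigSite.pushBig Scheme.etalePrecoverage f AddCommGrpCat.{u + 1}).obj (piX F) :=
  ((BigSite.piEtAdj Scheme.etalePrecoverage Y).homEquiv _ _).symm (pushToRes f F)

theorem unit_theta : (BigSite.piEtAdj Scheme.etalePrecoverage Y).unit.app ((EtCoh.push f).obj F) ≫
    (BigSite.resEt Scheme.etalePrecoverage Y).map (theta f F) = pushToRes f F := by
  exact ((Adjunction.homEquiv_unit (BigSite.piEtAdj Scheme.etalePrecoverage Y)) _ _ (theta f F)).symm.trans
    (((BigSite.piEtAdj Scheme.etalePrecoverage Y).homEquiv _ _).apply_symm_apply (pushToRes f F))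

variable {Y' X' : Scheme.{u}} {g : Y' ⟶ Y} {g' : X' ⟶ X} {f' : X' ⟶ Y'}

/-- The comparison along a square, on small sites. -/
noncomputable def smallComp (hsq : IsPullback g' f' f g) :
    (EtCoh.pull g).obj ((EtCoh.push f).obj F) ⟶ (EtCoh.push f').obj ((EtCoh.pull g').obj F) :=
  (resAlongPiPullIso g ((EtCoh.push f).obj F)).hom ≫
    (BigSite.resEtAlong Scheme.etalePrecoverage g).map (theta f F) ≫
    (resAlongPushIso f hsq).hom.app (piX F) ≫ (EtCoh.push f').map (resAlongPiPullIso g' F).inv

set_option backward.isDefEq.respectTransparency.types false in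
theorem smallComp_unit (hsq : IsPullback g' f' f g) (V : Y.Etale) :
    ((EtCoh.pullPushAdj g).unit.app ((EtCoh.push f).obj F)).hom.app (op V) ≫
        (smallComp f F hsq).hom.app (op ((EtCoh.bc g).obj V)) =
      ((EtCoh.pullPushAdj g').unit.app F).hom.app (op ((EtCoh.bc f).obj V)) ≫
        ((EtCoh.pull g').obj F).obj.map (EtFound.bcSquare hsq.w V).op := by
  let W := (EtCoh.bc g).obj V
  let G := (BigSite.pushBig Scheme.etalePrecoverage f AddCommGrpCat.{u + 1}).obj (piX F)
  let η := (BigSite.piEtAdj Scheme.etalePrecoverage X).unit.app F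
  haveI : IsIso ((resAlongPiPullIso g' F).hom.hom.app (op ((EtCoh.bc f').obj W))) :=
    ((((sheafToPresheaf _ _).mapIso (resAlongPiPullIso g' F)).app (op ((EtCoh.bc f').obj W))).isIso_hom)
  refine (cancel_mono ((resAlongPiPullIso g' F).hom.hom.app (op ((EtCoh.bc f').obj W)))).1 ?_
  have e1 := unit_resAlongPiPullIso_app g ((EtCoh.push f).obj F) V
  have e2 : ((BigSite.piEtAdj Scheme.etalePrecoverage Y).unit.app ((EtCoh.push f).obj F)).hom.app (op V) ≫
      (theta f F).hom.app (op ((EtFppf.a Y).obj V)) = (pushToRes f F).hom.app (op V) :=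
    congr($(unit_theta f F).hom.app (op V))
  have e3 := (theta f F).hom.naturality (bcProj g V).op
  have e4 := (resAlongPiPullIso g' F).hom.hom.naturality (EtFound.bcSquare hsq.w V).op
  have e5 := unit_resAlongPiPullIso_app g' F ((EtCoh.bc f).obj V)
  have eL : ((EtCoh.pullPushAdj g).unit.app ((EtCoh.push f).obj F)).hom.app (op V) ≫
      (resAlongPiPullIso g ((EtCoh.push f).obj F)).hom.hom.app (op W) ≫ (theta f F).hom.app _ =
      (pushToRes f F).hom.app (op V) ≫ G.obj.map (bcProj g V).op := by
    refine (Category.assoc _ _ _).symm.trans ((congrArg (· ≫ _) e1).trans ?_)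
    refine (Category.assoc _ _ _).trans ((congrArg (_ ≫ ·) e3).trans ?_)
    exact (Category.assoc _ _ _).symm.trans (congrArg (· ≫ _) e2)
  have eI : (resAlongPiPullIso g' F).inv.hom.app (op ((EtCoh.bc f').obj W)) ≫
      (resAlongPiPullIso g' F).hom.hom.app (op ((EtCoh.bc f').obj W)) = 𝟙 _ :=
    congr($((resAlongPiPullIso g' F).inv_hom_id).hom.app (op ((EtCoh.bc f').obj W)))
  have eR : (((EtCoh.pullPushAdj g').unit.app F).hom.app (op ((EtCoh.bc f).obj V)) ≫
        ((EtCoh.pull g').obj F).obj.map (EtFound.bcSquare hsq.w V).op) ≫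
      (resAlongPiPullIso g' F).hom.hom.app (op ((EtCoh.bc f').obj W)) =
      η.hom.app (op ((EtCoh.bc f).obj V)) ≫ (piX F).obj.map ((Over.map g').map ((EtFppf.a X').map (EtFound.bcSquare hsq.w V)) ≫
        bcProj g' ((EtCoh.bc f).obj V)).op := by
    refine (Category.assoc _ _ _).trans ((congrArg (_ ≫ ·) e4).trans ?_)
    refine (Category.assoc _ _ _).symm.trans ((congrArg (· ≫ _) e5).trans ?_)
    refine (Category.assoc _ _ _).trans (congrArg (_ ≫ ·) ?_)
    exact ((piX F).obj.map_comp _ _).symm.trans (congrArg (piX F).obj.map (op_comp).symm)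
  refine Eq.trans ?_ eR.symm
  show (((EtCoh.pullPushAdj g).unit.app ((EtCoh.push f).obj F)).hom.app (op V) ≫
      (resAlongPiPullIso g ((EtCoh.push f).obj F)).hom.hom.app (op W) ≫ (theta f F).hom.app _ ≫
      ((resAlongPushIso f hsq).hom.app (piX F)).hom.app (op W) ≫
      (resAlongPiPullIso g' F).inv.hom.app (op ((EtCoh.bc f').obj W))) ≫ _ = _
  simp only [Category.assoc]
  refine (congrArg (fun t => _ ≫ _ ≫ _ ≫ t) ((congrArg (_ ≫ ·) eI).trans (Category.comp_id _))).trans ?_
  refine (congrArg (_ ≫ ·) (Category.assoc _ _ _).symm).trans ?_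
  refine (Category.assoc _ _ _).symm.trans ((congrArg (· ≫ _) eL).trans ?_)
  refine (Category.assoc _ _ _).trans ?_
  refine (Category.assoc _ _ _).trans (congrArg (η.hom.app (op ((EtCoh.bc f).obj V)) ≫ ·) ?_)
  simp only [pushResIso, resAlongPushIso, Iso.trans_inv, Iso.trans_hom, NatTrans.comp_app]
  dsimp [Functor.sheafPushforwardContinuousComp, Functor.sheafPushforwardContinuousIso]
  refine (congrArg₂ (· ≫ ·) ((Category.id_comp _).trans (Category.comp_id _))
    (congrArg (_ ≫ ·) ((Category.id_comp _).trans (Category.comp_id _)))).trans ?_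
  refine ((congrArg (_ ≫ ·) ((piX F).obj.map_comp _ _).symm).trans ((piX F).obj.map_comp _ _).symm).trans ?_
  refine congrArg (piX F).obj.map (Quiver.Hom.unop_inj (Over.OverMorphism.ext ?_))
  refine pullback.hom_ext ?_ ?_
  · simp [bcProj, bcSmallIso, bcIso]
    refine Eq.trans ?_ ((Category.assoc _ _ _).trans (EtFound.bcSquare_fst hsq.w V)).symm
    refine (Category.assoc _ _ _).trans ?_
    erw [Category.id_comp, Category.assoc, Category.assoc, Category.id_comp, pullback.lift_fst,
      IsPullback.isoPullback_hom_fst_assoc]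
    rfl
  · simp [bcProj, bcSmallIso, bcIso]
    refine Eq.trans ?_ ((Category.assoc _ _ _).trans ((congrArg (_ ≫ ·) pullback.condition).trans
      ((Category.assoc _ _ _).symm.trans (congrArg (· ≫ g') (MorphismProperty.Over.w (EtFound.bcSquare hsq.w V)))))).symm
    refine (Category.assoc _ _ _).trans ?_
    erw [Category.id_comp, Category.assoc, Category.assoc, Category.id_comp, pullback.lift_snd,
      IsPullback.isoPullback_hom_snd]
    rfl

end Groth.Agent.BigSiteLib
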