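import Groth.Agent.BigSiteLib.FinitePush
import Groth.Agent.SiteBase.LerayTop
import Groth.Agent.EtFound.FiniteBaseChange
import Groth.Agent.S0621
import Groth.Agent.S0071
import Mathlib.CategoryTheory.Abelian.RightDerived

/-!
# Higher direct images along finite morphisms commute with pullback to the big site
-/

set_option autoImplicit false

universe u

open CategoryTheory CategoryTheory.Limits AlgebraicGeometry Opposite

namespace Groth.Agent.BigSiteLib

/-- A morphism of big sheaves is invertible when all its restrictions to small sites are. -/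
theorem isIso_of_resEtAlong {S : Scheme.{u}} {G G' : BigSite.Ab Scheme.etalePrecoverage S} (φ : G ⟶ G')
    (h : ∀ {T : Scheme.{u}} (g : T ⟶ S), IsIso ((BigSite.resEtAlong Scheme.etalePrecoverage g).map φ)) : IsIso φ := by
  haveI : ∀ W, IsIso (φ.hom.app W) := fun W => by
    haveI := h W.unop.hom
    haveI h0 : IsIso (((BigSite.resEtAlong Scheme.etalePrecoverage W.unop.hom).map φ).hom.app (op (EtCoh.top W.unop.left))) :=
      inferInstanceAs (IsIso (((sheafToPresheaf _ _).map ((BigSite.resEtAlong Scheme.etalePrecoverage W.unop.hom).map φ)).app _))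
    let W0 : Over S := (Over.map W.unop.hom).obj ((EtFppf.a W.unop.left).obj (EtCoh.top W.unop.left))
    haveI h1 : IsIso (φ.hom.app (op W0)) := h0
    let e : W0 ≅ W.unop := Over.isoMk (Iso.refl _) ((Category.id_comp _).trans (Category.id_comp _).symm)
    have he : φ.hom.app W = G.obj.map e.hom.op ≫ φ.hom.app (op W0) ≫ G'.obj.map e.inv.op := by
      rw [← Category.assoc, φ.hom.naturality, Category.assoc, ← Functor.map_comp, ← op_comp, e.inv_hom_id, op_id,
        CategoryTheory.Functor.map_id, Category.comp_id]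
    rw [he]
    infer_instance
  haveI : IsIso ((sheafToPresheaf _ _).map φ) := NatIso.isIso_of_isIso_app φ.hom
  exact isIso_of_reflects_iso φ (sheafToPresheaf _ _)

theorem isZero_of_resEtAlong {S : Scheme.{u}} (G : BigSite.Ab Scheme.etalePrecoverage S)
    (h : ∀ {T : Scheme.{u}} (g : T ⟶ S), IsZero ((BigSite.resEtAlong Scheme.etalePrecoverage g).obj G)) : IsZero G := by
  haveI : IsIso (0 : G ⟶ G) := isIso_of_resEtAlong _ fun {T} g => ⟨0, (h g).eq_of_src _ _, (h g).eq_of_src _ _⟩
  exact (IsZero.iff_id_eq_zero G).2 ((IsIso.hom_inv_id (0 : G ⟶ G)).symm.trans zero_comp)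

variable {X Y : Scheme.{u}} (f : X ⟶ Y) [IsFinite f] (F : EtCoh.Ab X)

theorem isIso_theta : IsIso (theta f F) := by
  refine isIso_of_resEtAlong _ fun {Y'} g => ?_
  have hsq := IsPullback.of_hasPullback f g
  haveI : IsFinite (pullback.snd f g) := MorphismProperty.of_isPullback hsq ‹IsFinite f›
  haveI hβ : IsIso (smallComp f F hsq) := EtFound.isIso_baseChange_of_pushStalk f g (pullback.snd f g) (pullback.fst f g) hsq F _
    (smallComp_unit f F hsq) (fun Ω _ _ η => EtFound.pushStalkAt_bijective f F) (fun Ω _ _ η => EtFound.pushStalkAt_bijective _ _)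
  have e : (BigSite.resEtAlong Scheme.etalePrecoverage g).map (theta f F) =
      (resAlongPiPullIso g ((EtCoh.push f).obj F)).inv ≫ smallComp f F hsq ≫
        (EtCoh.push (pullback.snd f g)).map (resAlongPiPullIso (pullback.fst f g) F).hom ≫
        (resAlongPushIso f hsq).inv.app (piX F) := by
    simp only [smallComp, Category.assoc, Iso.inv_hom_id_assoc]
    rw [← Functor.map_comp_assoc, Iso.inv_hom_id, CategoryTheory.Functor.map_id, Category.id_comp, Iso.hom_inv_id_app]
    exact (Category.comp_id _).symm
  rw [e]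
  infer_instance

theorem piPull_Rpush_iso (q : ℕ) :
    Nonempty ((BigSite.piEtPull Scheme.etalePrecoverage Y).obj ((EtCoh.Rpush f q).obj F) ≅
      (BigSite.RpushBig Scheme.etalePrecoverage f q).obj ((BigSite.piEtPull Scheme.etalePrecoverage X).obj F)) := by
  haveI : (EtCoh.push f).IsRightAdjoint := (EtCoh.pullPushAdj f).isRightAdjoint
  haveI : (BigSite.pushBig Scheme.etalePrecoverage f AddCommGrpCat.{u + 1}).IsRightAdjoint :=
    (BigSite.bigAdj Scheme.etalePrecoverage f AddCommGrpCat.{u + 1}).isRightAdjoint
  rcases Nat.eq_zero_or_pos q with rfl | hq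
  · haveI := isIso_theta f F
    exact ⟨(BigSite.piEtPull Scheme.etalePrecoverage Y).mapIso ((EtCoh.push f).rightDerivedZeroIsoSelf.app F) ≪≫ asIso (theta f F) ≪≫
      ((BigSite.pushBig Scheme.etalePrecoverage f AddCommGrpCat.{u + 1}).rightDerivedZeroIsoSelf.app _).symm⟩
  · haveI : (BigSite.piEtPull Scheme.etalePrecoverage Y).Additive := (BigSite.piEtAdj Scheme.etalePrecoverage Y).left_adjoint_additive
    refine ⟨((BigSite.piEtPull Scheme.etalePrecoverage Y).map_isZero (Groth.Agent.S0071.result f F q hq)).iso
      (isZero_of_resEtAlong _ fun {Y'} g => ?_)⟩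
    have hsq := IsPullback.of_hasPullback f g
    haveI : IsFinite (pullback.snd f g) := MorphismProperty.of_isPullback hsq ‹IsFinite f›
    exact (Groth.Agent.S0071.result (pullback.snd f g) _ q hq).of_iso ((resAlongRpushIso f hsq q).app _)

end Groth.Agent.BigSiteLib
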