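import Groth.Agent.BigSiteLib.GlueTwo
import Groth.Agent.EtFound.PullStalk

/-!
# Pushforward of sheaves without cohomology on all etale schemes
-/

set_option autoImplicit false

universe u

open CategoryTheory CategoryTheory.Limits AlgebraicGeometry Opposite TopologicalSpace

namespace Groth.Agent.BigSiteLib

set_option backward.isDefEq.respectTransparency.types false

open EtLC12.AffineLocalAcyclic

variable {X : Scheme.{u}}

/-- no higher cohomology on every etale scheme -/
def Flabby (F : EtCoh.Ab X) : Prop :=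
  ∀ (W : X.Etale) (q : ℕ), 0 < q → Subsingleton (EtCoh.H W.left ((EtCoh.pull W.hom).obj F) q)

theorem flabby_injective (I : EtCoh.Ab X) [Injective I] : Flabby I := fun W q hq => by
  haveI : AlgebraicGeometry.Etale W.hom := W.prop
  haveI := EtFound.jCont W.hom
  haveI := injective_pull W.hom I
  obtain ⟨n, rfl⟩ : ∃ n, q = n + 1 := ⟨q - 1, by omega⟩
  exact Abelian.Ext.subsingleton_of_injective _ _ n

theorem flabby_X₃ {E : ShortComplex (EtCoh.Ab X)} (hE : E.ShortExact) [Injective E.X₂] (h₁ : Flabby E.X₁) :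
    Flabby E.X₃ := fun W q hq => by
  haveI : AlgebraicGeometry.Etale W.hom := W.prop
  haveI := EtFound.jCont W.hom
  have hE' : (E.map (EtCoh.pull W.hom)).ShortExact := shortExact_pull (W.hom : W.left ⟶ X) hE
  obtain ⟨n, rfl⟩ : ∃ n, q = n + 1 := ⟨q - 1, by omega⟩
  haveI : Subsingleton (Sheaf.H (E.map (EtCoh.pull W.hom)).X₂ (n + 1)) := flabby_injective E.X₂ W _ (by omega)
  haveI : Subsingleton (Sheaf.H (E.map (EtCoh.pull W.hom)).X₂ (n + 1 + 1)) := flabby_injective E.X₂ W _ (by omega)
  haveI : Subsingleton (Sheaf.H (E.map (EtCoh.pull W.hom)).X₁ (n + 1 + 1)) := h₁ W _ (by omega)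
  obtain ⟨e⟩ := Adeq2Lib.ZarCmp.shift _ hE' n
  exact e.toEquiv.subsingleton

theorem subsingleton_H1_of_surjective {E : ShortComplex (EtCoh.Ab X)} (hE : E.ShortExact) (T : X.Etale)
    (h₂ : Subsingleton (EtCoh.H T.left ((EtCoh.pull T.hom).obj E.X₂) 1))
    (hs : Function.Surjective (E.g.hom.app (op T)).hom) :
    Subsingleton (EtCoh.H T.left ((EtCoh.pull T.hom).obj E.X₁) 1) := by
  haveI : AlgebraicGeometry.Etale T.hom := T.prop
  haveI := EtFound.jCont T.hom
  have hE' : (E.map (EtCoh.pull T.hom)).ShortExact := shortExact_pull (T.hom : T.left ⟶ X) hE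
  haveI : Subsingleton (Sheaf.H (E.map (EtCoh.pull T.hom)).X₂ 1) := h₂
  obtain ⟨φ, hφ, hk⟩ := Adeq2Lib.ZarCmp.h1_pres (EtFound.topIsTerminal T.left) _ hE'
  let c : (EtShriek.compEtale T.hom).obj (EtCoh.top T.left) ≅ T :=
    MorphismProperty.Over.isoMk (Iso.refl _) (by
      show 𝟙 T.left ≫ T.hom = 𝟙 T.left ≫ T.hom
      rfl)
  let e := restrIsoPull T.hom
  refine subsingleton_of_forall_eq 0 fun z => ?_
  obtain ⟨y, rfl⟩ := hφ z
  refine (hk y).2 ?_
  obtain ⟨x, hx⟩ := hs ((E.X₃.obj.map c.inv.op).hom (((e.inv.app E.X₃).hom.app (op (EtCoh.top T.left))).hom y))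
  refine ⟨((e.hom.app E.X₂).hom.app (op (EtCoh.top T.left))).hom ((E.X₂.obj.map c.hom.op).hom x), ?_⟩
  refine (congrArg (fun t : (EtShriek.restrAlong T.hom).obj E.X₂ ⟶ (EtCoh.pull T.hom).obj E.X₃ =>
    (t.hom.app (op (EtCoh.top T.left))).hom ((E.X₂.obj.map c.hom.op).hom x)) (e.hom.naturality E.g).symm).trans ?_
  have h1 : (E.g.hom.app (op ((EtShriek.compEtale T.hom).obj (EtCoh.top T.left)))).hom
      ((E.X₂.obj.map c.hom.op).hom x) = ((e.inv.app E.X₃).hom.app (op (EtCoh.top T.left))).hom y := by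
    refine (NatTrans.naturality_apply E.g.hom c.hom.op _).trans ((congrArg (E.X₃.obj.map c.hom.op).hom hx).trans ?_)
    rw [← ConcreteCategory.comp_apply, ← Functor.map_comp, ← op_comp, c.hom_inv_id]
    exact ConcreteCategory.congr_hom (E.X₃.obj.map_id _) _
  refine (congrArg (fun z => ((e.hom.app E.X₃).hom.app (op (EtCoh.top T.left))).hom z) h1).trans ?_
  exact congrArg (fun t : (EtCoh.pull T.hom).obj E.X₃ ⟶ _ => (t.hom.app (op (EtCoh.top T.left))).hom y)
    (e.inv_hom_id_app E.X₃)

theorem shortExact_push {Y : Scheme.{u}} (f : X ⟶ Y) {E : ShortComplex (EtCoh.Ab X)} (hE : E.ShortExact)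
    [Injective E.X₂] (h₁ : Flabby E.X₁) : (E.map (EtCoh.push f)).ShortExact := by
  haveI := (EtCoh.pullPushAdj f).rightAdjoint_preservesLimits
  haveI := hE.mono_f
  haveI hm : Mono ((EtCoh.push f).map E.f) := inferInstance
  have hepi : Epi ((EtCoh.push f).map E.g) := by
    haveI : ∀ W, Epi (((EtCoh.push f).map E.g).hom.app W) := fun W =>
      (AddCommGrpCat.epi_iff_surjective _).2
        (sections_surjective_of_H hE inferInstance ((EtCoh.bc f).obj W.unop) (h₁ _ 1 one_pos))
    haveI : Epi ((EtCoh.push f).map E.g).hom := NatTrans.epi_of_epi_app _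
    exact (sheafToPresheaf _ _).epi_of_epi_map (inferInstanceAs (Epi ((EtCoh.push f).map E.g).hom))
  exact { exact := hE.exact.map_of_mono_of_preservesKernel _ hE.mono_f inferInstance
          mono_f := hm
          epi_g := hepi }

theorem flabby_push_aux {Y : Scheme.{u}} (f : X ⟶ Y) : ∀ (n : ℕ) (F : EtCoh.Ab X), Flabby F → ∀ W : Y.Etale,
    Subsingleton (EtCoh.H W.left ((EtCoh.pull W.hom).obj ((EtCoh.push f).obj F)) (n + 1)) := by
  intro n
  induction n with
  | zero =>
    intro F hF W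
    let Q := Classical.arbitrary (InjectivePresentation F)
    have hE := Q.shortExact_shortComplex
    haveI : Injective Q.shortComplex.X₂ := Q.injective
    haveI := EtFound.pull_preservesFiniteLimits f
    haveI : Injective ((EtCoh.push f).obj Q.shortComplex.X₂) :=
      Injective.injective_of_adjoint (EtCoh.pullPushAdj f) _
    exact subsingleton_H1_of_surjective (shortExact_push f hE hF) W
      (flabby_injective ((EtCoh.push f).obj Q.shortComplex.X₂) W 1 one_pos)
      (sections_surjective_of_H hE inferInstance ((EtCoh.bc f).obj W) (hF _ 1 one_pos))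
  | succ n ih =>
    intro F hF W
    let Q := Classical.arbitrary (InjectivePresentation F)
    have hE := Q.shortExact_shortComplex
    haveI : Injective Q.shortComplex.X₂ := Q.injective
    haveI := EtFound.pull_preservesFiniteLimits f
    haveI : Injective ((EtCoh.push f).obj Q.shortComplex.X₂) :=
      Injective.injective_of_adjoint (EtCoh.pullPushAdj f) _
    haveI : AlgebraicGeometry.Etale W.hom := W.prop
    haveI := EtFound.jCont W.hom
    have hE' : ((Q.shortComplex.map (EtCoh.push f)).map (EtCoh.pull W.hom)).ShortExact :=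
      shortExact_pull (W.hom : W.left ⟶ Y) (shortExact_push f hE hF)
    haveI : Subsingleton (Sheaf.H ((Q.shortComplex.map (EtCoh.push f)).map (EtCoh.pull W.hom)).X₂ (n + 1)) :=
      flabby_injective ((EtCoh.push f).obj Q.shortComplex.X₂) W _ (by omega)
    haveI : Subsingleton (Sheaf.H ((Q.shortComplex.map (EtCoh.push f)).map (EtCoh.pull W.hom)).X₂ (n + 1 + 1)) :=
      flabby_injective ((EtCoh.push f).obj Q.shortComplex.X₂) W _ (by omega)
    haveI : Subsingleton (Sheaf.H ((Q.shortComplex.map (EtCoh.push f)).map (EtCoh.pull W.hom)).X₃ (n + 1)) :=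
      ih _ (flabby_X₃ hE hF) W
    obtain ⟨e⟩ := Adeq2Lib.ZarCmp.shift _ hE' n
    exact e.symm.toEquiv.subsingleton

theorem flabby_push {Y : Scheme.{u}} (f : X ⟶ Y) {F : EtCoh.Ab X} (hF : Flabby F) : Flabby ((EtCoh.push f).obj F) :=
  fun W q hq => by
    obtain ⟨n, rfl⟩ : ∃ n, q = n + 1 := ⟨q - 1, by omega⟩
    exact flabby_push_aux f n F hF W

end Groth.Agent.BigSiteLib
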