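import Groth.Agent.EtLC12.AffineLocalAcyclic
import Groth.Agent.EtFound.Basic

/-!
# Gluing two copies of an etale scheme along an open part
-/

set_option autoImplicit false

universe u

open CategoryTheory CategoryTheory.Limits AlgebraicGeometry Opposite TopologicalSpace

namespace Groth.Agent.BigSiteLib

set_option backward.isDefEq.respectTransparency.types false

variable {X : Scheme.{u}}

open EtLC12.AffineLocalAcyclic in
theorem sections_surjective_of_H {E : ShortComplex (EtCoh.Ab X)} (hE : E.ShortExact) (hI : Injective E.X₂)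
    (T : X.Etale) (h1 : Subsingleton (EtCoh.H T.left ((EtCoh.pull T.hom).obj E.X₁) 1)) :
    Function.Surjective (E.g.hom.app (op T)).hom := by
  haveI := hI
  haveI : AlgebraicGeometry.Etale T.hom := T.prop
  haveI := EtFound.jCont T.hom
  have hE' : (E.map (EtCoh.pull T.hom)).ShortExact := shortExact_pull (T.hom : T.left ⟶ X) hE
  haveI : Injective (E.map (EtCoh.pull T.hom)).X₂ := injective_pull T.hom E.X₂
  haveI : Subsingleton (Sheaf.H (E.map (EtCoh.pull T.hom)).X₂ 1) :=
    subsingleton_of_forall_eq 0 fun x => Abelian.Ext.eq_zero_of_injective x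
  haveI : Subsingleton (Sheaf.H (E.map (EtCoh.pull T.hom)).X₁ 1) := h1
  obtain ⟨φ, -, hk⟩ := Adeq2Lib.ZarCmp.h1_pres (EtFound.topIsTerminal T.left) _ hE'
  let c : (EtShriek.compEtale T.hom).obj (EtCoh.top T.left) ≅ T :=
    MorphismProperty.Over.isoMk (Iso.refl _) (by
      show 𝟙 T.left ≫ T.hom = 𝟙 T.left ≫ T.hom
      rfl)
  intro y
  let e := restrIsoPull T.hom
  obtain ⟨x, hx⟩ := (hk (((e.hom.app E.X₃).hom.app (op (EtCoh.top T.left))).hom
    ((E.X₃.obj.map c.hom.op).hom y))).1 (Subsingleton.elim _ _)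
  refine ⟨(E.X₂.obj.map c.inv.op).hom (((e.inv.app E.X₂).hom.app (op (EtCoh.top T.left))).hom x), ?_⟩
  refine (NatTrans.naturality_apply E.g.hom c.inv.op _).trans ?_
  have h1' : (E.g.hom.app (op ((EtShriek.compEtale T.hom).obj (EtCoh.top T.left)))).hom
      (((e.inv.app E.X₂).hom.app (op (EtCoh.top T.left))).hom x) = (E.X₃.obj.map c.hom.op).hom y := by
    refine (congrArg (fun t : (EtCoh.pull T.hom).obj E.X₂ ⟶ (EtShriek.restrAlong T.hom).obj E.X₃ =>
      (t.hom.app (op (EtCoh.top T.left))).hom x) (e.inv.naturality E.g).symm).trans ?_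
    refine (congrArg (fun z => ((e.inv.app E.X₃).hom.app (op (EtCoh.top T.left))).hom z) hx).trans ?_
    exact congrArg (fun t : (EtShriek.restrAlong T.hom).obj E.X₃ ⟶ _ =>
      (t.hom.app (op (EtCoh.top T.left))).hom ((E.X₃.obj.map c.hom.op).hom y)) (e.hom_inv_id_app E.X₃)
  refine (congrArg (E.X₃.obj.map c.inv.op).hom h1').trans ?_
  rw [← ConcreteCategory.comp_apply, ← Functor.map_comp, ← op_comp, c.inv_hom_id]
  exact ConcreteCategory.congr_hom (E.X₃.obj.map_id _) y

theorem presheaf_injective_map_surjective {C : Type (u + 1)} [Category.{u} C] (P : Cᵒᵖ ⥤ AddCommGrpCat.{u + 1})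
    [Injective P] {V U : C} (m : V ⟶ U) [Mono m] : Function.Surjective (P.map m.op).hom := by
  classical
  haveI : Mono (Adeq2Lib.AffVan.toCofree P) := by
    have : ∀ W, Mono ((Adeq2Lib.AffVan.toCofree P).app W) := fun W => (AddCommGrpCat.mono_iff_injective _).2
      fun s s' hs => by
        have h : (P.map (𝟙 W.unop).op).hom s = (P.map (𝟙 W.unop).op).hom s' := congrFun (congrFun hs W.unop) (𝟙 _)
        rwa [op_id, CategoryTheory.Functor.map_id] at h
    exact NatTrans.mono_of_mono_app _
  let ρ := Injective.factorThru (𝟙 P) (Adeq2Lib.AffVan.toCofree P)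
  intro x
  let y : (Adeq2Lib.AffVan.cofree P).obj (op U) := fun W k =>
    if hk : ∃ l : W ⟶ V, l ≫ m = k then (P.map hk.choose.op).hom x else 0
  refine ⟨(ρ.app (op U)).hom y, ?_⟩
  refine (ConcreteCategory.congr_hom (ρ.naturality m.op) y).symm.trans ?_
  have hy : ((Adeq2Lib.AffVan.cofree P).map m.op).hom y = ((Adeq2Lib.AffVan.toCofree P).app (op V)).hom x :=
    funext₂ fun W k => by
      have hk : ∃ l : W ⟶ V, l ≫ m = k ≫ m := ⟨k, rfl⟩
      show (if hk : ∃ l : W ⟶ V, l ≫ m = k ≫ m then (P.map hk.choose.op).hom x else 0) = (P.map k.op).hom x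
      rw [dif_pos hk, (cancel_mono m).1 hk.choose_spec]
  refine (congrArg (ρ.app _).hom hy).trans ?_
  exact ConcreteCategory.congr_hom (congrArg (fun α => NatTrans.app α _) (Injective.comp_factorThru (𝟙 P) (Adeq2Lib.AffVan.toCofree P))) x

theorem sections_exact {E : ShortComplex (EtCoh.Ab X)} (hE : E.ShortExact) (T : X.Etale) :
    Function.Injective (E.f.hom.app (op T)).hom ∧
      ∀ y, (E.g.hom.app (op T)).hom y = 0 → ∃ x, (E.f.hom.app (op T)).hom x = y := by
  let G : EtCoh.Ab X ⥤ AddCommGrpCat.{u + 1} := sheafToPresheaf _ _ ⋙ (evaluation _ _).obj (op T)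
  haveI : PreservesFiniteLimits G := inferInstanceAs (PreservesFiniteLimits (_ ⋙ _))
  haveI := hE.mono_f
  haveI : Mono (G.map E.f) := inferInstance
  refine ⟨(AddCommGrpCat.mono_iff_injective (G.map E.f)).1 inferInstance, fun y hy => ?_⟩
  exact (ShortComplex.ab_exact_iff _).1 (hE.exact.map_of_mono_of_preservesKernel G hE.mono_f inferInstance) y hy

/-- two copies of `U` glued along `V` -/
theorem exists_double {U V : X.Etale} (g : V ⟶ U) [IsOpenImmersion g.left] :
    ∃ (W : X.Etale) (a b : U ⟶ W), Mono a ∧ Mono b ∧ g ≫ a = g ≫ b ∧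
      (∀ w : W.left, w ∈ Set.range a.left ∨ w ∈ Set.range b.left) ∧
      ∀ ⦃T : X.Etale⦄ (p q : T ⟶ U), p ≫ a = q ≫ b → p = q ∧ ∃ r, r ≫ g = p := by
  haveI : Mono g.left := inferInstance
  let W₀ := pushout g.left g.left
  let d : W₀ ⟶ X := pushout.desc U.hom U.hom rfl
  have hd : Etale d := by
    rw [IsZariskiLocalAtSource.iff_of_openCover (P := @Etale) (Scheme.IsLocallyDirected.openCover (span g.left g.left))]
    intro i
    show Etale (colimit.ι (span g.left g.left) i ≫ d)
    rcases i with - | (- | -)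
    · have e : colimit.ι (span g.left g.left) WalkingSpan.zero ≫ d = V.hom := by
        rw [← colimit.w (span g.left g.left) WalkingSpan.Hom.fst, Category.assoc]
        exact (congrArg (g.left ≫ ·) (pushout.inl_desc _ _ _)).trans (MorphismProperty.Over.w g)
      exact e ▸ V.prop
    · exact (pushout.inl_desc U.hom U.hom rfl : pushout.inl g.left g.left ≫ d = U.hom) ▸ U.prop
    · exact (pushout.inr_desc U.hom U.hom rfl : pushout.inr g.left g.left ≫ d = U.hom) ▸ U.prop
  let W : X.Etale := MorphismProperty.Over.mk ⊤ d hd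
  let a : U ⟶ W := MorphismProperty.Over.homMk (pushout.inl g.left g.left) (pushout.inl_desc _ _ _)
  let b : U ⟶ W := MorphismProperty.Over.homMk (pushout.inr g.left g.left) (pushout.inr_desc _ _ _)
  haveI ha : IsOpenImmersion (pushout.inl g.left g.left) :=
    inferInstanceAs (IsOpenImmersion (colimit.ι (span g.left g.left) WalkingSpan.left))
  haveI hb : IsOpenImmersion (pushout.inr g.left g.left) :=
    inferInstanceAs (IsOpenImmersion (colimit.ι (span g.left g.left) WalkingSpan.right))
  have hga : g ≫ a = g ≫ b := MorphismProperty.Over.Hom.ext pushout.condition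
  haveI : Mono a := (MorphismProperty.Over.forget EtCoh.etaleMP.{u} ⊤ X ⋙ Over.forget X).mono_of_mono_map
    (inferInstanceAs (Mono (pushout.inl g.left g.left)))
  haveI : Mono b := (MorphismProperty.Over.forget EtCoh.etaleMP.{u} ⊤ X ⋙ Over.forget X).mono_of_mono_map
    (inferInstanceAs (Mono (pushout.inr g.left g.left)))
  refine ⟨W, a, b, inferInstance, inferInstance, hga, fun w => ?_, fun T p q h => ?_⟩
  · obtain ⟨i, z, rfl⟩ := Scheme.IsLocallyDirected.ι_jointly_surjective (span g.left g.left) w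
    rcases i with - | (- | -)
    · refine Or.inl ⟨g.left z, ?_⟩
      show pushout.inl g.left g.left (g.left z) = _
      rw [← Scheme.Hom.comp_apply, ← colimit.w (span g.left g.left) WalkingSpan.Hom.fst]
      rfl
    · exact Or.inl ⟨z, rfl⟩
    · exact Or.inr ⟨z, rfl⟩
  · have hr : ∀ t : T.left, p.left t ∈ Set.range g.left := fun t => by
      have e : colimit.ι (span g.left g.left) WalkingSpan.left (p.left t) =
          colimit.ι (span g.left g.left) WalkingSpan.right (q.left t) := by
        have e := congrArg (fun m : T ⟶ W => (m.left : T.left ⟶ W₀) t) h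
        exact e
      obtain ⟨k, fi, fj, x, hi, -⟩ := Scheme.IsLocallyDirected.ι_eq_ι_iff _ |>.1 e
      cases fi with
      | id => cases fj
      | init => exact ⟨x, hi⟩
    let r : T ⟶ V := MorphismProperty.Over.homMk (IsOpenImmersion.lift g.left p.left (by rintro _ ⟨t, rfl⟩; exact hr t)) (by
      refine ((congrArg (IsOpenImmersion.lift g.left p.left _ ≫ ·) (MorphismProperty.Over.w g).symm).trans ?_)
      exact (Category.assoc _ _ _).symm.trans ((congrArg (· ≫ U.hom) (IsOpenImmersion.lift_fac _ _ _)).trans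
        (MorphismProperty.Over.w p)))
    have hrg : r ≫ g = p := MorphismProperty.Over.Hom.ext (IsOpenImmersion.lift_fac _ _ _)
    refine ⟨(cancel_mono b).1 ?_, r, hrg⟩
    rw [← h, ← hrg, Category.assoc, Category.assoc, hga]

/-- The statement behind `map_surjective_of_isOpenImmersion_of_H_restrict_subsingleton`. -/
theorem map_surjective_of_acyclic (F : EtCoh.Ab X)
    (hF : ∀ (W : X.Etale) (q : ℕ), 0 < q → Subsingleton (EtCoh.H W.left ((EtCoh.pull W.hom).obj F) q))
    {U V : X.Etale} (g : V ⟶ U) [IsOpenImmersion g.left] :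
    Function.Surjective (F.obj.map g.op).hom := by
  classical
  let Q := Classical.arbitrary (InjectivePresentation F)
  have hE := Q.shortExact_shortComplex
  haveI : Injective Q.shortComplex.X₂ := Q.injective
  let E := Q.shortComplex
  haveI : Injective E.X₂.obj := Injective.injective_of_adjoint (sheafificationAdjunction _ _) E.X₂
  obtain ⟨W, a, b, _, _, hab, hcov, hint⟩ := exists_double g
  intro s
  haveI : Mono g := (MorphismProperty.Over.forget EtCoh.etaleMP.{u} ⊤ X ⋙ Over.forget X).mono_of_mono_map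
    (inferInstanceAs (Mono g.left))
  obtain ⟨y, hy⟩ := presheaf_injective_map_surjective E.X₂.obj g ((E.f.hom.app (op V)).hom s)
  let q := (E.g.hom.app (op U)).hom y
  have hzero : ∀ (Y : X.Etale) (t : E.X₁.obj.obj (op Y)),
      (E.g.hom.app (op Y)).hom ((E.f.hom.app (op Y)).hom t) = 0 := fun Y t =>
    congrArg (fun α : E.X₁ ⟶ E.X₃ => (α.hom.app (op Y)).hom t) E.zero
  have hq : (E.X₃.obj.map g.op).hom q = 0 := by
    refine (NatTrans.naturality_apply E.g.hom g.op y).symm.trans ?_
    exact (congrArg _ hy).trans (hzero V s)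
  let π : WalkingPair → (U ⟶ W) := fun i => match i with | .left => a | .right => b
  let val : WalkingPair → E.X₃.obj.obj (op U) := fun i => match i with | .left => q | .right => 0
  have hcompat : ∀ i j (T : X.Etale) (p : T ⟶ U) (p' : T ⟶ U), p ≫ π i = p' ≫ π j →
      (E.X₃.obj.map p.op).hom (val i) = (E.X₃.obj.map p'.op).hom (val j) := by
    have key : ∀ (T : X.Etale) (p : T ⟶ U) (p' : T ⟶ U), p ≫ a = p' ≫ b →
        (E.X₃.obj.map p.op).hom q = (E.X₃.obj.map p'.op).hom 0 := fun T p p' h => by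
      obtain ⟨-, r, rfl⟩ := hint p p' h
      rw [map_zero, op_comp, Functor.map_comp, ConcreteCategory.comp_apply, hq, map_zero]
    rintro (_ | _) (_ | _) T p p' h
    · rw [(cancel_mono a).1 h]
    · exact key T p p' h
    · exact (key T p' p h.symm).symm
    · rw [(cancel_mono b).1 h]
  have hmem : Sieve.generate (Presieve.ofArrows (fun _ : WalkingPair => U) π) ∈ X.smallEtaleTopology W := by
    rw [EtFound.mem_topology_iff]
    intro w
    rcases hcov w with ⟨v, hv⟩ | ⟨v, hv⟩
    · exact ⟨U, a, v, ⟨U, 𝟙 _, π WalkingPair.left, Presieve.ofArrows.mk WalkingPair.left, Category.id_comp _⟩, hv⟩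
    · exact ⟨U, b, v, ⟨U, 𝟙 _, π WalkingPair.right, Presieve.ofArrows.mk WalkingPair.right, Category.id_comp _⟩, hv⟩
  have hsh := (Presieve.isSheafFor_iff_generate _).2
    (((isSheaf_iff_isSheaf_of_type _ _).1
      ((Presheaf.isSheaf_iff_isSheaf_forget _ _ (forget AddCommGrpCat)).1 E.X₃.property)) _ hmem)
  obtain ⟨qW, hqW, -⟩ := (Presieve.isSheafFor_arrows_iff _ _).1 hsh val (fun i j T p p' h => hcompat i j T p p' h)
  obtain ⟨i, hi⟩ := sections_surjective_of_H hE inferInstance W (hF W 1 one_pos) qW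
  obtain ⟨f₂, hf₂⟩ := (sections_exact hE U).2 ((E.X₂.obj.map b.op).hom i)
    ((NatTrans.naturality_apply E.g.hom b.op i).trans ((congrArg _ hi).trans (hqW WalkingPair.right)))
  obtain ⟨f₁, hf₁⟩ := (sections_exact hE U).2 ((E.X₂.obj.map a.op).hom i - y) (by
    rw [map_sub, NatTrans.naturality_apply E.g.hom a.op i, hi, sub_eq_zero]
    exact hqW WalkingPair.left)
  refine ⟨f₂ - f₁, (sections_exact hE V).1 ?_⟩
  rw [NatTrans.naturality_apply E.f.hom g.op, map_sub, hf₂, hf₁, map_sub, map_sub, hy]
  rw [← ConcreteCategory.comp_apply, ← ConcreteCategory.comp_apply, ← Functor.map_comp, ← Functor.map_comp,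
    ← op_comp, ← op_comp, hab, sub_sub_cancel]

end Groth.Agent.BigSiteLib
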