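import Groth.Agent.TriCat.AcyclicObj
import Mathlib.Algebra.Homology.DerivedCategory.Ext.Map
import Mathlib.CategoryTheory.Abelian.Injective.Ext
import Mathlib.Algebra.Homology.DerivedCategory.Ext.EnoughInjectives
import Mathlib.Algebra.Homology.DerivedCategory.Ext.ExactSequences

/-!
# Leray: the canonical map in the case of vanishing higher direct images
-/

set_option autoImplicit false

universe w v v' u u'

open CategoryTheory CategoryTheory.Limits CategoryTheory.Abelian

namespace Groth.Agent.BigSiteLib.HofBij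

variable {A : Type u} [Category.{v} A] [Abelian A] [EnoughInjectives A] [HasExt.{w} A]
  {B : Type u'} [Category.{v'} B] [Abelian B] [HasExt.{w} B]
  {L : B ⥤ A} {R : A ⥤ B} [L.Additive] [R.Additive] [PreservesFiniteLimits L] [PreservesFiniteColimits L]
  (adj : L ⊣ R) {ZA : A} {ZB : B} (i : ZA ⟶ L.obj ZB)

/-- pull back, then apply the counit -/
noncomputable def hof (F : A) (p : ℕ) (x : Ext.{w} ZB (R.obj F) p) : Ext.{w} ZA F p :=
  ((Ext.mk₀ i).comp (x.mapExactFunctor L) (zero_add p)).comp (Ext.mk₀ (adj.counit.app F)) (add_zero p)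

theorem hof_add (F : A) (p : ℕ) (x y : Ext.{w} ZB (R.obj F) p) :
    hof adj i F p (x + y) = hof adj i F p x + hof adj i F p y := by
  simp [hof]

theorem hof_natural {F F' : A} (f : F ⟶ F') (p : ℕ) (x : Ext.{w} ZB (R.obj F) p) :
    hof adj i F' p (x.comp (Ext.mk₀ (R.map f)) (add_zero p)) =
      (hof adj i F p x).comp (Ext.mk₀ f) (add_zero p) := by
  simp only [hof, Ext.mapExactFunctor_comp, Ext.mapExactFunctor_mk₀, Ext.comp_assoc_of_third_deg_zero,
    Ext.comp_assoc_of_second_deg_zero, Ext.mk₀_comp_mk₀]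
  congr 3
  exact adj.counit.naturality f

theorem hof_comp {X Y : A} (p : ℕ) (y : Ext.{w} ZB (R.obj X) p) (e' : Ext.{w} (R.obj X) (R.obj Y) 1) (e : Ext.{w} X Y 1)
    (hn : (e'.mapExactFunctor L).comp (Ext.mk₀ (adj.counit.app Y)) (add_zero 1) =
      (Ext.mk₀ (adj.counit.app X)).comp e (zero_add 1)) :
    hof adj i Y (p + 1) (y.comp e' rfl) = (hof adj i X p y).comp e rfl := by
  simp only [hof, Ext.mapExactFunctor_comp, Ext.comp_assoc_of_third_deg_zero, Ext.comp_assoc_of_second_deg_zero, hn]
  rw [← Ext.comp_assoc_of_second_deg_zero (y.mapExactFunctor L)]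
  exact (Ext.comp_assoc _ _ _ (zero_add p) rfl (by omega)).symm

theorem hof_bijective_zero (hi : IsIso i) (F : A) : Function.Bijective (hof adj i F 0) := by
  have e : ∀ φ : ZB ⟶ R.obj F, hof adj i F 0 (Ext.mk₀ φ) = Ext.mk₀ (i ≫ (adj.homEquiv ZB F).symm φ) := fun φ => by
    simp [hof, Ext.mapExactFunctor_mk₀, Adjunction.homEquiv_counit, Category.assoc]
  constructor
  · intro x y hxy
    obtain ⟨φ, rfl⟩ := (Ext.mk₀_bijective _ _).2 x
    obtain ⟨ψ, rfl⟩ := (Ext.mk₀_bijective _ _).2 y
    rw [e, e] at hxy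
    exact congrArg _ ((adj.homEquiv ZB F).symm.injective ((cancel_epi i).1 ((Ext.mk₀_bijective _ _).1 hxy)))
  · intro z
    obtain ⟨ψ, rfl⟩ := (Ext.mk₀_bijective _ _).2 z
    exact ⟨Ext.mk₀ (adj.homEquiv ZB F (inv i ≫ ψ)), by rw [e, Equiv.symm_apply_apply, IsIso.hom_inv_id_assoc]⟩

theorem hof_bijective (hi : IsIso i) [PreservesFiniteLimits R] :
    ∀ (p : ℕ) (F : A), TriCat.IsRightAcyclic R F → Function.Bijective (hof adj i F p) := by
  intro p
  induction p with
  | zero => exact fun F _ => hof_bijective_zero adj i hi F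
  | succ p ih =>
    intro F hF
    let Q := Classical.arbitrary (InjectivePresentation F)
    have hS := Q.shortExact_shortComplex
    let S := Q.shortComplex
    haveI : Injective S.X₂ := Q.injective
    haveI : Injective (R.obj S.X₂) := Injective.injective_of_adjoint adj _
    have hS' : (S.map R).ShortExact := TriCat.shortExact_map_of_subsingleton hS (hF 1 one_pos)
    have hG : TriCat.IsRightAcyclic R S.X₃ :=
      TriCat.acyclic₃ hS hF (TriCat.isRightAcyclic_of_injective _)
    have e := ih S.X₃ hG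
    let e' : Ext.{w} (R.obj S.X₃) (R.obj S.X₁) 1 := hS'.extClass
    have hn : (e'.mapExactFunctor L).comp (Ext.mk₀ (adj.counit.app S.X₁)) (add_zero 1) =
        (Ext.mk₀ (adj.counit.app S.X₃)).comp hS.extClass (zero_add 1) :=
      (congrArg (fun t => Ext.comp t (Ext.mk₀ (adj.counit.app S.X₁)) (add_zero 1)) (Ext.mapExactFunctor_extClass L hS')).trans
        (ShortComplex.ShortExact.extClass_naturality (hS'.map_of_exact L) hS
          ({ τ₁ := adj.counit.app S.X₁, τ₂ := adj.counit.app S.X₂, τ₃ := adj.counit.app S.X₃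
             comm₁₂ := (adj.counit.naturality S.f).symm, comm₂₃ := (adj.counit.naturality S.g).symm } :
            (S.map R).map L ⟶ S))
    constructor
    · suffices ∀ x, hof adj i F (p + 1) x = 0 → x = 0 by
        intro x y hxy
        have h := hof_add adj i F (p + 1) (x - y) y
        rw [sub_add_cancel, hxy] at h
        exact sub_eq_zero.1 (this _ (by simpa using h.symm))
      intro x hx
      obtain ⟨y, hy⟩ : ∃ y : Ext.{w} ZB (R.obj S.X₃) p, y.comp e' rfl = x :=
        haveI : Injective (S.map R).X₂ := ‹Injective (R.obj S.X₂)›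
        Ext.covariant_sequence_exact₁ ZB hS' x (Ext.eq_zero_of_injective _) rfl
      subst hy
      have hx' : (hof adj i S.X₃ p y).comp hS.extClass rfl = 0 := (hof_comp adj i p y e' hS.extClass hn).symm.trans hx
      obtain ⟨z, hz⟩ := Ext.covariant_sequence_exact₃ ZA hS (hof adj i S.X₃ p y) (n₁ := p + 1) rfl hx'
      obtain ⟨z', hz'⟩ := (ih S.X₂ (TriCat.isRightAcyclic_of_injective _)).2 z
      have hy' : y = z'.comp (Ext.mk₀ (R.map S.g)) (add_zero p) :=
        e.1 ((hz.symm.trans (congrArg (fun t => Ext.comp t (Ext.mk₀ S.g) (add_zero p)) hz'.symm)).trans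
          (hof_natural adj i S.g p z').symm)
      have h0 : (Ext.mk₀ (R.map S.g)).comp e' (zero_add 1) = 0 := hS'.comp_extClass
      rw [hy', Ext.comp_assoc_of_second_deg_zero, h0, Ext.comp_zero]
    · intro z
      obtain ⟨y, hy⟩ : ∃ y : Ext.{w} ZA S.X₃ p, y.comp hS.extClass rfl = z :=
        Ext.covariant_sequence_exact₁ ZA hS z (Ext.eq_zero_of_injective _) rfl
      obtain ⟨y', hy'⟩ := e.2 y
      exact ⟨y'.comp e' rfl, (hof_comp adj i p y' e' hS.extClass hn).trans
        ((congrArg (fun t => Ext.comp t hS.extClass rfl) hy').trans hy)⟩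

end Groth.Agent.BigSiteLib.HofBij
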