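import Groth.Agent.BigSiteLib.HofPushBij
import Groth.Agent.EtMVLib.HpullApply
import Groth.Prelude.Def_EtLim

/-!
# Leray for a morphism with vanishing higher direct images
-/

set_option autoImplicit false

universe u

open CategoryTheory CategoryTheory.Limits AlgebraicGeometry Opposite CategoryTheory.Abelian

namespace Groth.Agent.BigSiteLib

set_option backward.isDefEq.respectTransparency.types false

theorem hofPush_bijective {X Y : Scheme.{u}} (f : X ⟶ Y)
    [PreservesFiniteLimits (EtCoh.pull f)] (F : EtCoh.Ab X)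
    (hR : ∀ q : ℕ, 0 < q → IsZero ((EtCoh.Rpush f q).obj F)) (p : ℕ) :
    Function.Bijective (EtLim.HofPush f F p) := by
  haveI : (EtCoh.pull f).IsLeftAdjoint := (EtCoh.pullPushAdj f).isLeftAdjoint
  haveI : (EtCoh.push f).IsRightAdjoint := (EtCoh.pullPushAdj f).isRightAdjoint
  haveI : (EtCoh.pull f).Additive := (EtCoh.pullPushAdj f).left_adjoint_additive
  have h := HofBij.hof_bijective (EtCoh.pullPushAdj f) (EtCore.pullConst f ℤ).inv inferInstance p F hR
  have e : ⇑(EtLim.HofPush f F p) = HofBij.hof (EtCoh.pullPushAdj f) (EtCore.pullConst f ℤ).inv F p := funext fun x => rfl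
  rw [e]
  exact h

end Groth.Agent.BigSiteLib
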