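import Groth.Agent.BigSiteLib.EtZarCmp

/-!
# Open sections of etale maps through a given point
-/

set_option autoImplicit false

universe u

open CategoryTheory CategoryTheory.Limits AlgebraicGeometry Opposite TopologicalSpace

namespace Groth.Agent.BigSiteLib

theorem exists_open_section_mem {S : Scheme.{u}} (hS : ∀ s : S, EtCoh.IsStrictlyHenselianLocalRing (S.presheaf.stalk s))
    {V : Scheme.{u}} (g : V ⟶ S) [Etale g] (v : V) :
    ∃ (W : S.Opens) (σ : W.toScheme ⟶ V), g v ∈ W ∧ σ ≫ g = W.ι ∧ v ∈ Set.range σ := by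
  let A := S.presheaf.stalk (g v)
  obtain ⟨x, hx, hx'⟩ := Scheme.Pullback.exists_preimage_pullback (f := g) (g := S.fromSpecStalk (g v)) v
    (IsLocalRing.closedPoint A) S.fromSpecStalk_closedPoint.symm
  obtain ⟨w, hw, hwx⟩ := (Hensel.strictlyHenselian_iff_exists_section A).1
    (by obtain ⟨h1, h2⟩ := hS (g v); exact ⟨h1, h2⟩) _ (pullback.snd g (S.fromSpecStalk (g v))) inferInstance x hx'
  obtain ⟨W, hW, σ, hσ', hσ⟩ := MorLib.SFP.spread_out (𝟙 S) g (w ≫ pullback.fst g (S.fromSpecStalk (g v))) (by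
    rw [Category.assoc, pullback.condition, ← Category.assoc, hw, Category.comp_id]
    exact Category.id_comp _)
  refine ⟨W, σ, hW, hσ.trans (Category.comp_id _), (W.fromSpecStalkOfMem (g v) hW) (IsLocalRing.closedPoint _), ?_⟩
  rw [← Scheme.Hom.comp_apply, ← hσ', Scheme.Hom.comp_apply]
  exact (congrArg _ hwx).trans hx

theorem exists_open_section_of_isField {X Y : Scheme.{u}} (hX : ∀ x : X, IsField (X.presheaf.stalk x))
    (hX' : ∀ x : X, IsAlgClosed (X.residueField x))
    (f : Y ⟶ X) [Etale f] (y : Y) :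
    ∃ (V : X.Opens) (s : (V : Scheme.{u}) ⟶ Y), f.base y ∈ V ∧ s ≫ f = V.ι ∧ y ∈ Set.range s.base := by
  refine exists_open_section_mem (fun x => ?_) f y
  letI := (hX x).toField
  haveI := hX' x
  exact ⟨inferInstance, inferInstanceAs (IsSepClosed (X.residueField x))⟩

end Groth.Agent.BigSiteLib
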