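import Groth.Agent.BigSiteLib.PiInduced

/-!
# Pullbacks from the small etale site are fpqc sheaves
-/

set_option autoImplicit false

universe w u

open CategoryTheory CategoryTheory.Limits AlgebraicGeometry Opposite TopologicalSpace

namespace Groth.Agent.BigSiteLib

/-- A quasi-compact flat covering family detects open subsets. -/
theorem isOpen_of_qcCover {V : Scheme.{u}} (𝒰 : PreZeroHypercover.{w} V) [QuasiCompactCover 𝒰]
    (hflat : ∀ i, Flat (𝒰.f i)) (E : Set V) (hE : ∀ i, IsOpen ((𝒰.f i) ⁻¹' E)) : IsOpen E := by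
  refine isOpen_iff_forall_mem_open.2 fun x hx => ?_
  obtain ⟨U₀, hU, hxU, -⟩ := Opens.isBasis_iff_nbhd.mp V.isBasis_affineOpens (Opens.mem_top x)
  let U : V.Opens := U₀
  change IsAffineOpen U at hU
  change x ∈ U at hxU
  obtain ⟨n, φ, W, hW, heq⟩ := QuasiCompactCover.exists_isAffineOpen_of_isCompact 𝒰 (U := U) (IsAffineOpen.isCompact hU)
  have hle : ∀ j, W j ≤ (𝒰.f (φ j)) ⁻¹ᵁ U := fun j w hw =>
    heq.subset (Set.mem_iUnion.2 ⟨j, w, hw, rfl⟩)
  let g : ∀ j, (W j).toScheme ⟶ U.toScheme := fun j => (𝒰.f (φ j)).resLE U (W j) (hle j)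
  haveI : ∀ j, Flat (g j) := fun j => by
    haveI := hflat (φ j)
    haveI : Flat (g j ≫ U.ι) := by rw [Scheme.Hom.resLE_comp_ι]; infer_instance
    exact MorphismProperty.of_postcomp @Flat (W' := @IsOpenImmersion) (g j) U.ι inferInstance ‹_›
  let G : (∐ fun j => (W j).toScheme) ⟶ U.toScheme := Sigma.desc g
  haveI : Flat G := IsZariskiLocalAtSource.sigmaDesc (fun j => inferInstance)
  haveI : IsAffine U.toScheme := hU
  haveI : ∀ j, IsAffine (W j).toScheme := hW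
  haveI : CompactSpace (∐ fun j => (W j).toScheme : Scheme.{u}) := inferInstance
  haveI : QuasiCompact G := HasAffineProperty.iff_of_isAffine.mpr ‹CompactSpace _›
  haveI : Surjective G := ⟨fun y => by
    obtain ⟨j, w, hw, hwy⟩ := Set.mem_iUnion.1 (heq.superset y.2)
    refine ⟨Sigma.ι (fun j => (W j).toScheme) j ⟨w, hw⟩, U.ι.isOpenEmbedding.injective ?_⟩
    simp only [G, ← Scheme.Hom.comp_apply, Category.assoc, Sigma.ι_desc_assoc, g, Scheme.Hom.resLE_comp_ι]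
    exact hwy⟩
  have h1 : IsOpen (G ⁻¹' (U.ι ⁻¹' E)) := by
    refine isOpen_iff_forall_mem_open.2 fun z hz => ?_
    obtain ⟨j, w, rfl⟩ := (sigmaOpenCover fun j => (W j).toScheme).exists_eq z
    refine ⟨Sigma.ι (fun j => (W j).toScheme) j '' ((Sigma.ι (fun j => (W j).toScheme) j) ⁻¹' (G ⁻¹' (U.ι ⁻¹' E))),
      Set.image_preimage_subset _ _, ?_, ⟨w, hz, rfl⟩⟩
    refine (Scheme.Hom.isOpenEmbedding _).isOpenMap _ ?_
    have : (Sigma.ι (fun j => (W j).toScheme) j) ⁻¹' (G ⁻¹' (U.ι ⁻¹' E)) = (W j).ι ⁻¹' ((𝒰.f (φ j)) ⁻¹' E) := by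
      ext w'
      simp only [Set.mem_preimage, G, ← Scheme.Hom.comp_apply, Category.assoc, Sigma.ι_desc_assoc, g, Scheme.Hom.resLE_comp_ι]
    rw [this]
    exact (hE _).preimage (W j).ι.continuous
  exact ⟨E ∩ U, Set.inter_subset_left,
    by
      rw [← Set.inter_comm, ← Subtype.image_preimage_coe]
      exact U.2.isOpenEmbedding_subtypeVal.isOpenMap _ ((Flat.isQuotientMap_of_surjective G).isOpen_preimage.1 h1),
    ⟨hx, hxU⟩⟩

variable {S : Scheme.{u}}

theorem isSheaf_fpqc_of_etInduced {P : (Over S)ᵒᵖ ⥤ Type (u + 1)} (hP : EtInd.EtInduced P) :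
    Presieve.IsSheaf (QuotSh.J Scheme.fpqcPrecoverage S) P := by
  intro Y R hR
  obtain ⟨R₀, hR₀, hle⟩ := Precoverage.mem_toGrothendieck_iff_of_isStableUnderComposition.1
    ((GrothendieckTopology.mem_over_iff _ _).1 hR)
  obtain ⟨𝒰, rfl⟩ := (Precoverage.mem_iff_exists_zeroHypercover (J := Scheme.fpqcPrecoverage)).1 hR₀
  have hqc : QuasiCompactCover 𝒰.toPreZeroHypercover :=
    Scheme.presieve₀_mem_qcPrecoverage_iff.1 𝒰.mem₀.1
  have hfl := (Scheme.presieve₀_mem_precoverage_iff 𝒰.toPreZeroHypercover).1 𝒰.mem₀.2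
  refine EtInd.isSheafFor_fam hP (T := fun i => Over.mk (𝒰.f i ≫ Y.hom))
    (fun i => Over.homMk (𝒰.f i)) (fun y => ?_) (fun V k hk E hE => ?_) R
    fun i => (Sieve.overEquiv_iff R (𝒰.f i)).1 (hle _ _ (Presieve.ofArrows.mk i))
  · obtain ⟨i, x, hx⟩ := hfl.1 y
    exact ⟨i, x, hx⟩
  · haveI := hqc
    refine isOpen_of_qcCover (𝒰.toPreZeroHypercover.pullback₁ k.left) (fun i => ?_) E hE
    haveI : Flat (𝒰.f i) := hfl.2 i
    exact inferInstanceAs (Flat (pullback.fst k.left (𝒰.f i)))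

end Groth.Agent.BigSiteLib
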