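import Groth.Agent.BigSiteLib.PiUnit
import Groth.Agent.BigSiteLib.EtInduced
import Groth.Agent.EtFound.PullGerm
import Groth.Agent.EtFound.Basic

/-!
# Pullbacks from the small etale site are etale-induced
-/

set_option autoImplicit false

universe u

open CategoryTheory CategoryTheory.Limits AlgebraicGeometry Opposite

namespace Groth.Agent.BigSiteLib

set_option backward.isDefEq.respectTransparency.types false

variable {S : Scheme.{u}} (F : EtCoh.Ab S)

/-- Sections of the pullback to the big site, as sets. -/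
noncomputable abbrev piP : (Over S)ᵒᵖ ⥤ Type (u + 1) :=
  ((BigSite.piEtPull Scheme.etalePrecoverage S).obj F).obj ⋙ forget AddCommGrpCat.{u + 1}

/-- Sections over an etale scheme, in the pullback to the big site. -/
noncomputable abbrev etaApp (V : S.Etale) (a : F.obj.obj (op V)) : (piP F).obj (op ((EtFppf.a S).obj V)) :=
  ((BigSite.piEtAdj Scheme.etalePrecoverage S).unit.app F).hom.app (op V) a

theorem etaApp_surjective (V : S.Etale) : Function.Surjective (etaApp F V) := by
  haveI := isIso_unit S F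
  haveI : IsIso (((BigSite.piEtAdj Scheme.etalePrecoverage S).unit.app F).hom.app (op V)) :=
    inferInstanceAs (IsIso (((sheafToPresheaf _ _).map ((BigSite.piEtAdj Scheme.etalePrecoverage S).unit.app F)).app _))
  exact ((ConcreteCategory.isIso_iff_bijective _).1 this).2

theorem etaApp_naturality {V W : S.Etale} (k : W ⟶ V) (a : F.obj.obj (op V)) :
    etaApp F W (F.obj.map k.op a) = (piP F).map ((EtFppf.a S).map k).op (etaApp F V a) :=
  ConcreteCategory.congr_hom (((BigSite.piEtAdj Scheme.etalePrecoverage S).unit.app F).hom.naturality k.op) a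

/-- Pulled back sections, computed in the big site. -/
theorem resAlong_unit {T : Scheme.{u}} (g : T ⟶ S) (V : S.Etale) (a : F.obj.obj (op V)) :
    (resAlongPiPullIso g F).hom.hom.app (op ((EtCoh.bc g).obj V))
        (((EtCoh.pullPushAdj g).unit.app F).hom.app (op V) a) =
      (piP F).map (bcProj g V).op (etaApp F V a) := by
  exact (ConcreteCategory.comp_apply _ _ a).symm.trans
    ((ConcreteCategory.congr_hom (unit_resAlongPiPullIso_app g F V) a).trans (ConcreteCategory.comp_apply _ _ a))

theorem resAlong_injective {T : Scheme.{u}} (g : T ⟶ S) (W : T.Etale) :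
    Function.Injective ((resAlongPiPullIso g F).hom.hom.app (op W)) :=
  ((ConcreteCategory.isIso_iff_bijective _).1
    (inferInstanceAs (IsIso (((sheafToPresheaf _ _).mapIso (resAlongPiPullIso g F)).hom.app (op W))))).1

theorem resAlong_surjective {T : Scheme.{u}} (g : T ⟶ S) (W : T.Etale) :
    Function.Surjective ((resAlongPiPullIso g F).hom.hom.app (op W)) :=
  ((ConcreteCategory.isIso_iff_bijective _).1
    (inferInstanceAs (IsIso (((sheafToPresheaf _ _).mapIso (resAlongPiPullIso g F)).hom.app (op W))))).2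

theorem piP_loc (T : Over S) (s : (piP F).obj (op T)) (z : T.left) :
    ∃ (V W : Over S) (p : W ⟶ T) (q : W ⟶ V) (a : (piP F).obj (op V)),
      Etale V.hom ∧ Etale p.left ∧ z ∈ Set.range p.left ∧ (piP F).map p.op s = (piP F).map q.op a := by
  let g := T.hom
  let G := (EtCoh.pull g).obj F
  let e : (Over.map g).obj ((EtFppf.a T.left).obj (EtCoh.top T.left)) ≅ T :=
    Over.isoMk (Iso.refl _) ((Category.id_comp _).trans (Category.id_comp _).symm)
  obtain ⟨s', hs'⟩ := resAlong_surjective F g (EtCoh.top T.left) ((piP F).map e.hom.op s)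
  obtain ⟨Ω, _, _, ξ, x, hx⟩ := EtFound.exists_point_through (EtCoh.top T.left) z
  let Φ := Scheme.pointSmallEtale ξ
  let c := Φ.toPresheafFiber (EtCoh.top T.left) x G.obj s'
  obtain ⟨V, v, a, ha⟩ := (Scheme.pointSmallEtale (ξ ≫ g)).toPresheafFiber_jointly_surjective
    ((EtFound.sheafFiberPullIso g ξ).hom.app F c)
  let t := (EtFound.bcFiberEquiv g ξ V).symm v
  have hgerm : Φ.toPresheafFiber ((EtCoh.bc g).obj V) t G.obj (((EtCoh.pullPushAdj g).unit.app F).hom.app (op V) a) = c := by
    have h := (ConcreteCategory.comp_apply _ _ a).symm.trans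
      ((ConcreteCategory.congr_hom (EtFound.sheafFiberPullIso_germ g ξ F V t) a).trans (ConcreteCategory.comp_apply _ _ a))
    rw [show EtFound.bcFiberEquiv g ξ V t = v from Equiv.apply_symm_apply _ _] at h
    refine h.symm.trans ?_
    refine (congrArg ((EtFound.sheafFiberPullIso g ξ).inv.app F) ha).trans ?_
    exact (ConcreteCategory.comp_apply _ _ c).symm.trans
      ((ConcreteCategory.congr_hom ((EtFound.sheafFiberPullIso g ξ).hom_inv_id_app F) c).trans (ConcreteCategory.id_apply c))
  obtain ⟨⟨Z, y⟩, ⟨α, hα⟩, ⟨β, hβ⟩, -⟩ := IsCofilteredOrEmpty.cone_objs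
    (Φ.fiber.elementsMk (EtCoh.top T.left) x) (Φ.fiber.elementsMk ((EtCoh.bc g).obj V) t)
  obtain ⟨α', hα'⟩ : ∃ α' : Z ⟶ EtCoh.top T.left, Φ.fiber.map α' y = x := ⟨α, hα⟩
  obtain ⟨β', hβ'⟩ : ∃ β' : Z ⟶ (EtCoh.bc g).obj V, Φ.fiber.map β' y = t := ⟨β, hβ⟩
  have heq : Φ.toPresheafFiber Z y G.obj (G.obj.map α'.op s') =
      Φ.toPresheafFiber Z y G.obj (G.obj.map β'.op (((EtCoh.pullPushAdj g).unit.app F).hom.app (op V) a)) := by
    rw [Φ.toPresheafFiber_w_apply, Φ.toPresheafFiber_w_apply, hα', hβ', hgerm]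
  obtain ⟨W, k, w, hw, he⟩ := (Φ.toPresheafFiber_eq_iff' Z y _ _).1 heq
  let M : (W ⟶ EtCoh.top T.left) → ((Over.map g).obj ((EtFppf.a T.left).obj W) ⟶ T) :=
    fun m => (Over.map g).map ((EtFppf.a T.left).map m) ≫ e.hom
  refine ⟨(EtFppf.a S).obj V, (Over.map g).obj ((EtFppf.a T.left).obj W), M (k ≫ α'),
    (Over.map g).map ((EtFppf.a T.left).map (k ≫ β')) ≫ bcProj g V, etaApp F V a, V.prop, ?_,
    ⟨(w.left : Spec (CommRingCat.of Ω) ⟶ W.left).base (default : Spec (CommRingCat.of Ω)), ?_⟩, ?_⟩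
  · haveI := EtFound.etale_left (k ≫ α')
    exact inferInstanceAs (Etale ((k ≫ α').left ≫ 𝟙 _))
  · have h : (x.left : Spec (CommRingCat.of Ω) ⟶ T.left) = (w.left : Spec (CommRingCat.of Ω) ⟶ W.left) ≫ (k ≫ α').left := by
      rw [← hα', ← hw]; exact Category.assoc _ _ _
    refine Eq.trans ?_ (hx (default : Spec (CommRingCat.of Ω)))
    exact (congrArg (fun r : Spec (CommRingCat.of Ω) ⟶ T.left => r.base (default : Spec (CommRingCat.of Ω))) h).symm
  · have h1 := congrArg ((resAlongPiPullIso g F).hom.hom.app (op W)) he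
    have hn : ∀ {U : T.left.Etale} (m : W ⟶ U) (b : G.obj.obj (op U)),
        (resAlongPiPullIso g F).hom.hom.app (op W) (G.obj.map m.op b) =
          (piP F).map ((Over.map g).map ((EtFppf.a T.left).map m)).op ((resAlongPiPullIso g F).hom.hom.app (op U) b) :=
      fun m b => ConcreteCategory.congr_hom ((resAlongPiPullIso g F).hom.hom.naturality m.op) b
    have hm : ∀ {U : T.left.Etale} (m : Z ⟶ U) (b : G.obj.obj (op U)),
        G.obj.map k.op (G.obj.map m.op b) = G.obj.map (k ≫ m).op b := fun m b =>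
      (ConcreteCategory.comp_apply _ _ b).symm.trans
        (ConcreteCategory.congr_hom (G.obj.map_comp m.op k.op).symm b)
    have h2 : ((piP F).map ((Over.map g).map ((EtFppf.a T.left).map (k ≫ α'))).op ((piP F).map e.hom.op s)) =
        (piP F).map ((Over.map g).map ((EtFppf.a T.left).map (k ≫ β'))).op ((piP F).map (bcProj g V).op (etaApp F V a)) := by
      refine ((congrArg _ hs'.symm).trans (hn (k ≫ α') s').symm).trans ?_
      refine (congrArg _ (hm α' s').symm).trans (h1.trans ?_)
      refine (congrArg _ (hm β' _)).trans ((hn (k ≫ β') _).trans ?_)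
      exact congrArg _ (resAlong_unit F g V a)
    rw [EtInd.mapP, EtInd.mapP] at h2
    exact h2

theorem locEq_base {T : Over S} (h : T ⟶ (EtFppf.a S).obj (EtCoh.top S))
    (a b : (piP F).obj (op ((EtFppf.a S).obj (EtCoh.top S))))
    (e : (piP F).map h.op a = (piP F).map h.op b) (z : T.left) :
    ∃ (V' : Over S) (k : V' ⟶ (EtFppf.a S).obj (EtCoh.top S)),
      Etale k.left ∧ h.left z ∈ Set.range k.left ∧ (piP F).map k.op a = (piP F).map k.op b := by
  let g := T.hom
  obtain ⟨a', rfl⟩ := etaApp_surjective F (EtCoh.top S) a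
  obtain ⟨b', rfl⟩ := etaApp_surjective F (EtCoh.top S) b
  have hh : h.left = g := (Category.comp_id _).symm.trans (Over.w h)
  let l : (Over.map g).obj ((EtFppf.a T.left).obj ((EtCoh.bc g).obj (EtCoh.top S))) ⟶ T :=
    Over.homMk (pullback.snd (𝟙 S) g) rfl
  have hl : l ≫ h = bcProj g (EtCoh.top S) := Over.OverMorphism.ext (by
    show pullback.snd (𝟙 S) g ≫ h.left = pullback.fst (𝟙 S) g
    rw [hh]
    exact pullback.condition.symm.trans (Category.comp_id _))
  have h2 : ((EtCoh.pullPushAdj g).unit.app F).hom.app (op (EtCoh.top S)) a' =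
      ((EtCoh.pullPushAdj g).unit.app F).hom.app (op (EtCoh.top S)) b' := by
    refine resAlong_injective F g _ ?_
    rw [resAlong_unit, resAlong_unit, ← hl, ← EtInd.mapP, ← EtInd.mapP, e]
  obtain ⟨z', hz'1, hz'2⟩ := Scheme.Pullback.exists_preimage_pullback (f := 𝟙 S) (g := g) (g z) z rfl
  obtain ⟨Ω, _, _, ξ, t, ht⟩ := EtFound.exists_point_through ((EtCoh.bc g).obj (EtCoh.top S)) z'
  have h3 := (EtFound.germ_unit_eq_iff g ξ F (EtCoh.top S) t a' b').1 (congrArg _ h2)
  obtain ⟨W, k, w, hw, he⟩ := ((Scheme.pointSmallEtale (ξ ≫ g)).toPresheafFiber_eq_iff' (EtCoh.top S) _ a' b').1 h3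
  refine ⟨(EtFppf.a S).obj W, (EtFppf.a S).map k, EtFound.etale_left k,
    ⟨(w.left : Spec (CommRingCat.of Ω) ⟶ W.left).base (default : Spec (CommRingCat.of Ω)), ?_⟩, ?_⟩
  · have h4 : (w.left : Spec (CommRingCat.of Ω) ⟶ W.left) ≫ k.left =
        (t.left : Spec (CommRingCat.of Ω) ⟶ pullback (𝟙 S) g) ≫ pullback.fst (𝟙 S) g := congr(($hw).left)
    refine (congrArg (fun r : Spec (CommRingCat.of Ω) ⟶ S => r.base (default : Spec (CommRingCat.of Ω))) h4).trans ?_
    refine (Scheme.Hom.comp_apply _ _ _).trans ((congrArg (pullback.fst (𝟙 S) g) (ht (default : Spec (CommRingCat.of Ω)))).trans ?_)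
    rw [hh]
    exact hz'1
  · rw [← etaApp_naturality, ← etaApp_naturality, he]

/-- The comparison with the pullback over an object, with explicit source. -/
noncomputable def toBaseMor {T : Scheme.{u}} (g : T ⟶ S) :
    (Over.map g).op ⋙ ((BigSite.piEtPull Scheme.etalePrecoverage S).obj F).obj ⟶
      ((BigSite.piEtPull Scheme.etalePrecoverage T).obj ((EtCoh.pull g).obj F)).obj :=
  ((piPullIso g).app F).inv.hom

theorem isIso_toBaseMor_app {T : Scheme.{u}} (g : T ⟶ S) (A : Over T) : IsIso ((toBaseMor F g).app (op A)) :=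
  (((sheafToPresheaf _ _).mapIso ((piPullIso g).app F)).app (op A)).isIso_inv

attribute [irreducible] toBaseMor

/-- Transport of sections to the pullback over an object. -/
noncomputable def toBase {T : Scheme.{u}} (g : T ⟶ S) (A : Over T) (x : (piP F).obj (op ((Over.map g).obj A))) :
    (piP ((EtCoh.pull g).obj F)).obj (op A) :=
  (toBaseMor F g).app (op A) x

theorem toBase_map {T : Scheme.{u}} (g : T ⟶ S) {A B : Over T} (m : A ⟶ B) (x : (piP F).obj (op ((Over.map g).obj B))) :
    toBase F g A ((piP F).map ((Over.map g).map m).op x) = (piP ((EtCoh.pull g).obj F)).map m.op (toBase F g B x) :=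
  ConcreteCategory.congr_hom ((toBaseMor F g).naturality m.op) x

theorem toBase_injective {T : Scheme.{u}} (g : T ⟶ S) (A : Over T) : Function.Injective (toBase F g A) :=
  ((ConcreteCategory.isIso_iff_bijective _).1 (isIso_toBaseMor_app F g A)).1

attribute [irreducible] toBase

theorem piP_locEq {V T : Over S} (h : T ⟶ V) (a b : (piP F).obj (op V))
    (e : (piP F).map h.op a = (piP F).map h.op b) (z : T.left) :
    ∃ (V' : Over S) (k : V' ⟶ V), Etale k.left ∧ h.left z ∈ Set.range k.left ∧
      (piP F).map k.op a = (piP F).map k.op b := by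
  let F' := (EtCoh.pull V.hom).obj F
  let W0 := (EtFppf.a V.left).obj (EtCoh.top V.left)
  let i : (Over.map V.hom).obj W0 ≅ V := Over.isoMk (Iso.refl _) ((Category.id_comp _).trans (Category.id_comp _).symm)
  let T' : Over V.left := Over.mk h.left
  let h' : T' ⟶ W0 := Over.homMk h.left (Category.comp_id _)
  let j : (Over.map V.hom).obj T' ≅ T := Over.isoMk (Iso.refl _) ((Category.id_comp _).trans (Over.w h).symm)
  have hj : (Over.map V.hom).map h' ≫ i.hom = j.hom ≫ h :=
    Over.OverMorphism.ext ((Category.comp_id _).trans (Category.id_comp _).symm)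
  have e' : (piP F').map h'.op (toBase F V.hom W0 ((piP F).map i.hom.op a)) =
      (piP F').map h'.op (toBase F V.hom W0 ((piP F).map i.hom.op b)) := by
    rw [← toBase_map, ← toBase_map, EtInd.mapP, EtInd.mapP, hj, ← EtInd.mapP, ← EtInd.mapP, e]
  obtain ⟨V', k, hk, hzk, hek⟩ := locEq_base F' h' _ _ e' z
  rw [← toBase_map, ← toBase_map, EtInd.mapP, EtInd.mapP] at hek
  refine ⟨(Over.map V.hom).obj V', (Over.map V.hom).map k ≫ i.hom, ?_, ?_, ?_⟩
  · haveI := hk
    exact inferInstanceAs (Etale (k.left ≫ 𝟙 _))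
  · show h.left z ∈ Set.range (k.left ≫ 𝟙 _)
    rw [Category.comp_id]
    exact hzk
  · exact toBase_injective F V.hom V' hek

theorem etInduced_piP : EtInd.EtInduced (piP F) where
  sheaf := (isSheaf_iff_isSheaf_of_type _ _).1
    ((sheafCompose (QuotSh.J Scheme.etalePrecoverage S) (forget AddCommGrpCat.{u + 1})).obj
      ((BigSite.piEtPull Scheme.etalePrecoverage S).obj F)).property
  loc := piP_loc F
  locEq := piP_locEq F

end Groth.Agent.BigSiteLib
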