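import Groth.Agent.BigSiteLib.HUPull

/-!
# Sections of sheaves pulled back from the small etale site
-/

set_option autoImplicit false

universe u

open CategoryTheory CategoryTheory.Limits AlgebraicGeometry Opposite

namespace Groth.Agent.BigSiteLib

variable {S T : Scheme.{u}} (g : T ⟶ S)

set_option backward.isDefEq.respectTransparency.types false in
/-- The projection of a base change to the original scheme, over the base. -/
noncomputable def bcProj (V : S.Etale) : (Over.map g).obj ((EtFppf.a T).obj ((EtCoh.bc g).obj V)) ⟶ (EtFppf.a S).obj V :=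
  Over.homMk (pullback.fst V.hom g) pullback.condition

theorem unit_resAlongPiPullIso (F : EtCoh.Ab S) :
    (EtCoh.pullPushAdj g).unit.app F ≫ (EtCoh.push g).map (resAlongPiPullIso g F).hom =
      (BigSite.piEtAdj Scheme.etalePrecoverage S).unit.app F ≫
        (BigSite.resEt Scheme.etalePrecoverage S).map ((BigSite.bigAdj Scheme.etalePrecoverage g AddCommGrpCat.{u + 1}).unit.app
          ((BigSite.piEtPull Scheme.etalePrecoverage S).obj F)) ≫
        (pushResIso g).hom.app _ := by
  let A1 := (EtCoh.pullPushAdj g).comp (BigSite.piEtAdj Scheme.etalePrecoverage T)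
  let A2 := (BigSite.piEtAdj Scheme.etalePrecoverage S).comp (BigSite.bigAdj Scheme.etalePrecoverage g AddCommGrpCat.{u + 1})
  have h := Adjunction.unit_leftAdjointUniq_hom_app (A1.ofNatIsoRight (pushResIso g).symm) A2 F
  have h1 : (A1.ofNatIsoRight (pushResIso g).symm).unit.app F = A1.unit.app F ≫ (pushResIso g).inv.app _ := by
    simp [Adjunction.ofNatIsoRight, Adjunction.mkOfHomEquiv, Adjunction.equivHomsetRightOfNatIso, A1, Adjunction.homEquiv_unit]
  rw [h1, Category.assoc] at h
  have h2 : (A1.unit.app F ≫ (BigSite.resEt Scheme.etalePrecoverage T ⋙ EtCoh.push g).map ((piPullIso g).hom.app F)) ≫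
      (pushResIso g).inv.app _ = A2.unit.app F := by
    rw [Category.assoc, (pushResIso g).inv.naturality]
    exact h
  have h3 := congrArg (· ≫ (pushResIso g).hom.app _) h2
  simp only [Category.assoc, Iso.inv_hom_id_app, Category.comp_id] at h3
  refine Eq.trans ?_ (h3.trans ?_)
  · simp [resAlongPiPullIso, A1, Adjunction.comp_unit_app, Functor.map_comp]
  · simp [A2, Adjunction.comp_unit_app]

set_option backward.isDefEq.respectTransparency.types false in
theorem unit_resAlongPiPullIso_app (F : EtCoh.Ab S) (V : S.Etale) :
    ((EtCoh.pullPushAdj g).unit.app F).hom.app (op V) ≫ (resAlongPiPullIso g F).hom.hom.app (op ((EtCoh.bc g).obj V)) =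
      ((BigSite.piEtAdj Scheme.etalePrecoverage S).unit.app F).hom.app (op V) ≫
        ((BigSite.piEtPull Scheme.etalePrecoverage S).obj F).obj.map (bcProj g V).op := by
  refine (congr($(unit_resAlongPiPullIso g F).hom.app (op V))).trans ?_
  show ((BigSite.piEtAdj Scheme.etalePrecoverage S).unit.app F).hom.app (op V) ≫
    ((BigSite.piEtPull Scheme.etalePrecoverage S).obj F).obj.map ((Over.mapPullbackAdj g).counit.app ((EtFppf.a S).obj V)).op ≫
      ((pushResIso g).hom.app ((BigSite.pullBig Scheme.etalePrecoverage g AddCommGrpCat.{u + 1}).obj ((BigSite.piEtPull Scheme.etalePrecoverage S).obj F))).hom.app (op V) = _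
  congr 1
  simp only [pushResIso, Iso.trans_hom, NatTrans.comp_app]
  dsimp [Functor.sheafPushforwardContinuousComp, Functor.sheafPushforwardContinuousIso]
  refine (congrArg (((BigSite.piEtPull Scheme.etalePrecoverage S).obj F).obj.map
    ((Over.mapPullbackAdj g).counit.app ((EtFppf.a S).obj V)).op ≫ ·) ((Category.id_comp _).trans (Category.comp_id _))).trans ?_
  refine (((BigSite.piEtPull Scheme.etalePrecoverage S).obj F).obj.map_comp _ _).symm.trans
    (congrArg ((BigSite.piEtPull Scheme.etalePrecoverage S).obj F).obj.map ?_)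
  refine Quiver.Hom.unop_inj (Over.OverMorphism.ext ?_)
  simp [bcProj]
  rfl

end Groth.Agent.BigSiteLib
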