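import Groth.Agent.BigSiteLib.PiInduced
import Groth.Agent.BigSiteLib.PiUnit
import Groth.Agent.HTopCov.Misc
import Groth.Agent.HTopCov.ValPh
import Groth.Agent.S8976
import Groth.Prelude.Def_EtFppf
import Groth.Prelude.Def_HTop

/-!
# Pullbacks from the small etale site are sheaves for the ph and h topologies

An etale-induced presheaf descends along jointly surjective families whose base changes detect open
subsets; V coverings are such families.  So the pullback of an abelian etale sheaf to the big etale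
site is a sheaf for every topology generated by coverings refined by V coverings, and agrees with the
pullback to the big site of that topology.
-/

set_option autoImplicit false
set_option linter.style.haveILetI false

universe v w u

open CategoryTheory CategoryTheory.Limits AlgebraicGeometry Opposite TopologicalSpace HTop

namespace Groth.Agent.BigSiteLib

set_option backward.isDefEq.respectTransparency.types false

theorem isOpen_of_vCover {T : Scheme.{u}} (E : PreZeroHypercover.{w} T) (hE : IsVCover E) (O : Set T)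
    (hO : ∀ i, IsOpen (E.f i ⁻¹' O)) : IsOpen O := by
  rw [← isClosed_compl_iff, IsOpenCover.isClosed_iff_coe_preimage (U := fun U : T.affineOpens => U.1)
    (iSup_affineOpens_eq_top T)]
  intro U
  obtain ⟨F, hF, hr⟩ := hE U
  refine HTopCov.isClosed_of_standardV F hF _ fun j => ?_
  obtain ⟨i, k, hk⟩ := hr j
  have e : F.f j ⁻¹' (((↑) : U.1 → T) ⁻¹' Oᶜ) = k ⁻¹' (E.f i ⁻¹' O)ᶜ := by
    ext x
    exact not_congr (iff_of_eq (congrArg (· ∈ O) congr($hk x).symm))
  exact (congrArg IsClosed e).mpr ((hO i).isClosed_compl.preimage k.continuous)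

theorem exists_point_of_vCover {T : Scheme.{u}} (E : PreZeroHypercover.{w} T) (hE : IsVCover E) (t : T) :
    ∃ i, t ∈ Set.range (E.f i) := by
  obtain ⟨U, hU, ht, -⟩ := exists_isAffineOpen_mem_and_subset (U := ⊤) (x := t) trivial
  obtain ⟨F, hF, hr⟩ := hE ⟨U, hU⟩
  obtain ⟨j, x, hx⟩ := HTopCov.exists_point_of_hasValLift F hF.lift ⟨t, ht⟩
  obtain ⟨i, k, hk⟩ := hr j
  exact ⟨i, k x, (congr($hk x)).trans (congrArg U.ι hx)⟩

/-- Every covering presieve of the precoverage is refined by a V covering. -/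
def RefinedByV (K : Precoverage Scheme.{u}) : Prop :=
  ∀ (T : Scheme.{u}) (R : Presieve T), R ∈ K T →
    ∃ E : PreZeroHypercover.{u + 1} T, IsVCover E ∧ ∀ i, Sieve.generate R (E.f i)

theorem refinedByV_ph : RefinedByV HTop.phPrecoverage.{u} := fun T R hR => by
  obtain ⟨𝒰, rfl⟩ := (Precoverage.mem_iff_exists_zeroHypercover (J := phPrecoverage)).1 hR
  exact ⟨𝒰.toPreZeroHypercover, HTopCov.isVCover_of_isPhCover _ ((presieve₀_mem_phPrecoverage_iff _).1 𝒰.mem₀),
    fun i => Sieve.le_generate _ _ _ (Presieve.ofArrows.mk i)⟩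

theorem refinedByV_h : RefinedByV HTop.hPrecoverage.{u} := fun T R hR => by
  obtain ⟨𝒰, rfl⟩ := (Precoverage.mem_iff_exists_zeroHypercover (J := hPrecoverage)).1 hR
  exact ⟨𝒰.toPreZeroHypercover, ((presieve₀_mem_hPrecoverage_iff _).1 𝒰.mem₀).2,
    fun i => Sieve.le_generate _ _ _ (Presieve.ofArrows.mk i)⟩

theorem exists_vCover {K : Precoverage Scheme.{u}} (hK : RefinedByV K) {T : Scheme.{u}} {R : Sieve T}
    (hR : R ∈ K.toGrothendieck T) :
    ∃ E : PreZeroHypercover.{u + 1} T, IsVCover E ∧ ∀ i, R (E.f i) := by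
  rw [Precoverage.mem_toGrothendieck_iff] at hR
  induction hR with
  | of X S hS => exact hK X S hS
  | top X => exact ⟨PreZeroHypercover.singleton.{u + 1} (𝟙 X), HTopCov.isVCover_of_proper (𝟙 X), fun _ => trivial⟩
  | pullback X S _ Y f ih =>
    obtain ⟨E, hE, hm⟩ := ih
    refine ⟨E.pullback₁ f, HTopCov.isVCover_pullback₁ f E hE, fun i => ?_⟩
    show S (pullback.fst f (E.f i) ≫ f)
    rw [pullback.condition]
    exact S.downward_closed (hm i) _
  | transitive X S R _ _ ihS ihR =>
    obtain ⟨E, hE, hm⟩ := ihS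
    choose F hF hFm using fun i => ihR (hm i)
    exact ⟨E.bind F, HTopCov.isVCover_bind E hE F hF, fun p => hFm p.1 p.2⟩

variable {S : Scheme.{u}}

theorem isSheaf_over_of_etInduced {K : Precoverage Scheme.{u}} (hK : RefinedByV K)
    {P : (Over S)ᵒᵖ ⥤ Type v} (hP : EtInd.EtInduced P) :
    Presieve.IsSheaf (K.toGrothendieck.over S) P := by
  intro Y R hR
  obtain ⟨E, hE, hm⟩ := exists_vCover hK ((GrothendieckTopology.mem_over_iff _ _).1 hR)
  refine EtInd.isSheafFor_fam hP (T := fun i => Over.mk (E.f i ≫ Y.hom)) (fun i => Over.homMk (E.f i))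
    (fun y => exists_point_of_vCover E hE y) (fun V k _ O hO => ?_) R fun i => (Sieve.overEquiv_iff R (E.f i)).1 (hm i)
  exact isOpen_of_vCover (E.pullback₁ k.left) (HTopCov.isVCover_pullback₁ k.left E hE) O hO

theorem isVCover_of_mem_etale {T : Scheme.{u}} (E : PreZeroHypercover.{w} T)
    (h : E.presieve₀ ∈ Scheme.etalePrecoverage T) :
    (∀ i, LocallyOfFinitePresentation (E.f i)) ∧ IsVCover E := by
  have he : ∀ i, Etale (E.f i) := ((Scheme.presieve₀_mem_precoverage_iff E).1 h).2
  have hfpqc := Scheme.fppfPrecoverage_le_fpqcPrecoverage _ (BigSite.etalePrecoverage_le_fppfPrecoverage _ h)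
  haveI : QuasiCompactCover E := Scheme.presieve₀_mem_qcPrecoverage_iff.1 hfpqc.1
  exact ⟨fun i => haveI := he i; inferInstance,
    HTopCov.isVCover_of_qc E fun i => haveI := he i; inferInstance⟩

theorem etale_le_ph : Scheme.etalePrecoverage.{u} ≤ HTop.phPrecoverage.{u} := fun T R hR => by
  obtain ⟨𝒰, rfl⟩ := (Precoverage.mem_iff_exists_zeroHypercover (J := Scheme.etalePrecoverage)).1 hR
  obtain ⟨hlfp, hv⟩ := isVCover_of_mem_etale _ 𝒰.mem₀
  exact (presieve₀_mem_phPrecoverage_iff _).2 ((Groth.Agent.S8976.result _ hlfp).2 hv)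

theorem etale_le_h : Scheme.etalePrecoverage.{u} ≤ HTop.hPrecoverage.{u} := fun T R hR => by
  obtain ⟨𝒰, rfl⟩ := (Precoverage.mem_iff_exists_zeroHypercover (J := Scheme.etalePrecoverage)).1 hR
  obtain ⟨hlfp, hv⟩ := isVCover_of_mem_etale _ 𝒰.mem₀
  exact (presieve₀_mem_hPrecoverage_iff _).2 ⟨hlfp, hv⟩

theorem J_etale_le {K : Precoverage Scheme.{u}} (h : Scheme.etalePrecoverage ≤ K) :
    QuotSh.J Scheme.etalePrecoverage S ≤ K.toGrothendieck.over S :=
  fun _ _ hR => Precoverage.toGrothendieck_mono h _ hR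

section General

variable {J : GrothendieckTopology (Over S)} (F : EtCoh.Ab S)

theorem isSheaf_piPull {K : Precoverage Scheme.{u}} (hK : RefinedByV K) :
    Presheaf.IsSheaf (K.toGrothendieck.over S) ((BigSite.piEtPull Scheme.etalePrecoverage S).obj F).obj :=
  (Presheaf.isSheaf_iff_isSheaf_forget _ _ (forget AddCommGrpCat.{u + 1})).2
    ((isSheaf_iff_isSheaf_of_type _ _).2 (isSheaf_over_of_etInduced hK (etInduced_piP F)))

variable (hs : Presheaf.IsSheaf J ((BigSite.piEtPull Scheme.etalePrecoverage S).obj F).obj)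
  (hle : QuotSh.J Scheme.etalePrecoverage S ≤ J) [(EtFppf.a S).IsContinuous S.smallEtaleTopology J]

/-- The pullback from the small etale site. -/
noncomputable abbrev genPull : Sheaf J AddCommGrpCat.{u + 1} :=
  ((EtFppf.a S).sheafPullback AddCommGrpCat.{u + 1} S.smallEtaleTopology J).obj F

/-- The unit of the pullback. -/
noncomputable abbrev genUnit : F ⟶
    ((EtFppf.a S).sheafPushforwardContinuous AddCommGrpCat.{u + 1} S.smallEtaleTopology J).obj (genPull F (J := J)) :=
  ((EtFppf.a S).sheafAdjunctionContinuous AddCommGrpCat.{u + 1} S.smallEtaleTopology J).unit.app F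

/-- The pullback as a big etale sheaf. -/
noncomputable abbrev genEt (G : Sheaf J AddCommGrpCat.{u + 1}) :
    Sheaf (QuotSh.J Scheme.etalePrecoverage S) AddCommGrpCat.{u + 1} :=
  ⟨G.obj, fun A => Presieve.isSheaf_of_le _ hle (G.property A)⟩

include hs in
theorem nonempty_genPull_iso (hle : QuotSh.J Scheme.etalePrecoverage S ≤ J) :
    Nonempty (genPull F (J := J) ≅ (⟨((BigSite.piEtPull Scheme.etalePrecoverage S).obj F).obj, hs⟩ :
      Sheaf J AddCommGrpCat.{u + 1})) := by
  let π : Sheaf J AddCommGrpCat.{u + 1} := ⟨((BigSite.piEtPull Scheme.etalePrecoverage S).obj F).obj, hs⟩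
  let adj := (EtFppf.a S).sheafAdjunctionContinuous AddCommGrpCat.{u + 1} S.smallEtaleTopology J
  let φ : genPull F (J := J) ⟶ π := (adj.homEquiv F π).symm
    (ObjectProperty.homMk ((BigSite.piEtAdj Scheme.etalePrecoverage S).unit.app F).hom)
  let ψ : π ⟶ genPull F (J := J) :=
    ObjectProperty.homMk (((BigSite.piEtAdj Scheme.etalePrecoverage S).homEquiv F (genEt hle (genPull F (J := J)))).symm
      (ObjectProperty.homMk (genUnit F (J := J)).hom)).hom
  have hφ : ∀ V : S.Etale, (adj.unit.app F).hom.app (op V) ≫ φ.hom.app (op ((EtFppf.a S).obj V)) =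
      ((BigSite.piEtAdj Scheme.etalePrecoverage S).unit.app F).hom.app (op V) := fun V => by
    have h := (adj.homEquiv F π).apply_symm_apply
      (ObjectProperty.homMk ((BigSite.piEtAdj Scheme.etalePrecoverage S).unit.app F).hom)
    rw [Adjunction.homEquiv_unit] at h
    exact congr(($h).hom.app (op V))
  have hψ : ∀ V : S.Etale, ((BigSite.piEtAdj Scheme.etalePrecoverage S).unit.app F).hom.app (op V) ≫
      ψ.hom.app (op ((EtFppf.a S).obj V)) = (adj.unit.app F).hom.app (op V) := fun V => by
    have h := ((BigSite.piEtAdj Scheme.etalePrecoverage S).homEquiv F (genEt hle (genPull F (J := J)))).apply_symm_apply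
      (ObjectProperty.homMk (genUnit F (J := J)).hom)
    rw [Adjunction.homEquiv_unit] at h
    exact congr(($h).hom.app (op V))
  refine ⟨⟨φ, ψ, (adj.homEquiv F _).injective ?_, ?_⟩⟩
  · rw [Adjunction.homEquiv_unit, Adjunction.homEquiv_unit]
    ext1; ext1; funext V
    show (adj.unit.app F).hom.app V ≫ φ.hom.app _ ≫ ψ.hom.app _ = (adj.unit.app F).hom.app V ≫ 𝟙 _
    exact (Category.assoc _ _ _).symm.trans ((congrArg (· ≫ _) (hφ V.unop)).trans
      ((hψ V.unop).trans (Category.comp_id _).symm))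
  · have h : (ObjectProperty.homMk (ψ ≫ φ).hom :
        (BigSite.piEtPull Scheme.etalePrecoverage S).obj F ⟶ (BigSite.piEtPull Scheme.etalePrecoverage S).obj F) = 𝟙 _ := by
      refine ((BigSite.piEtAdj Scheme.etalePrecoverage S).homEquiv F _).injective ?_
      rw [Adjunction.homEquiv_unit, Adjunction.homEquiv_unit]
      ext1; ext1; funext V
      show ((BigSite.piEtAdj Scheme.etalePrecoverage S).unit.app F).hom.app V ≫ ψ.hom.app _ ≫ φ.hom.app _ =
        ((BigSite.piEtAdj Scheme.etalePrecoverage S).unit.app F).hom.app V ≫ 𝟙 _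
      exact (Category.assoc _ _ _).symm.trans ((congrArg (· ≫ _) (hψ V.unop)).trans
        ((hφ V.unop).trans (Category.comp_id _).symm))
    ext1
    exact congr(($h).hom)

include hs in
/-- Sections of the pullback. -/
theorem genPull_sections (hle : QuotSh.J Scheme.etalePrecoverage S ≤ J) {T : Scheme.{u}} (f : T ⟶ S) :
    Nonempty ((genPull F (J := J)).obj.obj (op (Over.mk f)) ≅
      ((EtCoh.pull f).obj F).obj.obj (op (EtCoh.top T))) := by
  obtain ⟨e⟩ := nonempty_genPull_iso F hs hle
  exact ⟨((sheafToPresheaf _ _).mapIso e).app (op (Over.mk f)) ≪≫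
    ((BigSite.piEtPull Scheme.etalePrecoverage S).obj F).obj.mapIso
      (Over.isoMk (Iso.refl _) ((Category.id_comp _).trans (Category.id_comp _).symm) :
        (Over.map f).obj ((EtFppf.a T).obj (EtCoh.top T)) ≅ Over.mk f).op ≪≫
    (((sheafToPresheaf _ _).mapIso (resAlongPiPullIso f F)).app (op (EtCoh.top T))).symm⟩

end General

theorem aPhPull_sections [HTop.APhCont S] (F : EtCoh.Ab S) {T : Scheme.{u}} (f : T ⟶ S) :
    Nonempty (((HTop.aPhPull S).obj F).obj.obj (op (Over.mk f)) ≅
      ((EtCoh.pull f).obj F).obj.obj (op (EtCoh.top T))) :=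
  genPull_sections F (isSheaf_piPull F refinedByV_ph) (J_etale_le etale_le_ph) f

theorem aHPull_sections [HTop.AHCont S] (F : EtCoh.Ab S) {T : Scheme.{u}} (f : T ⟶ S) :
    Nonempty (((HTop.aHPull S).obj F).obj.obj (op (Over.mk f)) ≅
      ((EtCoh.pull f).obj F).obj.obj (op (EtCoh.top T))) :=
  genPull_sections F (isSheaf_piPull F refinedByV_h) (J_etale_le etale_le_h) f

end Groth.Agent.BigSiteLib
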