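import Groth.Agent.ProperBC13.Main
import Groth.Agent.BigSiteLib.FinitePushIso
import Groth.Agent.BigSiteLib.APull
import Groth.Agent.BigSiteLib.PiVTop

/-!
# Proper direct images commute with pullback to the big sites
-/

set_option autoImplicit false

universe u

open CategoryTheory CategoryTheory.Limits AlgebraicGeometry Opposite

namespace Groth.Agent.BigSiteLib

set_option backward.isDefEq.respectTransparency.types false

variable {X Y : Scheme.{u}} (f : X ⟶ Y) [IsProper f] (F : EtCoh.Ab X)

theorem isIso_theta_of_proper : IsIso (theta f F) := by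
  refine isIso_of_resEtAlong _ fun {Y'} g => ?_
  have hsq := IsPullback.of_hasPullback f g
  haveI hβ : IsIso (smallComp f F hsq) :=
    ProperBC13.isIso_of_unit f g (pullback.snd f g) (pullback.fst f g) hsq F _ (smallComp_unit f F hsq)
  have e : (BigSite.resEtAlong Scheme.etalePrecoverage g).map (theta f F) =
      (resAlongPiPullIso g ((EtCoh.push f).obj F)).inv ≫ smallComp f F hsq ≫
        (EtCoh.push (pullback.snd f g)).map (resAlongPiPullIso (pullback.fst f g) F).hom ≫
        (resAlongPushIso f hsq).inv.app (piX F) := by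
    simp only [smallComp, Category.assoc, Iso.inv_hom_id_assoc]
    rw [← Functor.map_comp_assoc, Iso.inv_hom_id, CategoryTheory.Functor.map_id, Category.id_comp, Iso.hom_inv_id_app]
    exact (Category.comp_id _).symm
  rw [e]
  infer_instance

/-- Pullback and proper direct image commute on the big fppf site. -/
theorem nonempty_aPull_push_iso [EtFppf.ACont X] [EtFppf.ACont Y] :
    Nonempty ((EtFppf.aPull Y).obj ((EtCoh.push f).obj F) ≅
      (EtFppf.pushBig f).obj ((EtFppf.aPull X).obj F)) := by
  haveI := isIso_theta_of_proper f F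
  let e : piFppf ((EtCoh.push f).obj F) ≅ (EtFppf.pushBig f).obj (piFppf F) :=
    (fullyFaithfulSheafToPresheaf _ _).preimageIso
      (show (piFppf ((EtCoh.push f).obj F)).obj ≅ _ from
        (sheafToPresheaf (QuotSh.J Scheme.etalePrecoverage Y) _).mapIso (asIso (theta f F)))
  exact ⟨aPullIso _ ≪≫ e ≪≫ (EtFppf.pushBig f).mapIso (aPullIso F).symm⟩

/-- Pullback and proper direct image commute on big sites where the pullbacks are sheaves. -/
theorem nonempty_genPull_push_iso {JX : GrothendieckTopology (Over X)} {JY : GrothendieckTopology (Over Y)}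
    [(EtFppf.a X).IsContinuous X.smallEtaleTopology JX] [(EtFppf.a Y).IsContinuous Y.smallEtaleTopology JY]
    [(Over.pullback f).IsContinuous JY JX]
    (hX : Presheaf.IsSheaf JX ((BigSite.piEtPull Scheme.etalePrecoverage X).obj F).obj)
    (hY : Presheaf.IsSheaf JY ((BigSite.piEtPull Scheme.etalePrecoverage Y).obj ((EtCoh.push f).obj F)).obj)
    (lX : QuotSh.J Scheme.etalePrecoverage X ≤ JX) (lY : QuotSh.J Scheme.etalePrecoverage Y ≤ JY) :
    Nonempty (genPull ((EtCoh.push f).obj F) (J := JY) ≅
      ((Over.pullback f).sheafPushforwardContinuous AddCommGrpCat.{u + 1} JY JX).obj (genPull F (J := JX))) := by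
  haveI := isIso_theta_of_proper f F
  obtain ⟨eX⟩ := nonempty_genPull_iso F hX lX
  obtain ⟨eY⟩ := nonempty_genPull_iso ((EtCoh.push f).obj F) hY lY
  let e : (⟨_, hY⟩ : Sheaf JY AddCommGrpCat.{u + 1}) ≅
      ((Over.pullback f).sheafPushforwardContinuous AddCommGrpCat.{u + 1} JY JX).obj ⟨_, hX⟩ :=
    (fullyFaithfulSheafToPresheaf _ _).preimageIso
      (show ((BigSite.piEtPull Scheme.etalePrecoverage Y).obj ((EtCoh.push f).obj F)).obj ≅ _ from
        (sheafToPresheaf (QuotSh.J Scheme.etalePrecoverage Y) _).mapIso (asIso (theta f F)))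
  exact ⟨eY ≪≫ e ≪≫ (Functor.mapIso _ eX.symm)⟩

theorem nonempty_aPhPull_push_iso [HTop.APhCont X] [HTop.APhCont Y] [HTop.PullPhCont f] :
    Nonempty ((HTop.aPhPull Y).obj ((EtCoh.push f).obj F) ≅
      (HTop.pushBigPh f).obj ((HTop.aPhPull X).obj F)) :=
  nonempty_genPull_push_iso f F (isSheaf_piPull F refinedByV_ph) (isSheaf_piPull _ refinedByV_ph)
    (J_etale_le etale_le_ph) (J_etale_le etale_le_ph)

theorem nonempty_aHPull_push_iso [HTop.AHCont X] [HTop.AHCont Y] [HTop.PullHCont f] :
    Nonempty ((HTop.aHPull Y).obj ((EtCoh.push f).obj F) ≅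
      (HTop.pushBigH f).obj ((HTop.aHPull X).obj F)) :=
  nonempty_genPull_push_iso f F (isSheaf_piPull F refinedByV_h) (isSheaf_piPull _ refinedByV_h)
    (J_etale_le etale_le_h) (J_etale_le etale_le_h)

end Groth.Agent.BigSiteLib
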