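import Groth.Agent.BigSiteLib.AlmostPush
import Mathlib.CategoryTheory.Sites.EpiMono
import Mathlib.Algebra.Homology.ShortComplex.ExactFunctor
import Mathlib.CategoryTheory.Adjunction.Limits

/-!
# Exactness of direct images under almost cocontinuous base change
-/

set_option autoImplicit false

universe u

open CategoryTheory CategoryTheory.Limits AlgebraicGeometry Opposite

namespace Groth.Agent.BigSiteLib

variable {X Y : Scheme.{u}} (f : X ⟶ Y) (K : Precoverage Scheme.{u})
  (hK : BigSite.IsAlmostCocontinuous (Over.pullback f) (QuotSh.J K Y) (QuotSh.J K X))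

include hK

theorem pushBig_preservesConnected (I : Type) [SmallCategory I] [IsConnected I] :
    PreservesColimitsOfShape I (BigSite.pushBig K f (Type (u + 1))) :=
  preservesColimitsOfShape_pushforward (Over.pullback f) hK I

theorem pushBig_exact : PreservesFiniteColimits (BigSite.pushBig K f AddCommGrpCat.{u + 1}) := by
  haveI := pushBig_preservesConnected f K hK WalkingSpan
  haveI : (BigSite.pushBig K f (Type (u + 1))).PreservesEpimorphisms := inferInstance
  haveI : (BigSite.pushBig K f AddCommGrpCat.{u + 1}).IsRightAdjoint := (BigSite.bigAdj K f AddCommGrpCat.{u + 1}).isRightAdjoint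
  have hepi : ∀ {F G : BigSite.Ab K X} (g : F ⟶ G) [Epi g], Epi ((BigSite.pushBig K f AddCommGrpCat.{u + 1}).map g) := by
    intro F G g _
    let U := forget AddCommGrpCat.{u + 1}
    have h1 : Sheaf.IsLocallySurjective g := (Sheaf.isLocallySurjective_iff_epi' AddCommGrpCat.{u + 1} g).2 inferInstance
    have h2 : Sheaf.IsLocallySurjective ((sheafCompose (QuotSh.J K X) U).map g) := by
      constructor
      intro V s
      exact h1.imageSieve_mem s
    haveI : Epi ((sheafCompose (QuotSh.J K X) U).map g) := (Sheaf.isLocallySurjective_iff_epi' (Type (u + 1)) _).1 h2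
    haveI h3 : Epi ((BigSite.pushBig K f (Type (u + 1))).map ((sheafCompose (QuotSh.J K X) U).map g)) := inferInstance
    have h4 := (Sheaf.isLocallySurjective_iff_epi' (Type (u + 1)) _).2 h3
    refine (Sheaf.isLocallySurjective_iff_epi' AddCommGrpCat.{u + 1} _).1 ⟨fun {V} s => ?_⟩
    exact h4.imageSieve_mem s
  exact (Functor.preservesFiniteColimits_iff_forall_exact_map_and_epi _).2 fun S hS => by
    have := hS.epi_g
    exact ⟨((Functor.preservesFiniteLimits_iff_forall_exact_map_and_mono _).1 inferInstance S hS).1, hepi S.g⟩

end Groth.Agent.BigSiteLib
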