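import Groth.Agent.EtLC12.AffineSheafCrit

/-!
# Sheaves of types on the small etale site
-/

set_option autoImplicit false
set_option backward.isDefEq.respectTransparency false
set_option backward.isDefEq.respectTransparency.types false

universe w u

open CategoryTheory CategoryTheory.Limits AlgebraicGeometry Opposite

namespace Groth.Agent.BigSiteLib.TypeSheafCrit

open Groth.Agent.EtFound Groth.Agent.EtLC12
open Groth.Agent.EtLC12.AffineSheafCrit (openObj openι affine_cover isOpenImmersion_left)

variable {X : Scheme.{u}} (P : X.Etaleᵒᵖ ⥤ Type w)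

/-- The sheaf condition for families of jointly surjective open immersions. -/
def ZariskiSheaf : Prop :=
  ∀ (U : X.Etale) {I : Type u} (W : I → X.Etale) (g : ∀ i, W i ⟶ U), (∀ i, IsOpenImmersion (g i).left) →
    (∀ x : U.left, ∃ (i : I) (w : (W i).left), (g i).left.base w = x) →
    Presieve.IsSheafFor P (Presieve.ofArrows W g)

/-- The sheaf condition for surjective morphisms of affine objects. -/
def AffineSheaf : Prop :=
  ∀ (V T : X.Etale) (g : T ⟶ V), IsAffine V.left → IsAffine T.left → Surjective g.left →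
    Function.Injective (P.map g.op) ∧
      ∀ t : P.obj (op T), (P.map (pullback.fst g g).op) t = (P.map (pullback.snd g g).op) t →
        ∃ z, (P.map g.op) z = t

variable {P}

lemma map_comp_apply {A B C : X.Etale} (a : A ⟶ B) (b : B ⟶ C) (x : P.obj (op C)) :
    (P.map (a ≫ b).op) x = (P.map a.op) ((P.map b.op) x) :=
  ConcreteCategory.congr_hom (P.map_comp b.op a.op) x

variable (hZ : ZariskiSheaf P) (hA : AffineSheaf P)
include hZ hA

lemma separated_affine {V : X.Etale} [IsAffine V.left] (R : Sieve V) (hR : R ∈ X.smallEtaleTopology V)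
    (x y : P.obj (op V)) (h : ∀ {Y : X.Etale} (f : Y ⟶ V), R f → (P.map f.op) x = (P.map f.op) y) :
    x = y := by
  obtain ⟨n, W, T, g, i, hT, hg, hgR, hi, hcov, -⟩ := AffineCartan.exists_affine_refinement R hR
  refine (hA V T g inferInstance hT hg).1 ?_
  haveI := hi
  refine (hZ T (fun k : ULift.{u} (Fin n) => W k.down) (fun k => i k.down) (fun k => isOpenImmersion_left _)
    (fun z => by obtain ⟨k, w, hw⟩ := hcov z; exact ⟨⟨k⟩, w, hw⟩)).isSeparatedFor.ext fun Y f hf => ?_
  obtain ⟨k⟩ := hf
  show (P.map (i k.down).op) ((P.map g.op) x) = (P.map (i k.down).op) ((P.map g.op) y)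
  rw [← map_comp_apply, ← map_comp_apply]
  exact h _ (hgR k.down)

lemma separated {U : X.Etale} (R : Sieve U) (hR : R ∈ X.smallEtaleTopology U)
    (x y : P.obj (op U)) (h : ∀ {Y : X.Etale} (f : Y ⟶ U), R f → (P.map f.op) x = (P.map f.op) y) :
    x = y := by
  refine (hZ U (fun O : U.left.affineOpens => openObj U O.1) (fun O => openι U O.1) (fun O => inferInstance)
    (affine_cover U)).isSeparatedFor.ext fun Y f hf => ?_
  obtain ⟨O⟩ := hf
  haveI : IsAffine (openObj U O.1).left := O.2
  refine separated_affine hZ hA (R.pullback (openι U O.1)) (X.smallEtaleTopology.pullback_stable _ hR) _ _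
    fun {Z} a ha => ?_
  show (P.map a.op) ((P.map (openι U O.1).op) x) = (P.map a.op) ((P.map (openι U O.1).op) y)
  rw [← map_comp_apply, ← map_comp_apply]
  exact h _ ha

lemma exists_glue_affine {V : X.Etale} [IsAffine V.left] (R : Sieve V) (hR : R ∈ X.smallEtaleTopology V)
    (x : Presieve.FamilyOfElements P R.arrows)
    (hx : x.Compatible) : ∃ z, x.IsAmalgamation z := by
  obtain ⟨n, W, T, g, i, hT, hg, hgR, hi, hcov, -⟩ := AffineCartan.exists_affine_refinement R hR
  haveI := hi
  have hcovT : ∀ z : T.left, ∃ (k : ULift.{u} (Fin n)) (w : (W k.down).left), (i k.down).left.base w = z :=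
    fun z => by obtain ⟨k, w, hw⟩ := hcov z; exact ⟨⟨k⟩, w, hw⟩
  obtain ⟨t, ht, -⟩ := (Presieve.isSheafFor_arrows_iff _ _).1
    (hZ T (fun k : ULift.{u} (Fin n) => W k.down) (fun k => i k.down) (fun k => isOpenImmersion_left _) hcovT)
    (fun k => x (i k.down ≫ g) (hgR k.down))
    (fun k l Y a b hab => hx a b (hgR k.down) (hgR l.down) (by rw [← Category.assoc, hab, Category.assoc]))
  have hsieve : Sieve.ofArrows (fun k : ULift.{u} (Fin n) => W k.down) (fun k => i k.down) ∈
      X.smallEtaleTopology T := (mem_topology_iff _).2 fun z => by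
    obtain ⟨k, w, hw⟩ := hcovT z
    exact ⟨_, i k.down, w, Sieve.ofArrows_mk _ _ k, hw⟩
  have key : ∀ {Y : X.Etale} (h : Y ⟶ T) (hh : R (h ≫ g)), (P.map h.op) t = x (h ≫ g) hh := by
    intro Y h hh
    refine separated hZ hA _ (X.smallEtaleTopology.pullback_stable h hsieve) _ _ fun {Z} f hf => ?_
    obtain ⟨Z', a, q, hq, e⟩ := hf
    obtain ⟨k⟩ := hq
    rw [← map_comp_apply, ← e, map_comp_apply]
    exact (congrArg (P.map a.op) (ht k)).trans
      (hx a f (hgR k.down) hh (by rw [← Category.assoc, e, Category.assoc]))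
  have hpair : (P.map (pullback.fst g g).op) t = (P.map (pullback.snd g g).op) t := by
    refine separated hZ hA _ (X.smallEtaleTopology.pullback_stable (pullback.fst g g ≫ g) hR) _ _
      fun {Y} f hf => ?_
    have hf' : R ((f ≫ pullback.fst g g) ≫ g) := by rw [Category.assoc]; exact hf
    have hf'' : R ((f ≫ pullback.snd g g) ≫ g) := by rw [Category.assoc, ← pullback.condition]; exact hf
    rw [← map_comp_apply, ← map_comp_apply, key _ hf', key _ hf'']
    congr 1
    rw [Category.assoc, Category.assoc, pullback.condition]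
  obtain ⟨z, hz⟩ := (hA V T g inferInstance hT hg).2 t hpair
  have hgsieve : Sieve.ofArrows (fun _ : PUnit.{u + 1} => T) (fun _ => g) ∈ X.smallEtaleTopology V :=
    (mem_topology_iff _).2 fun v => by
      obtain ⟨w, hw⟩ := hg.1 v
      exact ⟨T, g, w, Sieve.ofArrows_mk _ _ PUnit.unit, hw⟩
  refine ⟨z, fun Y f hf => separated hZ hA _ (X.smallEtaleTopology.pullback_stable f hgsieve) _ _ fun {Z} q hq => ?_⟩
  obtain ⟨Z', a, g', hg', e⟩ := hq
  obtain ⟨⟩ := hg'
  have ha : R (a ≫ g) := e ▸ R.downward_closed hf q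
  show (P.map q.op) ((P.map f.op) z) = (P.map q.op) (x f hf)
  rw [← map_comp_apply, ← e, map_comp_apply, hz, key a ha]
  have h := hx (𝟙 Z) q ha hf (by rw [Category.id_comp, e])
  rw [op_id, CategoryTheory.Functor.map_id] at h
  exact h

/-- A presheaf satisfying both conditions is a sheaf. -/
theorem isSheaf : Presieve.IsSheaf X.smallEtaleTopology P := by
  intro U R hR x hx
  haveI : ∀ O : U.left.affineOpens, IsAffine (openObj U O.1).left := fun O => O.2
  choose z hz using fun O : U.left.affineOpens => exists_glue_affine hZ hA (R.pullback (openι U O.1))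
    (X.smallEtaleTopology.pullback_stable _ hR)
    (x.pullback (openι U O.1) : Presieve.FamilyOfElements _ (R.pullback (openι U O.1)).arrows) (hx.pullback _)
  obtain ⟨s, hs, -⟩ := (Presieve.isSheafFor_arrows_iff _ _).1
    (hZ U (fun O : U.left.affineOpens => openObj U O.1) (fun O => openι U O.1) (fun O => inferInstance)
      (affine_cover U)) z fun O O' Y a b hab => by
    refine separated hZ hA _ (X.smallEtaleTopology.pullback_stable (a ≫ openι U O.1) hR) _ _ fun {Z} f hf => ?_
    show (P.map f.op) ((P.map a.op) (z O)) = (P.map f.op) ((P.map b.op) (z O'))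
    have h₁ : (R.pullback (openι U O.1)) (f ≫ a) := by
      show R ((f ≫ a) ≫ openι U O.1)
      rw [Category.assoc]; exact hf
    have h₂ : (R.pullback (openι U O'.1)) (f ≫ b) := by
      show R ((f ≫ b) ≫ openι U O'.1)
      rw [Category.assoc, ← hab]; exact hf
    rw [← map_comp_apply, ← map_comp_apply]
    refine (hz O (f ≫ a) h₁).trans (Eq.trans ?_ (hz O' (f ≫ b) h₂).symm)
    show x ((f ≫ a) ≫ openι U O.1) h₁ = x ((f ≫ b) ≫ openι U O'.1) h₂
    congr 1
    rw [Category.assoc, Category.assoc, hab]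
  have hcover : Sieve.ofArrows (fun O : U.left.affineOpens => openObj U O.1) (fun O => openι U O.1) ∈
      X.smallEtaleTopology U := (mem_topology_iff _).2 fun y => by
    obtain ⟨O, w, hw⟩ := affine_cover U y
    exact ⟨_, openι U O.1, w, Sieve.ofArrows_mk _ _ O, hw⟩
  refine ⟨s, fun Y f hf => separated hZ hA _ (X.smallEtaleTopology.pullback_stable f hcover) _ _ fun {Z} q hq => ?_,
    fun s' hs' => separated hZ hA R hR _ _ fun f hf => ?_⟩
  · obtain ⟨Z', a, g', hg', e⟩ := hq
    obtain ⟨O⟩ := hg'
    have ha : R (a ≫ openι U O.1) := e ▸ R.downward_closed hf q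
    show (P.map q.op) ((P.map f.op) s) = (P.map q.op) (x f hf)
    rw [← map_comp_apply, ← e, map_comp_apply]
    refine (congrArg (P.map a.op) (hs O)).trans ((hz O a ha).trans ?_)
    show x (a ≫ openι U O.1) ha = (P.map q.op) (x f hf)
    have h := hx (𝟙 Z) q ha hf (by rw [Category.id_comp, e])
    rw [op_id, CategoryTheory.Functor.map_id] at h
    exact h
  · refine (hs' f hf).trans (Eq.symm ?_)
    refine separated hZ hA _ (X.smallEtaleTopology.pullback_stable f hcover) _ _ fun {Z} q hq => ?_
    obtain ⟨Z', a, g', hg', e⟩ := hq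
    obtain ⟨O⟩ := hg'
    have ha : R (a ≫ openι U O.1) := e ▸ R.downward_closed hf q
    show (P.map q.op) ((P.map f.op) s) = (P.map q.op) (x f hf)
    rw [← map_comp_apply, ← e, map_comp_apply]
    refine (congrArg (P.map a.op) (hs O)).trans ((hz O a ha).trans ?_)
    show x (a ≫ openι U O.1) ha = (P.map q.op) (x f hf)
    have h := hx (𝟙 Z) q ha hf (by rw [Category.id_comp, e])
    rw [op_id, CategoryTheory.Functor.map_id] at h
    exact h

omit hZ hA

theorem openImm_le : ((@IsOpenImmersion : MorphismProperty Scheme.{u}) ≤ EtCoh.etaleMP.{u}) := fun _ _ f hf => by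
  haveI := hf
  exact inferInstanceAs (Etale f)

theorem mem_zariski_iff {U : X.Etale} (R : Sieve U) :
    R ∈ X.smallGrothendieckTopology (P := @IsOpenImmersion) U ↔
      ∀ x : U.left, ∃ (V : X.Etale) (g : V ⟶ U) (v : V.left), R g ∧ IsOpenImmersion g.left ∧ g.left.base v = x := by
  rw [Scheme.smallGrothendieckTopology_eq_toGrothendieck_smallPretopology X openImm_le]
  exact (Scheme.mem_toGrothendieck_smallPretopology U R).trans <| forall_congr' fun x =>
    ⟨fun ⟨V, g, v, h, h', hv⟩ => ⟨V, g, v, h, h', hv⟩, fun ⟨V, g, v, h, h', hv⟩ => ⟨V, g, v, h, h', hv⟩⟩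

theorem isSheaf_iff (F : X.Etaleᵒᵖ ⥤ Type w) :
    Presieve.IsSheaf X.smallEtaleTopology F ↔
      Presieve.IsSheaf (X.smallGrothendieckTopology (P := @IsOpenImmersion)) F ∧
        ∀ (U V : X.Etale) [IsAffine U.left] [IsAffine V.left] (f : V ⟶ U) [Surjective f.left],
          Presieve.IsSheafFor F (Presieve.singleton f) := by
  constructor
  · refine fun h => ⟨fun U R hR => h R ((mem_topology_iff R).2 fun x => ?_), fun U V _ _ f _ => ?_⟩
    · obtain ⟨V, g, v, h₁, -, h₂⟩ := (mem_zariski_iff R).1 hR x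
      exact ⟨V, g, v, h₁, h₂⟩
    · rw [Presieve.isSheafFor_iff_generate]
      refine h _ ((mem_topology_iff _).2 fun x => ?_)
      obtain ⟨v, hv⟩ := f.left.surjective x
      exact ⟨V, f, v, ⟨V, 𝟙 _, f, ⟨⟩, Category.id_comp _⟩, hv⟩
  · rintro ⟨hz, ha⟩
    refine isSheaf (P := F) (fun U I W g hg hcov => ?_) (fun V T g hV hT hg => ?_)
    · rw [Presieve.isSheafFor_iff_generate]
      refine hz _ ((mem_zariski_iff _).2 fun x => ?_)
      obtain ⟨i, w, hw⟩ := hcov x
      exact ⟨W i, g i, w, ⟨W i, 𝟙 _, g i, ⟨i⟩, Category.id_comp _⟩, hg i, hw⟩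
    · haveI := hV; haveI := hT; haveI := hg
      have hs := ha V T g
      rw [← Presieve.ofArrows_pUnit.{u + 1}] at hs
      have hs' := (Presieve.isSheafFor_arrows_iff _ _).1 hs
      refine ⟨fun a b hab => hs.isSeparatedFor.ext fun Y f hf => ?_, fun t ht => ?_⟩
      · obtain ⟨⟩ := hf
        exact hab
      · obtain ⟨z, hz, -⟩ := hs' (fun _ => t) fun _ _ Y a b hab => by
          have h := congrArg (fun m => F.map (pullback.lift a b hab).op m) ht
          simp only [← map_comp_apply, pullback.lift_fst, pullback.lift_snd] at h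
          exact h
        exact ⟨z, hz PUnit.unit⟩

end Groth.Agent.BigSiteLib.TypeSheafCrit
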