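import Groth.Agent.BigSiteLib.ExactRes

/-!
# Restriction from the big Zariski site to opens
-/

set_option autoImplicit false

universe u

open CategoryTheory CategoryTheory.Limits AlgebraicGeometry Opposite TopologicalSpace

namespace Groth.Agent.BigSiteLib

open Adeq2Lib

theorem cocont_zar (S : Scheme.{u}) :
    (BigSite.zarIncl S).IsCocontinuous (Opens.grothendieckTopology S) (QuotSh.J Scheme.zariskiPrecoverage S) where
  cover_lift {U R} hR := fun x hx => by
    have hR' : Sieve.overEquiv _ R ∈ Scheme.zariskiPrecoverage.toGrothendieck ((BigSite.zarIncl S).obj U).left := hR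
    rw [Precoverage.mem_toGrothendieck_iff_of_isStableUnderComposition] at hR'
    obtain ⟨R₀, hR₀, hle⟩ := hR'
    obtain ⟨ι, Z, φ, rfl⟩ := R₀.exists_eq_ofArrows
    obtain ⟨hs, ho⟩ := (Scheme.ofArrows_mem_precoverage_iff (P := @IsOpenImmersion)).1 hR₀
    obtain ⟨i, y, hy⟩ := hs (⟨x, hx⟩ : U.toScheme)
    let j := φ i
    have hj : Presieve.ofArrows Z φ j := Presieve.ofArrows.mk i
    haveI : IsOpenImmersion j := ho i
    let W : S.Opens := U.ι ''ᵁ j.opensRange
    have hW : W ≤ U := U.ι_image_le _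
    have hxW : x ∈ W := ⟨⟨x, hx⟩, ⟨y, hy⟩, rfl⟩
    refine ⟨W, homOfLE hW, ?_, hxW⟩
    show R ((BigSite.zarIncl S).map (homOfLE hW))
    have hmem : R (Over.homMk j : Over.mk (j ≫ U.ι) ⟶ (BigSite.zarIncl S).obj U) := (Sieve.overEquiv_iff R j).1 (hle _ _ hj)
    have hrange : Set.range (S.homOfLE hW).base ⊆ Set.range j.base := by
      rintro _ ⟨z, rfl⟩
      obtain ⟨⟨z', hz'⟩, hz₁, hz₂⟩ := z.2
      obtain ⟨w, hw⟩ := hz₁
      refine ⟨w, hw.trans ?_⟩
      exact (U.ι.isOpenEmbedding.injective (hz₂.trans (by rw [← Scheme.Hom.comp_apply, Scheme.homOfLE_ι]; rfl)))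
    let l : (BigSite.zarIncl S).obj W ⟶ Over.mk (j ≫ U.ι) := Over.homMk (IsOpenImmersion.lift j (S.homOfLE hW) hrange) (by
      show _ ≫ j ≫ U.ι = W.ι
      exact (IsOpenImmersion.lift_fac_assoc j (S.homOfLE hW) hrange U.ι).trans (Scheme.homOfLE_ι _ _))
    have hfac : l ≫ Over.homMk j = (BigSite.zarIncl S).map (homOfLE hW) := Over.OverMorphism.ext (IsOpenImmersion.lift_fac _ _ _)
    rw [← hfac]
    exact R.downward_closed hmem l

theorem flq_res {S : Scheme.{u}} (K : Precoverage Scheme.{u}) [BigSite.ZarCont K S] (I : BigSite.Ab K S) [Injective I] :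
    ZarFl.Flq ((BigSite.resZar K S).obj I) := fun V U h => by
  classical
  let m := (BigSite.zarIncl S).map (homOfLE h)
  haveI : Mono m := (Over.forget S).mono_of_mono_map (inferInstanceAs (Mono (S.homOfLE h)))
  haveI : Injective I.obj := Injective.injective_of_adjoint (sheafificationAdjunction _ _) I
  haveI : Mono (AffVan.toCofree I.obj) := by
    have : ∀ W, Mono ((AffVan.toCofree I.obj).app W) := fun W => (AddCommGrpCat.mono_iff_injective _).2
      fun s s' hs => by
        have h : (I.obj.map (𝟙 W.unop).op).hom s = (I.obj.map (𝟙 W.unop).op).hom s' := congrFun (congrFun hs W.unop) (𝟙 _)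
        rwa [op_id, CategoryTheory.Functor.map_id] at h
    exact NatTrans.mono_of_mono_app _
  let ρ := Injective.factorThru (𝟙 I.obj) (AffVan.toCofree I.obj)
  intro x
  let y : (AffVan.cofree I.obj).obj (op ((BigSite.zarIncl S).obj U)) := fun W k =>
    if hk : ∃ l : W ⟶ (BigSite.zarIncl S).obj V, l ≫ m = k then (I.obj.map hk.choose.op).hom x else 0
  refine ⟨(ρ.app (op ((BigSite.zarIncl S).obj U))).hom y, ?_⟩
  refine (ConcreteCategory.congr_hom (ρ.naturality m.op) y).symm.trans ?_
  have hy : ((AffVan.cofree I.obj).map m.op).hom y = ((AffVan.toCofree I.obj).app (op ((BigSite.zarIncl S).obj V))).hom x :=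
    funext₂ fun W k => by
      have hk : ∃ l : W ⟶ (BigSite.zarIncl S).obj V, l ≫ m = k ≫ m := ⟨k, rfl⟩
      show (if hk : ∃ l : W ⟶ (BigSite.zarIncl S).obj V, l ≫ m = k ≫ m then (I.obj.map hk.choose.op).hom x else 0) =
        (I.obj.map k.op).hom x
      rw [dif_pos hk, (cancel_mono m).1 hk.choose_spec]
  refine (congrArg (ρ.app _).hom hy).trans ?_
  exact ConcreteCategory.congr_hom (congrArg (fun α => NatTrans.app α _) (Injective.comp_factorThru (𝟙 I.obj) (AffVan.toCofree I.obj))) x

theorem H_resZar_iso (X : Scheme.{u}) [BigSite.ZarCont Scheme.zariskiPrecoverage X]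
    (F : BigSite.Ab Scheme.zariskiPrecoverage X) (p : ℕ) :
    Nonempty (EtZar.H ((BigSite.resZar Scheme.zariskiPrecoverage X).obj F) p ≃+
      BigSite.H Scheme.zariskiPrecoverage X F p) := by
  haveI := cocont_zar X
  haveI : (BigSite.resZar Scheme.zariskiPrecoverage X).IsLeftAdjoint :=
    ((BigSite.zarIncl X).sheafAdjunctionCocontinuous AddCommGrpCat.{u + 1} _ _).isLeftAdjoint
  haveI : (BigSite.resZar Scheme.zariskiPrecoverage X).IsRightAdjoint := (BigSite.piZarAdj Scheme.zariskiPrecoverage X).isRightAdjoint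
  exact H_iso_of_exact (BigSite.zarIncl X) (T := (⊤ : X.Opens)) (IsTerminal.ofUnique _) Over.mkIdTerminal
    (Over.isoMk X.topIso (Category.comp_id _)) (fun I _ n => ZarFl.subsingleton_H_of_flq n _ (flq_res _ I)) p F

end Groth.Agent.BigSiteLib
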